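import Mathlib
import Cfsg.Agent.H613.Contrib
import Cfsg.Agent.S0925

/-!
# Columns of a block at `p`-sections

`u` a `p`-element of `G`, `H = C_G(u)`, `B` a block of `G`.  In terms of
`wt p u χ η = |H|⁻¹ ∑_{y ∈ H p-regular} χ (u y) * conj (η y)` (`H613.Contrib`):

* `sum_wt_mul_conj_wt_gen`: `∑_{ψ ∈ B} wt ψ η * conj (wt ψ η')` for any `η, η'`;
* `wt_eq_zero`: `wt p u ψ η = 0` for `ψ ∈ B` if the block of `η` does not induce `B`;
* `sum_wt_ne_block`: the columns of two different blocks of `H` are orthogonal;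
* `sum_wt_not_conj`: the columns at two non-conjugate `p`-elements are orthogonal;
* `apply_eq_zero_of_wt`: a class function `f` with `wt p u f η = 0` for all `η` vanishes on `u y`.
-/

set_option autoImplicit false
set_option linter.unusedSectionVars false

open Cfsg
open scoped ComplexConjugate

namespace Cfsg.Agent.H639

open Cfsg.Agent.Blocks.Blau Cfsg.Agent.Blocks.Local Cfsg.Agent.Characters
open Cfsg.Agent.H613.RegGram Cfsg.Agent.H613.Contrib
open Cfsg.Agent.Blocks.Basic (isPBlock_blockOf mem_blockOf_self isPBlock_eq_blockOf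
  isPBlock_eq_of_mem)

variable {G : Type*} [Group G] [Finite G] {p : ℕ} [Fact p.Prime] {M : Ideal AlgInt}

theorem wt_eq_sum {H : Subgroup G} [Fintype H] (u : G) (ψ : G → ℂ) (η : H → ℂ)
    [DecidablePred fun y : H => ¬ p ∣ orderOf y] :
    wt p u ψ η = (Nat.card H : ℂ)⁻¹ *
      ∑ y : H with ¬ p ∣ orderOf y, ψ (u * (y : G)) * conj (η y) := by
  rw [wt_def, rg_def, pair_eq_sum_filter]

/-- The Gram matrix of the columns at `u`. -/
theorem sum_wt_mul_conj_wt_gen (hM : IsPModular p M) {u : G} (hu : ∃ k : ℕ, orderOf u = p ^ k)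
    {H : Subgroup G} [Fintype H] (hH : H = Subgroup.centralizer ({u} : Set G))
    {B : Set (IrrCharacter G)} [Fintype B] (hB : IsPBlock M B)
    {A : Set (IrrCharacter H)} [Fintype A]
    (hA : ∀ ξ : IrrCharacter H, ξ ∈ A ↔ IsInducedBlock M H (blockOf M (ξ : H → ℂ)) B)
    (η η' : H → ℂ) :
    ∑ ψ : B, wt p u (ψ : G → ℂ) η * conj (wt p u (ψ : G → ℂ) η') =
      ∑ ξ : A, rg p (ξ : H → ℂ) η * conj (rg p (ξ : H → ℂ) η') := by
  classical
  have := isPrime_of_isPModular hM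
  have := Fintype.ofFinite G
  have := Core.finite_irr (G := H)
  have := Fintype.ofFinite (IrrCharacter H)
  have := Core.finite_irr (G := G)
  have := Fintype.ofFinite (IrrCharacter G)
  have hsec : ∀ y y' : H, ¬ p ∣ orderOf y → ¬ p ∣ orderOf y' →
      ∑ ψ : B, (ψ : G → ℂ) (u * (y : G)) * conj ((ψ : G → ℂ) (u * (y' : G))) =
        ∑ ξ : A, (ξ : H → ℂ) y * conj ((ξ : H → ℂ) y') := by
    intro y y' hy hy'
    have h := Blocks.CentralizerSum.sum_section hM u hu hH hB hA y y' hy hy'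
    rw [finsum_mem_eq_toFinset_sum, finsum_mem_eq_toFinset_sum] at h
    rw [← Finset.sum_subtype B.toFinset (p := fun x => x ∈ B) (fun x => Set.mem_toFinset)
      (fun ψ : IrrCharacter G => (ψ : G → ℂ) (u * (y : G)) * conj ((ψ : G → ℂ) (u * (y' : G)))),
      ← Finset.sum_subtype A.toFinset (p := fun x => x ∈ A) (fun x => Set.mem_toFinset)
      (fun ξ : IrrCharacter H => (ξ : H → ℂ) y * conj ((ξ : H → ℂ) y'))]
    exact h
  have hwt : ∀ (ψ : G → ℂ) (η : H → ℂ), wt p u ψ η = (Nat.card H : ℂ)⁻¹ *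
      ∑ y : H with ¬ p ∣ orderOf y, ψ (u * (y : G)) * conj (η y) := by
    intro ψ η
    rw [wt_def, rg_def, pair_eq_sum_filter]
  have hrg : ∀ (ξ η : H → ℂ), rg p ξ η = (Nat.card H : ℂ)⁻¹ *
      ∑ y : H with ¬ p ∣ orderOf y, ξ y * conj (η y) := by
    intro ξ η
    rw [rg_def, pair_eq_sum_filter]
  -- general double sum formula
  have key : ∀ {ι : Type _} [Fintype ι] (a : ι → H → ℂ),
      ∑ i, ((Nat.card H : ℂ)⁻¹ * ∑ y with ¬ p ∣ orderOf y, a i y * conj (η y)) *
        conj ((Nat.card H : ℂ)⁻¹ * ∑ y with ¬ p ∣ orderOf y, a i y * conj (η' y)) =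
      (Nat.card H : ℂ)⁻¹ * (Nat.card H : ℂ)⁻¹ * ∑ y : H with ¬ p ∣ orderOf y,
        ∑ y' : H with ¬ p ∣ orderOf y', conj (η y) * η' y' *
          ∑ i, a i y * conj (a i y') := by
    intro ι _ a
    simp only [map_mul, map_inv₀, Complex.conj_natCast, map_sum, Complex.conj_conj]
    have e1 : ∀ i : ι, ((Nat.card H : ℂ)⁻¹ * ∑ y with ¬ p ∣ orderOf y, a i y *
        conj (η y)) * ((Nat.card H : ℂ)⁻¹ * ∑ y' with ¬ p ∣ orderOf y',
          conj (a i y') * η' y') =
        (Nat.card H : ℂ)⁻¹ * (Nat.card H : ℂ)⁻¹ * ∑ y : H with ¬ p ∣ orderOf y,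
        ∑ y' : H with ¬ p ∣ orderOf y', conj (η y) * η' y' *
          (a i y * conj (a i y')) := by
      intro i
      rw [mul_mul_mul_comm, Finset.sum_mul_sum]
      congr 1
      exact Finset.sum_congr rfl fun y _ => Finset.sum_congr rfl fun y' _ => by ring
    rw [Finset.sum_congr rfl fun i _ => e1 i, ← Finset.mul_sum]
    congr 1
    rw [Finset.sum_comm]
    refine Finset.sum_congr rfl fun y _ => ?_
    rw [Finset.sum_comm]
    refine Finset.sum_congr rfl fun y' _ => ?_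
    rw [Finset.mul_sum]
  have hL := key (fun (ψ : B) (y : H) => (ψ : G → ℂ) (u * (y : G)))
  have hR := key (fun (ξ : A) (y : H) => (ξ : H → ℂ) y)
  simp only [hwt, hrg]
  rw [hL, hR]
  congr 1
  refine Finset.sum_congr rfl fun y hy => Finset.sum_congr rfl fun y' hy' => ?_
  rw [hsec y y' (Finset.mem_filter.1 hy).2 (Finset.mem_filter.1 hy').2]

/-- The column of a block which does not induce `B` vanishes on `B`. -/
theorem wt_eq_zero (hM : IsPModular p M) {u : G} (hu : ∃ k : ℕ, orderOf u = p ^ k)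
    {H : Subgroup G} [Fintype H] (hH : H = Subgroup.centralizer ({u} : Set G))
    {B : Set (IrrCharacter G)} (hB : IsPBlock M B) {ψ : IrrCharacter G} (hψ : ψ ∈ B)
    {η : IrrCharacter H} (hη : ¬ IsInducedBlock M H (blockOf M (η : H → ℂ)) B) :
    wt p u (ψ : G → ℂ) (η : H → ℂ) = 0 := by
  classical
  have := isPrime_of_isPModular hM
  have := Core.finite_irr (G := H)
  have := Fintype.ofFinite (IrrCharacter H)
  have := Core.finite_irr (G := G)
  have := Fintype.ofFinite (IrrCharacter G)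
  let A : Set (IrrCharacter H) := {ξ | IsInducedBlock M H (blockOf M (ξ : H → ℂ)) B}
  have hA : ∀ ξ : IrrCharacter H, ξ ∈ A ↔ IsInducedBlock M H (blockOf M (ξ : H → ℂ)) B :=
    fun _ => Iff.rfl
  have : Fintype A := Fintype.ofFinite A
  have : Fintype B := Fintype.ofFinite B
  have h := sum_wt_mul_conj_wt_gen hM hu hH hB hA (η : H → ℂ) (η : H → ℂ)
  have h2 : ∑ ξ : A, rg p (ξ : H → ℂ) (η : H → ℂ) * conj (rg p (ξ : H → ℂ) (η : H → ℂ)) = 0 := by
    refine Finset.sum_eq_zero fun ξ _ => ?_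
    have h3 : (η : IrrCharacter H) ∉ blockOf M ((ξ : IrrCharacter H) : H → ℂ) := by
      intro h4
      apply hη
      rw [← isPBlock_eq_blockOf (isPBlock_blockOf (ξ : IrrCharacter H)) h4]
      exact (hA ξ).1 ξ.2
    rw [rg_eq_zero hM (isPBlock_blockOf (ξ : IrrCharacter H)) (mem_blockOf_self _) h3, zero_mul]
  rw [h2] at h
  have h5 : ∀ ψ : B, wt p u (ψ : G → ℂ) (η : H → ℂ) * conj (wt p u (ψ : G → ℂ) (η : H → ℂ)) =
      ((‖wt p u (ψ : G → ℂ) (η : H → ℂ)‖ ^ 2 : ℝ) : ℂ) := by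
    intro ψ
    rw [Complex.mul_conj, Complex.normSq_eq_norm_sq]
  rw [Finset.sum_congr rfl fun ψ _ => h5 ψ, ← Complex.ofReal_sum] at h
  have h6 : ∑ ψ : B, ‖wt p u (ψ : G → ℂ) (η : H → ℂ)‖ ^ 2 = 0 := by exact_mod_cast h
  rw [Finset.sum_eq_zero_iff_of_nonneg (fun _ _ => sq_nonneg _)] at h6
  have h7 := h6 ⟨ψ, hψ⟩ (Finset.mem_univ _)
  exact norm_eq_zero.1 (pow_eq_zero_iff two_ne_zero |>.1 h7)

/-- Columns of different blocks of `C_G(u)` are orthogonal. -/
theorem sum_wt_ne_block (hM : IsPModular p M) {u : G} (hu : ∃ k : ℕ, orderOf u = p ^ k)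
    {H : Subgroup G} [Fintype H] (hH : H = Subgroup.centralizer ({u} : Set G))
    {B : Set (IrrCharacter G)} [Fintype B] (hB : IsPBlock M B)
    {b : Set (IrrCharacter H)} (hb : IsPBlock M b) {η η' : IrrCharacter H} (hη : η ∈ b)
    (hη' : η' ∉ b) :
    ∑ ψ : B, wt p u (ψ : G → ℂ) (η : H → ℂ) * conj (wt p u (ψ : G → ℂ) (η' : H → ℂ)) = 0 := by
  classical
  have := isPrime_of_isPModular hM
  have := Core.finite_irr (G := H)
  have := Fintype.ofFinite (IrrCharacter H)
  let A : Set (IrrCharacter H) := {ξ | IsInducedBlock M H (blockOf M (ξ : H → ℂ)) B}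
  have hA : ∀ ξ : IrrCharacter H, ξ ∈ A ↔ IsInducedBlock M H (blockOf M (ξ : H → ℂ)) B :=
    fun _ => Iff.rfl
  have : Fintype A := Fintype.ofFinite A
  rw [sum_wt_mul_conj_wt_gen hM hu hH hB hA]
  refine Finset.sum_eq_zero fun ξ _ => ?_
  by_cases h : (ξ : IrrCharacter H) ∈ b
  · rw [rg_eq_zero hM hb h hη', map_zero, mul_zero]
  · rw [rg_eq_zero' hM hb h hη, zero_mul]

/-- Columns at non-conjugate `p`-elements are orthogonal. -/
theorem sum_wt_not_conj (hM : IsPModular p M) {u u' : G} (hu : ∃ k : ℕ, orderOf u = p ^ k)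
    (hu' : ∃ k : ℕ, orderOf u' = p ^ k) (huu : ¬ IsConj u u')
    {H H' : Subgroup G} [Fintype H] [Fintype H'] (hH : H = Subgroup.centralizer ({u} : Set G))
    (hH' : H' = Subgroup.centralizer ({u'} : Set G))
    {B : Set (IrrCharacter G)} [Fintype B] (hB : IsPBlock M B) (η : H → ℂ) (η' : H' → ℂ) :
    ∑ ψ : B, wt p u (ψ : G → ℂ) η * conj (wt p u' (ψ : G → ℂ) η') = 0 := by
  classical
  have := isPrime_of_isPModular hM
  have hort : ∀ (y : H) (y' : H'), ¬ p ∣ orderOf y → ¬ p ∣ orderOf y' →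
      ∑ ψ : B, (ψ : G → ℂ) (u * (y : G)) * conj ((ψ : G → ℂ) (u' * (y' : G))) = 0 := by
    intro y y' hy hy'
    have h1 : IsPPart p (u * (y : G)) u := by
      refine ⟨(y : G), rfl, ?_, hu, ?_⟩
      · exact (Subgroup.mem_centralizer_singleton_iff.1 (hH ▸ y.2)).symm
      · rwa [Subgroup.orderOf_coe]
    have h2 : IsPPart p (u' * (y' : G)) u' := by
      refine ⟨(y' : G), rfl, ?_, hu', ?_⟩
      · exact (Subgroup.mem_centralizer_singleton_iff.1 (hH' ▸ y'.2)).symm
      · rwa [Subgroup.orderOf_coe]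
    have h3 := (S0925.result p M hM).2 _ _ _ _ h1 h2 huu B hB
    have hfin := Core.finite_irr (G := G)
    rw [finsum_mem_eq_toFinset_sum] at h3
    rw [← Finset.sum_subtype B.toFinset (p := fun x => x ∈ B) (fun x => Set.mem_toFinset)
      (fun ψ : IrrCharacter G => (ψ : G → ℂ) (u * (y : G)) * conj ((ψ : G → ℂ) (u' * (y' : G))))]
    rw [← h3]
    refine Finset.sum_congr rfl fun ψ _ => ?_
    rw [Cfsg.Agent.Blocks.Orthogonality.irr_apply_inv ψ.2]
  simp only [wt_eq_sum, map_mul, map_inv₀, Complex.conj_natCast, map_sum, Complex.conj_conj]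
  have e1 : ∀ ψ : B, ((Nat.card H : ℂ)⁻¹ * ∑ y : H with ¬ p ∣ orderOf y,
      (ψ : G → ℂ) (u * (y : G)) * conj (η y)) *
      ((Nat.card H' : ℂ)⁻¹ * ∑ y' : H' with ¬ p ∣ orderOf y',
        conj ((ψ : G → ℂ) (u' * (y' : G))) * η' y') =
      (Nat.card H : ℂ)⁻¹ * (Nat.card H' : ℂ)⁻¹ * ∑ y : H with ¬ p ∣ orderOf y,
        ∑ y' : H' with ¬ p ∣ orderOf y', conj (η y) * η' y' *
          ((ψ : G → ℂ) (u * (y : G)) * conj ((ψ : G → ℂ) (u' * (y' : G)))) := by
    intro ψ
    rw [mul_mul_mul_comm, Finset.sum_mul_sum]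
    congr 1
    exact Finset.sum_congr rfl fun y _ => Finset.sum_congr rfl fun y' _ => by ring
  rw [Finset.sum_congr rfl fun ψ _ => e1 ψ, ← Finset.mul_sum, Finset.sum_comm]
  rw [mul_eq_zero]
  right
  refine Finset.sum_eq_zero fun y hy => ?_
  rw [Finset.sum_comm]
  refine Finset.sum_eq_zero fun y' hy' => ?_
  rw [← Finset.mul_sum, hort y y' (Finset.mem_filter.1 hy).2 (Finset.mem_filter.1 hy').2, mul_zero]

/-- A class function with vanishing columns at `u` vanishes on the section of `u`. -/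
theorem apply_eq_zero_of_wt {u : G}
    {H : Subgroup G} [Fintype H] (hH : H = Subgroup.centralizer ({u} : Set G))
    {f : G → ℂ} (hf : IsClassFunction G f)
    (h : ∀ η : IrrCharacter H, wt p u f (η : H → ℂ) = 0) {y : G} (hy : ¬ p ∣ orderOf y)
    (huy : Commute u y) : f (u * y) = 0 := by
  have := Core.finite_irr (G := H)
  have := Fintype.ofFinite (IrrCharacter H)
  have hyH : y ∈ H := by
    rw [hH, Subgroup.mem_centralizer_singleton_iff]
    exact huy.symm
  have h1 := regPart_eq_sum p (isClassFunction_mul hH hf)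
  have h2 : ∑ ζ : IrrCharacter H, rg p (fun c : H => f (u * (c : G))) (ζ : H → ℂ) • (ζ : H → ℂ)
      = 0 := by
    refine Finset.sum_eq_zero fun ζ _ => ?_
    have h3 := h ζ
    rw [wt_def] at h3
    rw [h3, zero_smul]
  rw [h2] at h1
  have h4 := congrFun h1 ⟨y, hyH⟩
  rw [regPart_of_not_dvd (by rwa [← Subgroup.orderOf_coe]), Pi.zero_apply] at h4
  exact h4

/-- `wt` is linear in the class function. -/
theorem wt_sum {H : Subgroup G} [Fintype H] {ι : Type*} (s : Finset ι) (u : G) (a : ι → ℂ)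
    (f : ι → G → ℂ) (η : H → ℂ) :
    wt p u (fun x => ∑ i ∈ s, a i * f i x) η = ∑ i ∈ s, a i * wt p u (f i) η := by
  classical
  simp only [wt_eq_sum]
  have e1 : ∀ i ∈ s, a i * ((Nat.card H : ℂ)⁻¹ * ∑ y : H with ¬ p ∣ orderOf y,
      f i (u * (y : G)) * conj (η y)) = (Nat.card H : ℂ)⁻¹ * ∑ y : H with ¬ p ∣ orderOf y,
      a i * (f i (u * (y : G)) * conj (η y)) := by
    intro i _
    rw [← Finset.mul_sum]
    ring
  rw [Finset.sum_congr rfl e1, ← Finset.mul_sum, Finset.sum_comm]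
  congr 1
  refine Finset.sum_congr rfl fun y _ => ?_
  rw [Finset.sum_mul]
  exact Finset.sum_congr rfl fun i _ => by ring

end Cfsg.Agent.H639
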