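import Mathlib
import Cfsg.Agent.H613.Contrib
import Cfsg.Agent.Characters.DegreeBounds
import Cfsg.Agent.Blocks.PPart

/-!
# Irreducible characters and a central `p`-subgroup
-/

set_option autoImplicit false
set_option linter.unusedSectionVars false

open Cfsg
open scoped ComplexConjugate

namespace Cfsg.Agent.H639

open Cfsg.Agent.Blocks.Blau Cfsg.Agent.Blocks.Local Cfsg.Agent.Characters
open Cfsg.Agent.H613.RegGram Cfsg.Agent.H613.Contrib
open Cfsg.Agent.Blocks.Basic (isPBlock_blockOf mem_blockOf_self isPBlock_eq_blockOf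
  isPBlock_eq_of_mem)

variable {L : Type*} [Group L] [Fintype L]

/-- The scalar by which a central element acts. -/
noncomputable def lm (χ : L → ℂ) (z : L) : ℂ := χ z / χ 1

theorem irr_one_ne_zero (χ : IrrCharacter L) : (χ : L → ℂ) 1 ≠ 0 :=
  Core.isIrr_apply_one_ne_zero χ.2

theorem irr_mul (χ : IrrCharacter L) {z : L} (hz : z ∈ Subgroup.center L) (x : L) :
    (χ : L → ℂ) (z * x) = lm (χ : L → ℂ) z * (χ : L → ℂ) x := by
  obtain ⟨c, -, hc⟩ := Cfsg.Agent.Blocks.CentralizerSum.exists_central_scalar χ.2 hz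
  have h1 := hc 1
  rw [mul_one] at h1
  rw [hc x, lm, h1, mul_div_cancel_right₀ _ (irr_one_ne_zero χ)]

theorem lm_mul_conj (χ : IrrCharacter L) {z : L} (hz : z ∈ Subgroup.center L) :
    lm (χ : L → ℂ) z * conj (lm (χ : L → ℂ) z) = 1 := by
  obtain ⟨c, hc1, hc⟩ := Cfsg.Agent.Blocks.CentralizerSum.exists_central_scalar χ.2 hz
  have h1 := hc 1
  rw [mul_one] at h1
  rw [lm, h1, mul_div_cancel_right₀ _ (irr_one_ne_zero χ), hc1]

theorem lm_mul (χ : IrrCharacter L) {z w : L} (hz : z ∈ Subgroup.center L) :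
    lm (χ : L → ℂ) (z * w) = lm (χ : L → ℂ) z * lm (χ : L → ℂ) w := by
  unfold lm
  rw [irr_mul χ hz]
  unfold lm
  rw [mul_div_assoc]

theorem lm_one (χ : IrrCharacter L) : lm (χ : L → ℂ) 1 = 1 := div_self (irr_one_ne_zero χ)

/-- The central character as a homomorphism. -/
noncomputable def lmHom (D : Subgroup L) (hD : D ≤ Subgroup.center L) (χ : IrrCharacter L) :
    D →* ℂ where
  toFun z := lm (χ : L → ℂ) z
  map_one' := lm_one χ
  map_mul' z w := lm_mul χ (hD z.2)

theorem lmHom_apply (D : Subgroup L) (hD : D ≤ Subgroup.center L) (χ : IrrCharacter L) (z : D) :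
    lmHom D hD χ z = lm (χ : L → ℂ) z := rfl

/-- `D` in the kernel. -/
def KerOn (D : Subgroup L) (χ : L → ℂ) : Prop := ∀ z ∈ D, χ z = χ 1

theorem kerOn_iff (D : Subgroup L) (χ : IrrCharacter L) :
    KerOn D (χ : L → ℂ) ↔ ∀ z ∈ D, lm (χ : L → ℂ) z = 1 := by
  constructor
  · intro h z hz
    rw [lm, h z hz, div_self (irr_one_ne_zero χ)]
  · intro h z hz
    have h1 := h z hz
    rwa [lm, div_eq_one_iff_eq (irr_one_ne_zero χ)] at h1

open Classical in
theorem sum_lm {D : Subgroup L} [Fintype D] (hD : D ≤ Subgroup.center L) (χ : IrrCharacter L) :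
    ∑ z : D, lm (χ : L → ℂ) z = if KerOn D (χ : L → ℂ) then (Nat.card D : ℂ) else 0 := by
  have h1 := sum_hom_units (lmHom D hD χ)
  have h2 : ∑ z : D, lm (χ : L → ℂ) z = ∑ z : D, lmHom D hD χ z := rfl
  have h3 : lmHom D hD χ = 1 ↔ KerOn D (χ : L → ℂ) := by
    rw [kerOn_iff]
    constructor
    · intro h z hz
      exact congrArg (fun f => f ⟨z, hz⟩) h
    · intro h
      ext z
      exact h z z.2
  rw [h2, h1]
  by_cases h : KerOn D (χ : L → ℂ)
  · rw [if_pos h, if_pos (h3.2 h), Nat.card_eq_fintype_card]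
  · rw [if_neg h, if_neg (fun h' => h (h3.1 h'))]
    simp

variable {p : ℕ} [Fact p.Prime]

theorem not_dvd_orderOf_mul_iff {D : Subgroup L} (hD : D ≤ Subgroup.center L)
    (hDp : IsPGroup p D) {z y : L} (hz : z ∈ D) (hy : ¬ p ∣ orderOf y) :
    ¬ p ∣ orderOf (z * y) ↔ z = 1 := by
  constructor
  · intro h
    have hcomm : Commute z y := (Subgroup.mem_center_iff.1 (hD hz) y).symm
    obtain ⟨k, hk⟩ := (IsPGroup.iff_orderOf.1 hDp) ⟨z, hz⟩
    have h1 : IsPPart p (z * y) z :=
      ⟨y, rfl, hcomm, ⟨k, by rw [← hk, ← Subgroup.orderOf_coe]⟩, hy⟩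
    exact Blocks.PPart.isPPart_unique h1 (Blocks.PPart.isPPart_of_not_dvd h)
  · rintro rfl
    rwa [one_mul]

/-- The restriction to the `p`-regular elements in terms of the members of the block with `D` in
the kernel. -/
theorem apply_eq_sum_ker {M : Ideal AlgInt} (hM : IsPModular p M) {D : Subgroup L}
    (hD : D ≤ Subgroup.center L) (hDp : IsPGroup p D) {b : Set (IrrCharacter L)} [Fintype b]
    (hb : IsPBlock M b) {χ : IrrCharacter L} (hχ : χ ∈ b) {y : L} (hy : ¬ p ∣ orderOf y)
    [DecidablePred fun ξ : b => KerOn D (ξ.1 : L → ℂ)] :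
    (χ : L → ℂ) y = (Nat.card D : ℂ) * ∑ ξ : b with KerOn D (ξ.1 : L → ℂ),
      rg p (χ : L → ℂ) (ξ.1 : L → ℂ) * (ξ.1 : L → ℂ) y := by
  classical
  have : Fintype D := Fintype.ofFinite _
  have h1 : ∑ z : D, regPart p (χ : L → ℂ) (z * y) = (χ : L → ℂ) y := by
    rw [Finset.sum_eq_single (1 : D)]
    · rw [Subgroup.coe_one, one_mul, regPart_of_not_dvd hy]
    · intro z _ hz
      refine regPart_of_dvd ?_
      by_contra h
      exact hz (Subtype.ext ((not_dvd_orderOf_mul_iff hD hDp z.2 hy).1 h))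
    · intro h
      exact absurd (Finset.mem_univ _) h
  rw [← h1, regPart_eq_sum_block hM hb hχ]
  simp only [Finset.sum_apply, Pi.smul_apply, smul_eq_mul]
  rw [Finset.sum_comm]
  have h2 : ∀ ξ : b, ∑ z : D, rg p (χ : L → ℂ) (ξ.1 : L → ℂ) * (ξ.1 : L → ℂ) (z * y) =
      if KerOn D (ξ.1 : L → ℂ) then (Nat.card D : ℂ) * (rg p (χ : L → ℂ) (ξ.1 : L → ℂ) *
        (ξ.1 : L → ℂ) y) else 0 := by
    intro ξ
    have h3 : ∀ z : D, rg p (χ : L → ℂ) (ξ.1 : L → ℂ) * (ξ.1 : L → ℂ) (z * y) =
        rg p (χ : L → ℂ) (ξ.1 : L → ℂ) * (ξ.1 : L → ℂ) y * lm (ξ.1 : L → ℂ) z := by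
      intro z
      rw [irr_mul ξ.1 (hD z.2)]
      ring
    rw [Finset.sum_congr rfl fun z _ => h3 z, ← Finset.mul_sum, sum_lm hD]
    split_ifs
    · ring
    · ring
  rw [Finset.sum_congr rfl fun ξ _ => h2 ξ, ← Finset.sum_filter, Finset.mul_sum]

/-- Sums of functions supported on the elements with `p`-part in `D`. -/
theorem sum_eq_of_vanish {D : Subgroup L} [Fintype D] (hD : D ≤ Subgroup.center L)
    (hDp : IsPGroup p D) (F : L → ℂ) (hF : ∀ x u, IsPPart p x u → u ∉ D → F x = 0)
    [DecidablePred fun y : L => ¬ p ∣ orderOf y] :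
    ∑ x, F x = ∑ z : D, ∑ y : L with ¬ p ∣ orderOf y, F (z * y) := by
  classical
  have h1 : ∀ z : D, ∑ y : L with ¬ p ∣ orderOf y, F (z * y) =
      ∑ x : L, if ¬ p ∣ orderOf ((z : L)⁻¹ * x) then F x else 0 := by
    intro z
    rw [Finset.sum_filter, ← Equiv.sum_comp (Equiv.mulLeft (z : L)) fun x : L =>
      if ¬ p ∣ orderOf ((z : L)⁻¹ * x) then F x else 0]
    refine Finset.sum_congr rfl fun y _ => ?_
    rw [Equiv.coe_mulLeft, inv_mul_cancel_left]
  rw [Finset.sum_congr rfl fun z _ => h1 z, Finset.sum_comm]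
  refine Finset.sum_congr rfl fun x _ => ?_
  obtain ⟨u, hu⟩ := Blocks.PPart.exists_isPPart p x
  by_cases huD : u ∈ D
  · rw [Finset.sum_eq_single (⟨u, huD⟩ : D)]
    · obtain ⟨y, hxy, hcomm, -, hy⟩ := hu
      have h2 : u⁻¹ * x = y := by rw [← hxy, inv_mul_cancel_left]
      change F x = if ¬ p ∣ orderOf (u⁻¹ * x) then F x else 0
      rw [h2, if_pos hy]
    · intro z _ hz
      rw [if_neg]
      intro h3
      apply hz
      apply Subtype.ext
      have hcz : Commute (z : L) ((z : L)⁻¹ * x) :=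
        (Subgroup.mem_center_iff.1 (hD z.2) _).symm
      obtain ⟨k, hk⟩ := (IsPGroup.iff_orderOf.1 hDp) z
      have h4 : IsPPart p x (z : L) :=
        ⟨(z : L)⁻¹ * x, mul_inv_cancel_left _ _, hcz, ⟨k, by rw [← hk, ← Subgroup.orderOf_coe]⟩,
          h3⟩
      exact Blocks.PPart.isPPart_unique h4 hu
    · intro h
      exact absurd (Finset.mem_univ _) h
  · rw [hF x u hu huD]
    simp

/-- The norm of a function supported on the elements with `p`-part in `D`. -/
theorem card_mul_rg_of_vanish {D : Subgroup L} [Fintype D] (hD : D ≤ Subgroup.center L)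
    (hDp : IsPGroup p D) {f : L → ℂ} (hinv : ∀ z ∈ D, ∀ x, f (z * x) = f x)
    (hf : ∀ x u, IsPPart p x u → u ∉ D → f x = 0) :
    classInner f f = (Nat.card D : ℂ) * rg p f f := by
  classical
  rw [rg_def, pair_eq_sum_filter]
  unfold classInner
  rw [sum_eq_of_vanish hD hDp (fun x => f x * conj (f x))
    (fun x u hu huD => by rw [hf x u hu huD, zero_mul])]
  have h1 : ∀ z : D, ∑ y : L with ¬ p ∣ orderOf y, f (z * y) * conj (f (z * y)) =
      ∑ y : L with ¬ p ∣ orderOf y, f y * conj (f y) :=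
    fun z => Finset.sum_congr rfl fun y _ => by rw [hinv z z.2]
  rw [Finset.sum_congr rfl fun z _ => h1 z, Finset.sum_const, Finset.card_univ, nsmul_eq_mul,
    Fintype.card_eq_nat_card]
  ring

theorem charDegree_eq (χ : IrrCharacter L) : ((charDegree (χ : L → ℂ) : ℕ) : ℂ) = (χ : L → ℂ) 1 := by
  obtain ⟨n, -, hn⟩ := Core.isIrr_apply_one χ.2
  unfold charDegree
  rw [hn]
  simp

/-- The degree divides the index of a central subgroup. -/
theorem charDegree_dvd_index {D : Subgroup L} (hD : D ≤ Subgroup.center L) (χ : IrrCharacter L) :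
    charDegree (χ : L → ℂ) ∣ D.index := by
  obtain ⟨V, _, _, _, ρ, hirr, hχ⟩ : ∃ (V : Type) (_ : AddCommGroup V) (_ : Module ℂ V)
      (_ : FiniteDimensional ℂ V) (ρ : Representation ℂ L V), ρ.IsIrreducible ∧
      (χ : L → ℂ) = ρ.character := by
    obtain ⟨n, ρ, hρ, h⟩ := χ.2
    exact ⟨_, inferInstance, inferInstance, inferInstance, ρ, hρ, h.symm⟩
  have h1 := DegreeBounds.finrank_dvd_index_center ρ
  have h2 : (Subgroup.center L).index ∣ D.index := Subgroup.index_dvd_of_le hD
  have h3 : charDegree (χ : L → ℂ) = Module.finrank ℂ V := by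
    have h4 := charDegree_eq χ
    rw [hχ] at h4 ⊢
    rw [Representation.char_one] at h4
    exact_mod_cast h4
  rw [h3]
  exact h1.trans h2

/-- A character with `D` in its kernel vanishing outside the elements with `p`-part in `D`. -/
theorem factorization_eq_of_vanish {D : Subgroup L} (hD : D ≤ Subgroup.center L)
    (hDp : IsPGroup p D) (χ : IrrCharacter L) (hker : KerOn D (χ : L → ℂ))
    (hf : ∀ x u, IsPPart p x u → u ∉ D → (χ : L → ℂ) x = 0) :
    (charDegree (χ : L → ℂ)).factorization p = D.index.factorization p := by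
  classical
  have hDn : D.Normal := by
    constructor
    intro z hz g
    have h1 := Subgroup.mem_center_iff.1 (hD hz) g
    rw [h1, mul_inv_cancel_right]
    exact hz
  obtain ⟨S₀, hS₀⟩ := hDp.exists_le_sylow
  obtain ⟨S, hS, hSp, hScard⟩ : ∃ S : Subgroup L, D ≤ S ∧ IsPGroup p S ∧
      Nat.card S = p ^ (Nat.card L).factorization p :=
    ⟨S₀, hS₀, S₀.isPGroup', S₀.card_eq_multiplicity⟩
  have hfS : Fintype S := Fintype.ofFinite _
  have hfD : Fintype D := Fintype.ofFinite _
  have h1 := Core.classInner_isNat (Core.isCharacter_comp S.subtype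
    (Core.isIrr_isCharacter χ.2)) (Core.isCharacter_one (G := S))
  obtain ⟨k, hk⟩ := h1
  have h2 : ∑ s : S, (χ : L → ℂ) s = (Nat.card D : ℂ) * (χ : L → ℂ) 1 := by
    have h3 : ∀ s : S, (χ : L → ℂ) s = if (s : L) ∈ D then (χ : L → ℂ) 1 else 0 := by
      intro s
      split_ifs with h
      · exact hker s h
      · refine hf s s ?_ h
        obtain ⟨j, hj⟩ := (IsPGroup.iff_orderOf.1 hSp) s
        refine ⟨1, mul_one _, Commute.one_right _, ⟨j, by rw [← hj, ← Subgroup.orderOf_coe]⟩, ?_⟩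
        rw [orderOf_one]
        exact (Fact.out : p.Prime).one_lt.ne' ∘ Nat.dvd_one.1
    rw [Finset.sum_congr rfl fun s _ => h3 s, ← Finset.sum_filter, Finset.sum_const,
      nsmul_eq_mul]
    congr 1
    have h4 : (Finset.univ.filter fun s : S => (s : L) ∈ D).card = Fintype.card D := by
      rw [← Fintype.card_subtype]
      refine Fintype.card_congr
        { toFun := fun s => ⟨s.1, s.2⟩
          invFun := fun d => ⟨⟨d.1, hS d.2⟩, d.2⟩
          left_inv := fun _ => rfl
          right_inv := fun _ => rfl }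
    rw [h4, Fintype.card_eq_nat_card]
  have h3 : (Nat.card S : ℂ) * k = (Nat.card D : ℂ) * charDegree (χ : L → ℂ) := by
    rw [← hk, charDegree_eq, ← h2]
    unfold classInner
    have h4 : (Nat.card S : ℂ) ≠ 0 := Nat.cast_ne_zero.2 Nat.card_pos.ne'
    rw [mul_inv_cancel_left₀ h4]
    refine Finset.sum_congr rfl fun s _ => ?_
    simp
  have h4 : Nat.card S * k = Nat.card D * charDegree (χ : L → ℂ) := by exact_mod_cast h3
  have hd0 : charDegree (χ : L → ℂ) ≠ 0 := by
    intro h
    have h5 := charDegree_eq χ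
    rw [h] at h5
    exact irr_one_ne_zero χ (by rw [← h5]; simp)
  have hk0 : k ≠ 0 := by
    rintro rfl
    rw [mul_zero] at h4
    exact mul_ne_zero Nat.card_pos.ne' hd0 h4.symm
  have h5 : (Nat.card S * k).factorization p =
      (Nat.card D * charDegree (χ : L → ℂ)).factorization p := by rw [h4]
  rw [Nat.factorization_mul Nat.card_pos.ne' hk0, Nat.factorization_mul Nat.card_pos.ne' hd0,
    Finsupp.add_apply, Finsupp.add_apply, hScard] at h5
  have h6 : (p ^ (Nat.card L).factorization p).factorization p = (Nat.card L).factorization p := by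
    rw [Nat.factorization_pow, Finsupp.smul_apply, (Fact.out : p.Prime).factorization_self]
    simp
  rw [h6] at h5
  have hidx0 : D.index ≠ 0 := Subgroup.index_ne_zero_of_finite
  have h7 : (Nat.card L).factorization p = (Nat.card D).factorization p +
      D.index.factorization p := by
    rw [← D.card_mul_index, Nat.factorization_mul Nat.card_pos.ne' hidx0, Finsupp.add_apply]
  have h8 : (charDegree (χ : L → ℂ)).factorization p ≤ D.index.factorization p :=
    (Nat.factorization_le_iff_dvd hd0 hidx0).2 (charDegree_dvd_index hD χ) p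
  omega

end Cfsg.Agent.H639
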