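import Mathlib
import Cfsg.Agent.H639.Col
import Cfsg.Agent.H639.Fus

/-!
# Orthogonality and completeness of the columns of the Brauer pairs below a maximal pair

`a = (P, a.2)` a maximal Brauer pair of `B` with `P` abelian, `c R` the block of `C_G(R)` with
`(R, c R) ≤ a` for `R ≤ P`.
-/

set_option autoImplicit false
set_option linter.unusedSectionVars false

open Cfsg
open scoped ComplexConjugate

namespace Cfsg.Agent.H639

open Cfsg.Agent.Blocks.Blau Cfsg.Agent.Blocks.Local Cfsg.Agent.Characters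
open Cfsg.Agent.H613.RegGram Cfsg.Agent.H613.Contrib
open Cfsg.Agent.H649 Cfsg.Agent.H651
open Cfsg.Agent.H644 (isNormalSubpair_of_subpairLE subpairLE_unique subpairLE_of_isNormalSubpair
  isBrauerPairOf_iff_of_isNormalSubpair isBrauerPairOf_iff_of_subpairLE exists_subpairLE
  exists_conj_subpairLE isDefectGroup_of_isMaximalBrauerPair)
open Cfsg.Agent.Blocks.Basic (isPBlock_blockOf mem_blockOf_self isPBlock_eq_blockOf
  isPBlock_eq_of_mem)

universe u

section Conj

variable {G : Type u} [Group G]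

theorem ei_injective {L : Subgroup G} {χ ψ : IrrCharacter L} (h : ei χ = ei ψ) : χ = ψ := by
  apply Subtype.ext
  funext x
  have h1 := congrFun h (x : G)
  rwa [ei_coe, ei_coe] at h1

/-- The functions on `G` belonging to a pair. -/
def Fn (a : BrauerPairIdx G) : Set (G → ℂ) := {g | ∃ ξ ∈ a.2, ei ξ = g}

theorem mem_Fn {a : BrauerPairIdx G} {g : G → ℂ} : g ∈ Fn a ↔ ∃ ξ ∈ a.2, ei ξ = g := Iff.rfl

theorem mem_Fn_mk {Q : Subgroup G} {f : Set (IrrCharacter (Subgroup.centralizer (Q : Set G)))}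
    {ξ : IrrCharacter (Subgroup.centralizer (Q : Set G))} (h : ξ ∈ f) :
    ei ξ ∈ Fn (⟨Q, f⟩ : BrauerPairIdx G) := ⟨ξ, h, rfl⟩

theorem ei_mem_Fn_iff {Q : Subgroup G}
    {f : Set (IrrCharacter (Subgroup.centralizer (Q : Set G)))}
    {ξ : IrrCharacter (Subgroup.centralizer (Q : Set G))} :
    ei ξ ∈ Fn (⟨Q, f⟩ : BrauerPairIdx G) ↔ ξ ∈ f := by
  refine ⟨?_, mem_Fn_mk⟩
  rintro ⟨ξ', h, h'⟩
  rwa [← ei_injective h']

theorem mem_centralizer_map_conj' {Q : Subgroup G} (h x : G) :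
    x ∈ Subgroup.centralizer (Q : Set G) ↔ h * x * h⁻¹ ∈
      Subgroup.centralizer ((Q.map (MulAut.conj h).toMonoidHom : Subgroup G) : Set G) :=
  (map_mem_centralizer_iff (MulAut.conj h) Q x).symm

theorem cf_ei (h : G) {Q : Subgroup G} (ξ : IrrCharacter (Subgroup.centralizer (Q : Set G))) :
    ei (irrMap (cenIso (MulAut.conj h) Q) ξ) = cf h (ei ξ) := by
  funext x
  rw [cf_apply]
  by_cases hx : h⁻¹ * x * h ∈ Subgroup.centralizer (Q : Set G)
  · have h1 : x ∈ Subgroup.centralizer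
        ((Q.map (MulAut.conj h).toMonoidHom : Subgroup G) : Set G) := by
      have h2 := (mem_centralizer_map_conj' h (h⁻¹ * x * h)).1 hx
      have h3 : h * (h⁻¹ * x * h) * h⁻¹ = x := by group
      rwa [h3] at h2
    rw [ei_of_mem _ h1, ei_of_mem _ hx, irrMap_apply]
    congr 1
  · have h1 : x ∉ Subgroup.centralizer
        ((Q.map (MulAut.conj h).toMonoidHom : Subgroup G) : Set G) := by
      intro h2
      apply hx
      rw [mem_centralizer_map_conj' h]
      have h3 : h * (h⁻¹ * x * h) * h⁻¹ = x := by group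
      rwa [h3]
    rw [ei_of_notMem _ h1, ei_of_notMem _ hx]

theorem cf_cf (h k : G) (f : G → ℂ) : cf h (cf k f) = cf (h * k) f := by
  funext x
  simp only [cf_apply]
  congr 1
  group

theorem cf_one (f : G → ℂ) : cf 1 f = f := by
  funext x
  simp [cf_apply]

theorem mem_Fn_conjIdx (h : G) (a : BrauerPairIdx G) (g : G → ℂ) :
    cf h g ∈ Fn (conjIdx h a) ↔ g ∈ Fn a := by
  constructor
  · rintro ⟨_, ⟨ξ, hξ, rfl⟩, h1⟩
    refine ⟨ξ, hξ, ?_⟩
    have h2 : ei (irrMap (cenIso (MulAut.conj h) a.1) ξ) = cf h g := h1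
    rw [cf_ei] at h2
    have h3 := congrArg (cf h⁻¹) h2
    rwa [cf_cf, cf_cf, inv_mul_cancel, cf_one, cf_one] at h3
  · rintro ⟨ξ, hξ, rfl⟩
    refine ⟨irrMap (cenIso (MulAut.conj h) a.1) ξ, ⟨ξ, hξ, rfl⟩, ?_⟩
    exact cf_ei h ξ

/-- A function on `G` supported on a subgroup and constant on its classes. -/
theorem cf_eq_self_of_mem {L : Subgroup G} {f : L → ℂ} (hf : IsClassFunction L f) {h : G}
    (hh : h ∈ L) : cf h (ex f) = ex f := by
  funext x
  rw [cf_apply]
  by_cases hx : x ∈ L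
  · have h1 : h⁻¹ * x * h ∈ L := L.mul_mem (L.mul_mem (L.inv_mem hh) hx) hh
    rw [ex_of_mem _ hx, ex_of_mem _ h1]
    have h2 : (⟨h⁻¹ * x * h, h1⟩ : L) = (⟨h, hh⟩ : L)⁻¹ * ⟨x, hx⟩ * ((⟨h, hh⟩ : L)⁻¹)⁻¹ :=
      Subtype.ext (by simp)
    rw [h2]
    exact hf _ _
  · have h1 : h⁻¹ * x * h ∉ L := by
      intro h2
      apply hx
      have h3 := L.mul_mem (L.mul_mem hh h2) (L.inv_mem hh)
      have h4 : h * (h⁻¹ * x * h) * h⁻¹ = x := by group
      rwa [h4] at h3
    rw [ex_of_notMem _ hx, ex_of_notMem _ h1]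

theorem cf_ei_self [Finite G] {L : Subgroup G} (χ : IrrCharacter L) {h : G} (hh : h ∈ L) :
    cf h (ei χ) = ei χ :=
  cf_eq_self_of_mem (fun x y => Cfsg.Agent.Blocks.Basic.irr_conj χ.2 x y) hh

theorem col_cf [Fintype G] (p : ℕ) (Q : Subgroup G) (h v : G) (f g : G → ℂ) :
    col p (Q.map (MulAut.conj h).toMonoidHom) (h * v * h⁻¹) (cf h f) (cf h g) =
      col p Q v f g := by
  rw [col_def, col_def]
  refine Eq.trans ?_ (rip_cf p h (mem_centralizer_map_conj' (Q := Q) h) (fun x => f (v * x)) g)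
  refine rip_congr p _ (fun x _ _ => ?_) (fun x _ _ => rfl)
  simp only [cf_apply]
  congr 1
  group

theorem map_conj_sup_zpowers (R : Subgroup G) {h v : G}
    (hh : h ∈ Subgroup.centralizer (R : Set G)) :
    (R ⊔ Subgroup.zpowers v).map (MulAut.conj h).toMonoidHom =
      R ⊔ Subgroup.zpowers (h * v * h⁻¹) := by
  have h1 : R.map (MulAut.conj h).toMonoidHom = R :=
    (mem_normalizer_iff_map_conj R h).1 (Subgroup.centralizer_le_normalizer _ hh)
  rw [Subgroup.map_sup, h1, MonoidHom.map_zpowers]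
  rfl

theorem map_conj_sup_zpowers' (R : Subgroup G) (h v : G) :
    (R ⊔ Subgroup.zpowers v).map (MulAut.conj h).toMonoidHom =
      R.map (MulAut.conj h).toMonoidHom ⊔ Subgroup.zpowers (h * v * h⁻¹) := by
  rw [Subgroup.map_sup, MonoidHom.map_zpowers]
  rfl

end Conj

variable {G : Type u} [Group G] [Fintype G] {p : ℕ} [Fact p.Prime] {M : Ideal AlgInt} [M.IsPrime]

/-- The setting: `a` a maximal pair of `B` with abelian group, `c R` the block of `C_G(R)`
below `a`. -/
structure Sys (p : ℕ) (M : Ideal AlgInt) (B : Set (IrrCharacter G)) (a : BrauerPairIdx G)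
    (c : ∀ R : Subgroup G, Set (IrrCharacter (Subgroup.centralizer (R : Set G)))) : Prop where
  hM : IsPModular p M
  hmax : IsMaximalBrauerPair p M B a.1 a.2
  hab : ∀ x ∈ a.1, ∀ y ∈ a.1, x * y = y * x
  hle : ∀ R ≤ a.1, LEIdx p M ⟨R, c R⟩ a

variable {B : Set (IrrCharacter G)} {a : BrauerPairIdx G}
  {c : ∀ R : Subgroup G, Set (IrrCharacter (Subgroup.centralizer (R : Set G)))}

theorem Sys.exists (hM : IsPModular p M) (hmax : IsMaximalBrauerPair p M B a.1 a.2)
    (hab : ∀ x ∈ a.1, ∀ y ∈ a.1, x * y = y * x) :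
    ∃ c : ∀ R : Subgroup G, Set (IrrCharacter (Subgroup.centralizer (R : Set G))),
      Sys p M B a c := by
  classical
  have h : ∀ R : Subgroup G, ∃ f : Set (IrrCharacter (Subgroup.centralizer (R : Set G))),
      R ≤ a.1 → LEIdx p M ⟨R, f⟩ a := by
    intro R
    by_cases hR : R ≤ a.1
    · obtain ⟨f, hf⟩ := exists_subpairLE hM hmax.1.1 R hR
      exact ⟨f, fun _ => hf⟩
    · exact ⟨∅, fun h => absurd h hR⟩
  choose c hc using h
  exact ⟨c, hM, hmax, hab, hc⟩

namespace Sys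

theorem eq_of_le (hs : Sys p M B a c) {R : Subgroup G}
    {f : Set (IrrCharacter (Subgroup.centralizer (R : Set G)))}
    (h : LEIdx p M ⟨R, f⟩ a) : f = c R :=
  subpairLE_unique hs.hM hs.hmax.1.1 R f (c R) h (hs.hle R (LEIdx.le h))

theorem eq_of_leIdx (hs : Sys p M B a c) {r : BrauerPairIdx G} (h : LEIdx p M r a) :
    r = ⟨r.1, c r.1⟩ := by
  obtain ⟨R, f⟩ := r
  rw [hs.eq_of_le h]

theorem top (hs : Sys p M B a c) : (⟨a.1, c a.1⟩ : BrauerPairIdx G) = a :=
  (hs.eq_of_leIdx Relation.ReflTransGen.refl).symm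

theorem isBrauerPair (hs : Sys p M B a c) {R : Subgroup G} (hR : R ≤ a.1) :
    IsBrauerPair p M R (c R) :=
  (hs.hle R hR).isBrauerPair hs.hmax.1.1

theorem isPBlock (hs : Sys p M B a c) {R : Subgroup G} (hR : R ≤ a.1) : IsPBlock M (c R) :=
  (hs.isBrauerPair hR).2

theorem le_of_le (hs : Sys p M B a c) {R Q : Subgroup G} (hRQ : R ≤ Q) (hQ : Q ≤ a.1) :
    LEIdx p M ⟨R, c R⟩ ⟨Q, c Q⟩ := by
  obtain ⟨f, hf⟩ := exists_subpairLE hs.hM (hs.isBrauerPair hQ) R hRQ
  have h1 : f = c R := hs.eq_of_le (Relation.ReflTransGen.trans hf (hs.hle Q hQ))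
  rw [← h1]
  exact hf

theorem normal (hs : Sys p M B a c) {R Q : Subgroup G} (hRQ : R ≤ Q) (hQ : Q ≤ a.1) :
    IsNormalSubpair p M R (c R) Q (c Q) :=
  isNormalSubpair_of_leIdx (r := ⟨R, c R⟩) (q := ⟨Q, c Q⟩) hs.hM (hs.isBrauerPair hQ)
    (fun x hx y hy => hs.hab x (hQ hx) y (hQ hy)) (hs.le_of_le hRQ hQ)

theorem isBrauerPairOf (hs : Sys p M B a c) {R : Subgroup G} (hR : R ≤ a.1) :
    IsBrauerPairOf p M B R (c R) :=
  (isBrauerPairOf_iff_of_subpairLE hs.hM (hs.hle R hR)).1 hs.hmax.1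

theorem isPGroup (hs : Sys p M B a c) : IsPGroup p a.1 := hs.hmax.1.1.1

theorem orderOf_pow (hs : Sys p M B a c) {v : G} (hv : v ∈ a.1) : ∃ k : ℕ, orderOf v = p ^ k := by
  obtain ⟨k, hk⟩ := (IsPGroup.iff_orderOf.1 hs.isPGroup) ⟨v, hv⟩
  exact ⟨k, by rw [← hk, ← Subgroup.orderOf_coe]⟩

theorem mem_centralizer (hs : Sys p M B a c) {R : Subgroup G} (hR : R ≤ a.1) {v : G}
    (hv : v ∈ a.1) : v ∈ Subgroup.centralizer (R : Set G) :=
  le_centralizer_of_comm hs.hab hR hv

theorem sup_le (hs : Sys p M B a c) {R : Subgroup G} (hR : R ≤ a.1) {v : G}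
    (hv : v ∈ a.1) : R ⊔ Subgroup.zpowers v ≤ a.1 :=
  _root_.sup_le hR (by rwa [Subgroup.zpowers_le])

theorem conj_eq (hs : Sys p M B a c) {t : G} (ht : conjIdx t a = a) {R : Subgroup G}
    (hR : R ≤ a.1) : conjIdx t ⟨R, c R⟩ =
      ⟨R.map (MulAut.conj t).toMonoidHom, c (R.map (MulAut.conj t).toMonoidHom)⟩ := by
  have h1 : LEIdx p M (conjIdx t ⟨R, c R⟩) a := by
    have h2 := (leIdx_conjIdx_iff (p := p) (M := M) t).2 (hs.hle R hR)
    rwa [ht] at h2
  exact hs.eq_of_leIdx h1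

theorem map_conj_le (_hs : Sys p M B a c) {t : G} (ht : conjIdx t a = a) {R : Subgroup G}
    (hR : R ≤ a.1) : R.map (MulAut.conj t).toMonoidHom ≤ a.1 := by
  have h1 := Subgroup.map_mono (f := (MulAut.conj t).toMonoidHom) hR
  have h2 : a.1.map (MulAut.conj t).toMonoidHom = a.1 := congrArg (fun b => b.1) ht
  rwa [h2] at h1

/-- `P` is abelian of bounded order: a defect group of `c R` is `P`. -/
theorem exists_defectGroup (hs : Sys p M B a c) {R : Subgroup G} (hR : R ≤ a.1) :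
    IsDefectGroup p M (c R) (a.1.subgroupOf (Subgroup.centralizer (R : Set G))) := by
  have hcen : a.1 ≤ Subgroup.centralizer (R : Set G) := le_centralizer_of_comm hs.hab hR
  obtain ⟨a', hup, ha'⟩ := exists_up (q := a) (R := R) hR hcen
  have hn : IsNormalSubpair p M R (c R) a.1 a.2 := by
    have h1 := hs.normal hR le_rfl
    have h2 : ∀ b : BrauerPairIdx G, b = a → IsNormalSubpair p M R (c R) b.1 b.2 →
        IsNormalSubpair p M R (c R) a.1 a.2 := by
      rintro b rfl h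
      exact h
    exact h2 ⟨a.1, c a.1⟩ hs.top h1
  have h3 := isMaximalBrauerPair_loc hs.hM hs.hmax rfl hn (hs.isBrauerPairOf hR) hup ha' hcen
  have h4 := isDefectGroup_of_isMaximalBrauerPair hs.hM h3
  rwa [ha'] at h4

/-- Columns at `v, v' ∈ P` which are not conjugate under the stabilizer of `a` in `C_G(R)`. -/
theorem sum_col_ne (hs : Sys p M B a c) {R : Subgroup G} (hR : R ≤ a.1) {v v' : G}
    (hv : v ∈ a.1) (hv' : v' ∈ a.1) {Q Q' : Subgroup G} (hQ : Q = R ⊔ Subgroup.zpowers v)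
    (hQ' : Q' = R ⊔ Subgroup.zpowers v')
    (hne : ∀ t ∈ Subgroup.centralizer (R : Set G), conjIdx t a = a → t * v * t⁻¹ ≠ v')
    {ξ : IrrCharacter (Subgroup.centralizer (Q : Set G))} (hξ : ξ ∈ c Q)
    {ξ' : IrrCharacter (Subgroup.centralizer (Q' : Set G))} (hξ' : ξ' ∈ c Q') [Fintype (c R)] :
    ∑ χ : c R, col p Q v (ei χ.1) (ei ξ) * conj (col p Q' v' (ei χ.1) (ei ξ')) = 0 := by
  have hQa : Q ≤ a.1 := by rw [hQ]; exact hs.sup_le hR hv
  have hQa' : Q' ≤ a.1 := by rw [hQ']; exact hs.sup_le hR hv'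
  have hRQ : R ≤ Q := by rw [hQ]; exact le_sup_left
  have hRQ' : R ≤ Q' := by rw [hQ']; exact le_sup_left
  have hvc := hs.mem_centralizer hR hv
  have hvc' := hs.mem_centralizer hR hv'
  have hn := hs.normal hRQ hQa
  have hn' := hs.normal hRQ' hQa'
  by_cases hconj : ∃ h ∈ Subgroup.centralizer (R : Set G), h * v * h⁻¹ = v'
  · obtain ⟨h, hh, hhv⟩ := hconj
    have hmap : Q.map (MulAut.conj h).toMonoidHom = Q' := by
      rw [hQ, hQ', map_conj_sup_zpowers R hh, hhv]
    have hdiff : cf h (ei ξ) ∉ Fn (⟨Q', c Q'⟩ : BrauerPairIdx G) := by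
      intro h1
      have h2 : cf h (ei ξ) ∈ Fn (conjIdx h ⟨Q, c Q⟩) :=
        (mem_Fn_conjIdx h _ _).2 (mem_Fn_mk hξ)
      have h3 : conjIdx h ⟨Q, c Q⟩ = ⟨Q', c Q'⟩ := by
        have h4 : IsPBlock M (conjIdx h ⟨Q, c Q⟩).2 := by
          have h5 : conjIdx h ⟨Q, c Q⟩ = ⟨Q.map (MulAut.conj h).toMonoidHom,
            conjBlock Q h (c Q)⟩ := conjIdx_mk h Q (c Q)
          rw [h5]
          exact (isPBlock_conjBlock_iff Q h (c Q)).2 (hs.isPBlock hQa)
        have h6 : ∀ b : BrauerPairIdx G, b.1 = Q' → IsPBlock M b.2 →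
            cf h (ei ξ) ∈ Fn b → b = ⟨Q', c Q'⟩ := by
          rintro ⟨S, s⟩ hS hs' hb
          have hS' : S = Q' := hS
          subst hS'
          obtain ⟨ζ, hζ, hζ'⟩ := hb
          rw [← hζ'] at h1
          have h7 : ζ ∈ c S := ei_mem_Fn_iff.1 h1
          have h8 : s = c S := isPBlock_eq_of_mem hs' (hs.isPBlock hQa') hζ h7
          rw [h8]
        exact h6 _ hmap h4 h2
      have h5 : LEIdx p M ⟨Q', c Q'⟩ (conjIdx h a) := by
        rw [← h3, leIdx_conjIdx_iff]
        exact hs.hle Q hQa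
      obtain ⟨k, hk, hk'⟩ := exists_conj_of_le hs.hM hs.hmax hs.hab (hs.hle Q' hQa') h5
      have hkR : k ∈ Subgroup.centralizer (R : Set G) := Subgroup.centralizer_le hRQ' hk
      refine hne (k * h) (Subgroup.mul_mem _ hkR hh) (by rw [← conjIdx_conjIdx]; exact hk') ?_
      have h6 : v' ∈ Q' := by
        rw [hQ']
        exact (le_sup_right : _ ≤ R ⊔ Subgroup.zpowers v') (Subgroup.mem_zpowers v')
      have h7 := Subgroup.mem_centralizer_iff.1 hk v' h6
      have h8 : k * h * v * (k * h)⁻¹ = k * (h * v * h⁻¹) * k⁻¹ := by group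
      rw [h8, hhv, ← h7]
      group
    have h1 : ∀ χ : c R, col p Q v (ei χ.1) (ei ξ) =
        col p Q' v' (ei χ.1) (cf h (ei ξ)) := by
      intro χ
      have h2 := col_cf p Q h v (ei χ.1) (ei ξ)
      rw [cf_ei_self χ.1 hh, hmap, hhv] at h2
      exact h2.symm
    -- the function `cf h (ei ξ)` belongs to a character of `C_G(Q')`
    obtain ⟨ζ, hζ⟩ : ∃ ζ : IrrCharacter (Subgroup.centralizer (Q' : Set G)),
        ei ζ = cf h (ei ξ) := by
      have h2 : ∀ S : Subgroup G, Q.map (MulAut.conj h).toMonoidHom = S →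
          ∃ ζ : IrrCharacter (Subgroup.centralizer (S : Set G)), ei ζ = cf h (ei ξ) := by
        rintro S rfl
        exact ⟨_, cf_ei h ξ⟩
      exact h2 Q' hmap
    rw [← hζ] at hdiff
    have hζ' : ζ ∉ c Q' := fun h2 => hdiff (mem_Fn_mk h2)
    have h3 := sum_col_ne_block hs.hM hvc' (hs.orderOf_pow hv') hQ' hn' hξ' hζ'
    have h4 : ∑ χ : c R, col p Q v (ei χ.1) (ei ξ) * conj (col p Q' v' (ei χ.1) (ei ξ')) =
        conj (∑ χ : c R, col p Q' v' (ei χ.1) (ei ξ') *
          conj (col p Q' v' (ei χ.1) (ei ζ))) := by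
      rw [map_sum]
      refine Finset.sum_congr rfl fun χ _ => ?_
      rw [map_mul, Complex.conj_conj, h1, hζ, mul_comm]
    rw [h4, h3, map_zero]
  · refine sum_col_not_conj hs.hM hvc (hs.orderOf_pow hv) hQ hn hvc' (hs.orderOf_pow hv') hQ'
      hn' (fun h hh hhv => hconj ⟨h, hh, hhv⟩) ξ ξ'

/-- Completeness of the columns. -/
theorem eq_zero_of_col (hs : Sys p M B a c) {R : Subgroup G} (hR : R ≤ a.1) [Fintype (c R)]
    (α : c R → ℂ) {f : G → ℂ} (hf : f = fun x => ∑ χ : c R, α χ * ei χ.1 x)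
    (h0 : ∀ v ∈ a.1, v ∉ R → ∀ ξ ∈ c (R ⊔ Subgroup.zpowers v),
      col p (R ⊔ Subgroup.zpowers v) v f (ei ξ) = 0)
    {x u : G} (hxR : x ∈ Subgroup.centralizer (R : Set G)) (hu : IsPPart p x u) (huR : u ∉ R) :
    f x = 0 := by
  classical
  obtain ⟨y, hxy, hcomm, hup, hy⟩ := hu
  have huR' : u ∈ Subgroup.centralizer (R : Set G) := by
    -- `u` is a power of `x`
    have h1 : u ∈ Subgroup.zpowers x := by
      obtain ⟨k, hk⟩ := hup
      have hcop : Nat.Coprime (orderOf u) (orderOf y) := by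
        rw [hk]
        exact Nat.Coprime.pow_left k (((Fact.out : p.Prime).coprime_iff_not_dvd).2 hy)
      obtain ⟨m, hm1, hm2⟩ := Nat.chineseRemainder hcop 1 0
      refine ⟨m, ?_⟩
      change x ^ (m : ℤ) = u
      rw [zpow_natCast, ← hxy, (show Commute u y from hcomm).mul_pow]
      have h2 : u ^ m = u := by
        conv_rhs => rw [← pow_one u]
        exact pow_eq_pow_iff_modEq.2 hm1
      have h3 : y ^ m = 1 := by
        rw [← orderOf_dvd_iff_pow_eq_one]
        exact (Nat.modEq_zero_iff_dvd).1 hm2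
      rw [h2, h3, mul_one]
    have h2 : Subgroup.zpowers x ≤ Subgroup.centralizer (R : Set G) := by
      rwa [Subgroup.zpowers_le]
    exact h2 h1
  have hyR : y ∈ Subgroup.centralizer (R : Set G) := by
    have h1 : y = u⁻¹ * x := by rw [← hxy]; group
    rw [h1]
    exact Subgroup.mul_mem _ (Subgroup.inv_mem _ huR') hxR
  set C := Subgroup.centralizer (R : Set G) with hC
  set u' : C := ⟨u, huR'⟩ with hu'
  have hup' : ∃ k : ℕ, orderOf u' = p ^ k := by
    obtain ⟨k, hk⟩ := hup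
    exact ⟨k, by rw [← Subgroup.orderOf_coe]; exact hk⟩
  set S : Subgroup C := Subgroup.zpowers u' with hS
  set H : Subgroup C := Subgroup.centralizer (S : Set C) with hH
  have hH' : H = Subgroup.centralizer ({u'} : Set C) := centralizer_zpowers u'
  have instH : Fintype H := Fintype.ofFinite H
  set f' : C → ℂ := fun z => ∑ χ : c R, α χ * (χ.1 : C → ℂ) z with hf'
  have hfex : f = ex f' := by
    funext z
    rw [hf]
    by_cases hz : z ∈ C
    · rw [ex_of_mem _ hz, hf']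
      refine Finset.sum_congr rfl fun χ _ => ?_
      rw [ei_of_mem _ hz]
    · rw [ex_of_notMem _ hz]
      refine Finset.sum_eq_zero fun χ _ => ?_
      rw [ei_of_notMem _ hz, mul_zero]
  have hcls : IsClassFunction C f' := by
    intro z w
    rw [hf']
    exact Finset.sum_congr rfl fun χ _ => by
      rw [Cfsg.Agent.Blocks.Basic.irr_conj χ.1.2 z w]
  have key : ∀ η : IrrCharacter H, wt p u' f' (η : H → ℂ) = 0 := by
    intro η
    by_cases hind : IsInducedBlock M H (blockOf M (η : H → ℂ)) (c R)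
    · have hSp : IsPGroup p S := isPGroup_zpowers hup'
      have h1 : IsBrauerPairOf p M (c R) S (blockOf M (η : H → ℂ)) :=
        (isBrauerPairOf_iff_isInducedBlock hs.hM (hs.isPBlock hR) hSp (isPBlock_blockOf η)).2 hind
      have h2 : IsNormalSubpair p M R (c R) (locSub R S) (locBlk R S (blockOf M (η : H → ℂ))) :=
        (isNormalSubpair_locBlk_iff (hs.isBrauerPair hR).1 (hs.isPBlock hR) hSp).2 h1
      have h3 : LEIdx p M ⟨R, c R⟩ ⟨locSub R S, locBlk R S (blockOf M (η : H → ℂ))⟩ :=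
        subpairLE_of_isNormalSubpair h2
      obtain ⟨h, hh, h4⟩ := exists_conj_into hs.hM hs.hmax hs.hab (hs.hle R hR) h3
      have hloc : locSub R S = R ⊔ Subgroup.zpowers u := locSub_zpowers R u'
      have hhR : h ∈ Subgroup.centralizer (R : Set G) := hh
      set v := h * u * h⁻¹ with hv
      have hmap : (conjIdx h ⟨locSub R S, locBlk R S (blockOf M (η : H → ℂ))⟩).1 =
          R ⊔ Subgroup.zpowers v := by
        rw [conjIdx_fst]
        change (locSub R S).map (MulAut.conj h).toMonoidHom = _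
        rw [hloc, map_conj_sup_zpowers R hhR]
      have hva : v ∈ a.1 := by
        have h5 := LEIdx.le h4
        rw [hmap] at h5
        exact h5 ((le_sup_right : _ ≤ R ⊔ Subgroup.zpowers v) (Subgroup.mem_zpowers v))
      have hvR : v ∉ R := by
        intro h5
        apply huR
        have h6 := Subgroup.mem_centralizer_iff.1 hhR v h5
        have h7 : u = v := by
          have h8 : u = h⁻¹ * v * h := by rw [hv]; group
          rw [h8, mul_assoc, h6]
          group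
        rwa [h7]
      have heq := hs.eq_of_leIdx h4
      have hfn : cf h (ei (irrMap (locIso R S) η)) ∈
          Fn (⟨R ⊔ Subgroup.zpowers v, c (R ⊔ Subgroup.zpowers v)⟩ : BrauerPairIdx G) := by
        rw [← hmap, ← heq, mem_Fn_conjIdx]
        exact mem_Fn_mk ⟨η, mem_blockOf_self η, rfl⟩
      obtain ⟨ξ, hξ, hξ'⟩ := hfn
      have h5 := h0 v hva hvR ξ hξ
      have h6 : ei ξ = cf h (ei (irrMap (locIso R S) η)) := hξ'
      rw [h6] at h5
      have h7 : cf h f = f := by rw [hfex]; exact cf_eq_self_of_mem hcls hhR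
      have h8 := col_cf p (locSub R S) h u f (ei (irrMap (locIso R S) η))
      have h9 : (locSub R S).map (MulAut.conj h).toMonoidHom = R ⊔ Subgroup.zpowers v := by
        rw [hloc, map_conj_sup_zpowers R hhR]
      rw [h7, h9, ← hv, h5] at h8
      have h10 := wt_eq_col (p := p) (R := R) u' S (by
        rw [centralizer_zpowers, Subgroup.mem_centralizer_singleton_iff]) f' η
      rw [← hfex] at h10
      rw [h10, ← h8]
    · rw [hf', wt_sum]
      refine Finset.sum_eq_zero fun χ _ => ?_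
      rw [wt_eq_zero hs.hM hup' hH' (hs.isPBlock hR) χ.2 hind, mul_zero]
  have hy' : ¬ p ∣ orderOf (⟨y, hyR⟩ : C) := by rwa [← Subgroup.orderOf_coe]
  have h11 := apply_eq_zero_of_wt hH' hcls key hy' (Subtype.ext hcomm)
  rw [hfex, ex_of_mem _ hxR, ← h11]
  congr 1
  exact Subtype.ext hxy.symm

end Sys

end Cfsg.Agent.H639
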