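import Mathlib
import Cfsg.Agent.H639.Loc1
import Cfsg.Agent.S0968
import Cfsg.Agent.S0969

/-!
# Local systems: the step
-/

set_option autoImplicit false
set_option linter.unusedSectionVars false

open Cfsg
open scoped ComplexConjugate

namespace Cfsg.Agent.H639

open Cfsg.Agent.Blocks.Blau Cfsg.Agent.Blocks.Local Cfsg.Agent.Characters
open Cfsg.Agent.H613.RegGram Cfsg.Agent.H613.Contrib
open Cfsg.Agent.H649 Cfsg.Agent.H651
open Cfsg.Agent.Blocks.Basic (isPBlock_blockOf mem_blockOf_self isPBlock_eq_blockOf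
  isPBlock_eq_of_mem isPBlock_nonempty)

universe u

/-- Sums of functions on a finite group which are invariant under a subgroup. -/
theorem sum_eq_card_mul_sum_out {A : Type*} [Group A] [Fintype A] (Z : Subgroup A)
    [Fintype (A ⧸ Z)] (h : A → ℂ) (hh : ∀ v, ∀ z ∈ Z, h (v * z) = h v) :
    ∑ v, h v = (Nat.card Z : ℂ) * ∑ q : A ⧸ Z, h q.out := by
  classical
  have : Fintype Z := Fintype.ofFinite _
  have e : ∑ v, h v = ∑ x : (A ⧸ Z) × Z, h (x.1.out * x.2) := by
    symm
    exact Fintype.sum_bijective (fun x : (A ⧸ Z) × Z => x.1.out * (x.2 : A))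
      (DegreeBounds.bijective_out_mul Z) _ _ fun _ => rfl
  rw [e, Fintype.sum_prod_type, Finset.mul_sum]
  refine Finset.sum_congr rfl fun q _ => ?_
  rw [Finset.sum_congr rfl fun (z : Z) _ => hh q.out z z.2, Finset.sum_const, Finset.card_univ,
    nsmul_eq_mul, Fintype.card_eq_nat_card]

variable {G : Type u} [Group G] [Fintype G] {p : ℕ} [Fact p.Prime]

/-- The members of `c R` with `R` in the kernel. -/
abbrev II (c : ∀ R : Subgroup G, Set (IrrCharacter (Subgroup.centralizer (R : Set G))))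
    (R : Subgroup G) : Type u :=
  {χ : IrrCharacter (Subgroup.centralizer (R : Set G)) // χ ∈ c R ∧ InKer R χ}

variable {M : Ideal AlgInt} [M.IsPrime] {B : Set (IrrCharacter G)} {a : BrauerPairIdx G}
  {c : ∀ R : Subgroup G, Set (IrrCharacter (Subgroup.centralizer (R : Set G)))}

theorem sum_II {R : Subgroup G} [Fintype (c R)] [Fintype (II c R)]
    [DecidablePred fun χ : c R => InKer R χ.1]
    (f : IrrCharacter (Subgroup.centralizer (R : Set G)) → ℂ) :
    ∑ χ : c R, (if InKer R χ.1 then f χ.1 else 0) = ∑ χ : II c R, f χ.1 := by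
  rw [← Finset.sum_filter]
  refine Finset.sum_bij' (i := fun χ hχ => (⟨χ.1, χ.2, (Finset.mem_filter.1 hχ).2⟩ : II c R))
    (j := fun χ _ => (⟨χ.1, χ.2.1⟩ : c R)) ?_ ?_ ?_ ?_ ?_
  · intro χ _
    exact Finset.mem_univ _
  · intro χ _
    exact Finset.mem_filter.2 ⟨Finset.mem_univ _, χ.2.2⟩
  · intro χ _
    rfl
  · intro χ _
    rfl
  · intro χ _
    rfl

namespace Sys

variable {ζ : Subgroup G → G → ℂ} {R : Subgroup G}

/-- Averaging over `R`. -/
theorem avg (hs : Sys p M B a c) (hR : R ≤ a.1) [Fintype (c R)] [Fintype (II c R)]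
    [Fintype R] (v : G) (g : IrrCharacter (Subgroup.centralizer (R : Set G)) → ℂ) :
    ∑ z : R, ∑ χ : c R, g χ.1 * conj (AA p a.1 ζ R ((z : G) * v) (ei χ.1)) =
      (Nat.card R : ℂ) * ∑ χ : II c R, g χ.1 * conj (AA p a.1 ζ R v (ei χ.1)) := by
  classical
  have hRc := hs.le_centralizer hR
  rw [Finset.sum_comm, Finset.mul_sum, ← sum_II (c := c)
    (fun χ => (Nat.card R : ℂ) * (g χ * conj (AA p a.1 ζ R v (ei χ))))]
  refine Finset.sum_congr rfl fun χ _ => ?_
  have h1 : ∀ z : R, g χ.1 * conj (AA p a.1 ζ R ((z : G) * v) (ei χ.1)) =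
      g χ.1 * conj (AA p a.1 ζ R v (ei χ.1)) * conj (lam χ.1 (z : G)) := by
    intro z
    rw [AA_mul a.1 ζ hRc χ.1 z.2 z.2, map_mul]
    ring
  have h2 := sum_lam hRc χ.1
  have h3 : ∑ z : R, conj (lam χ.1 (z : G)) = if InKer R χ.1 then (Nat.card R : ℂ) else 0 := by
    rw [← map_sum]
    have h4 : ∑ z : R, lam χ.1 (z : G) = if InKer R χ.1 then (Nat.card R : ℂ) else 0 := by
      rw [h2]
    rw [h4]
    split_ifs
    · rw [Complex.conj_natCast]
    · rw [map_zero]
  rw [Finset.sum_congr rfl fun z _ => h1 z, ← Finset.mul_sum, h3]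
  split_ifs
  · ring
  · ring

theorem AA_eq_of_mem (hs : Sys p M B a c) (hR : R ≤ a.1) (χ : II c R) {v w : G}
    (h : v * w⁻¹ ∈ R) : AA p a.1 ζ R v (ei χ.1) = AA p a.1 ζ R w (ei χ.1) := by
  have h1 : v = (v * w⁻¹) * w := by group
  rw [h1, AA_mul a.1 ζ (hs.le_centralizer hR) χ.1 h h, χ.2.2 _ h, one_mul]

open Classical in
/-- The Gram matrix on the characters with `R` in the kernel. -/
theorem gram_II (hs : Sys p M B a c) (hfree : Free a) (hR : R ≤ a.1) (hR1 : R ≠ ⊥)
    (hg : ∀ Q, R < Q → Q ≤ a.1 → Good p a.1 c ζ Q) [Fintype (II c R)] {v v' : G}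
    (hv : v ∈ a.1) (hvR : v ∉ R) (hv' : v' ∈ a.1) (hvR' : v' ∉ R) :
    (Nat.card R : ℂ) * ∑ χ : II c R, AA p a.1 ζ R v' (ei χ.1) * conj (AA p a.1 ζ R v (ei χ.1)) =
      if v' * v⁻¹ ∈ R then (Nat.card a.1 : ℂ) else 0 := by
  have hfin := Core.finite_irr (G := Subgroup.centralizer (R : Set G))
  have : Fintype (c R) := Fintype.ofFinite _
  have : Fintype R := Fintype.ofFinite _
  rw [← hs.avg hR v (fun χ => AA p a.1 ζ R v' (ei χ))]
  have h1 : ∀ z : R, ∑ χ : c R, AA p a.1 ζ R v' (ei χ.1) *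
      conj (AA p a.1 ζ R ((z : G) * v) (ei χ.1)) = if v' = (z : G) * v then
        (Nat.card a.1 : ℂ) else 0 := by
    intro z
    have h2 : (z : G) * v ∉ R := by
      intro h
      apply hvR
      have h3 := Subgroup.mul_mem _ (Subgroup.inv_mem _ z.2) h
      rwa [inv_mul_cancel_left] at h3
    exact hs.gram hfree hR hR1 hg hv' hvR' (Subgroup.mul_mem _ (hR z.2) hv) h2
  rw [Finset.sum_congr rfl fun z _ => h1 z]
  by_cases h : v' * v⁻¹ ∈ R
  · rw [if_pos h, Finset.sum_eq_single (⟨v' * v⁻¹, h⟩ : R)]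
    · rw [if_pos (by simp)]
    · intro z _ hz
      rw [if_neg]
      intro h3
      apply hz
      apply Subtype.ext
      simp [h3]
    · intro h3
      exact absurd (Finset.mem_univ _) h3
  · rw [if_neg h]
    refine Finset.sum_eq_zero fun z _ => ?_
    rw [if_neg]
    intro h3
    apply h
    rw [h3, mul_inv_cancel_right]
    exact z.2

theorem deg_II (hs : Sys p M B a c) (hR : R ≤ a.1) [Fintype (II c R)] {v : G}
    (hv : v ∈ a.1) (hvR : v ∉ R) {y : G} (hy : y ∈ Subgroup.centralizer (R : Set G))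
    (hyp : ¬ p ∣ orderOf y) :
    ∑ χ : II c R, ei χ.1 y * conj (AA p a.1 ζ R v (ei χ.1)) = 0 := by
  have hfin := Core.finite_irr (G := Subgroup.centralizer (R : Set G))
  have : Fintype (c R) := Fintype.ofFinite _
  have : Fintype R := Fintype.ofFinite _
  have h1 := hs.avg (ζ := ζ) hR v (fun χ => ei χ y)
  have h2 : ∀ z : R, ∑ χ : c R, ei χ.1 y * conj (AA p a.1 ζ R ((z : G) * v) (ei χ.1)) = 0 := by
    intro z
    refine hs.sum_apply_mul_conj_AA hR (Subgroup.mul_mem _ (hR z.2) hv) ?_ hy hyp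
    intro h
    apply hvR
    have h3 : v = (z : G)⁻¹ := by rw [← mul_left_cancel_iff (a := (z : G)), h, mul_inv_cancel]
    rw [h3]
    exact Subgroup.inv_mem _ z.2
  rw [Finset.sum_congr rfl fun z _ => h2 z, Finset.sum_const_zero] at h1
  exact (mul_eq_zero.1 h1.symm).resolve_left (Nat.cast_ne_zero.2 Nat.card_pos.ne')

/-- Completeness, in terms of `AA`. -/
theorem eq_zero_of_AA (hs : Sys p M B a c) (hR : R ≤ a.1) [Fintype (c R)]
    (hg : ∀ Q, R < Q → Q ≤ a.1 → Good p a.1 c ζ Q)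
    (α : c R → ℂ) {f : G → ℂ} (hf : f = fun x => ∑ χ : c R, α χ * ei χ.1 x)
    (h0 : ∀ v ∈ a.1, v ∉ R → AA p a.1 ζ R v f = 0)
    {x u : G} (hxR : x ∈ Subgroup.centralizer (R : Set G)) (hu : IsPPart p x u) (huR : u ∉ R) :
    f x = 0 := by
  refine hs.eq_zero_of_col hR α hf ?_ hxR hu huR
  intro v hv hvR ξ hξ
  have hQ := hg _ (lt_sup_zpowers hvR) (hs.sup_le hR hv)
  obtain ⟨κ, hκ⟩ := hQ.dec ξ hξ
  have h1 := h0 v hv hvR
  rw [AA_def] at h1
  have h2 := (mul_eq_zero.1 h1).resolve_left (Nat.cast_ne_zero.2 Nat.card_pos.ne')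
  have h3 : col p (R ⊔ Subgroup.zpowers v) v f (ei ξ) =
      col p (R ⊔ Subgroup.zpowers v) v f (fun x => (κ : ℂ) * ζ (R ⊔ Subgroup.zpowers v) x) := by
    rw [col_def, col_def]
    exact rip_congr p _ (fun _ _ _ => rfl) hκ
  rw [h3, col_smul_right, h2, mul_zero]

/-- The index set `II c R` is nonempty. -/
theorem nonempty_II (hs : Sys p M B a c) (hR : R ≤ a.1) : Nonempty (II c R) := by
  classical
  have hfin := Core.finite_irr (G := Subgroup.centralizer (R : Set G))
  have : Fintype (c R) := Fintype.ofFinite _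
  obtain ⟨χ, hχ⟩ := isPBlock_nonempty (hs.isPBlock hR)
  have hRp : IsPGroup p (R.subgroupOf (Subgroup.centralizer (R : Set G))) :=
    (hs.isBrauerPair hR).1.comap_of_injective _ (Subgroup.subtype_injective _)
  have h1 := apply_eq_sum_ker hs.hM (subgroupOf_le_center R) hRp (hs.isPBlock hR) hχ
    (y := 1) (by rw [orderOf_one]; exact (Fact.out : p.Prime).one_lt.ne' ∘ Nat.dvd_one.1)
  by_contra hcon
  have h2 : ∀ ξ : c R, ¬ KerOn (R.subgroupOf (Subgroup.centralizer (R : Set G)))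
      (ξ.1 : Subgroup.centralizer (R : Set G) → ℂ) := by
    intro ξ hξ
    exact hcon ⟨⟨ξ.1, ξ.2, (inKer_iff (hs.le_centralizer hR) ξ.1).2 hξ⟩⟩
  rw [Finset.filter_false_of_mem fun ξ _ => h2 ξ, Finset.sum_empty, mul_zero] at h1
  exact irr_one_ne_zero χ h1

theorem card_II_of_eq (hs : Sys p M B a c) [Fintype (II c a.1)] :
    Fintype.card (II c a.1) = 1 := by
  classical
  have hRp : IsPGroup p (a.1.subgroupOf (Subgroup.centralizer (a.1 : Set G))) :=
    hs.isPGroup.comap_of_injective _ (Subgroup.subtype_injective _)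
  have htop : a.1.subgroupOf (Subgroup.centralizer (a.1 : Set G)) ⊔
      Subgroup.centralizer ((a.1.subgroupOf (Subgroup.centralizer (a.1 : Set G)) :
        Subgroup (Subgroup.centralizer (a.1 : Set G))) :
          Set (Subgroup.centralizer (a.1 : Set G))) = ⊤ := by
    rw [eq_top_iff]
    refine le_trans ?_ le_sup_right
    intro x _
    rw [Subgroup.mem_centralizer_iff]
    intro z hz
    exact (Subgroup.mem_center_iff.1 (subgroupOf_le_center a.1 hz) x).symm
  obtain ⟨⟨θ, ⟨hθ1, hθ2⟩, huniq⟩, -, -⟩ := S0968.result p M hs.hM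
    (a.1.subgroupOf (Subgroup.centralizer (a.1 : Set G))) hRp htop (c a.1)
    (hs.isPBlock le_rfl) (hs.exists_defectGroup le_rfl)
  have hRc := hs.le_centralizer (R := a.1) le_rfl
  rw [Fintype.card_eq_one_iff]
  refine ⟨⟨θ, hθ1, (inKer_iff hRc θ).2 hθ2⟩, fun ξ => ?_⟩
  apply Subtype.ext
  exact huniq ξ.1 ⟨ξ.2.1, (inKer_iff hRc ξ.1).1 ξ.2.2⟩

/-- A member of `c R` with `R` in the kernel does not vanish at all sections outside `R`. -/
theorem exists_AA_ne_zero (hs : Sys p M B a c) (hR : R < a.1)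
    (hg : ∀ Q, R < Q → Q ≤ a.1 → Good p a.1 c ζ Q) (χ : II c R) :
    ∃ v ∈ a.1, v ∉ R ∧ AA p a.1 ζ R v (ei χ.1) ≠ 0 := by
  classical
  by_contra hcon
  push Not at hcon
  have hfin := Core.finite_irr (G := Subgroup.centralizer (R : Set G))
  have : Fintype (c R) := Fintype.ofFinite _
  have hRp : IsPGroup p (R.subgroupOf (Subgroup.centralizer (R : Set G))) :=
    (hs.isBrauerPair hR.le).1.comap_of_injective _ (Subgroup.subtype_injective _)
  have h1 : ∀ x u : Subgroup.centralizer (R : Set G), IsPPart p x u →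
      u ∉ R.subgroupOf (Subgroup.centralizer (R : Set G)) →
      (χ.1 : Subgroup.centralizer (R : Set G) → ℂ) x = 0 := by
    intro x u hu huR
    have h2 := hs.eq_zero_of_AA hR.le hg
      (fun ψ : c R => if ψ.1 = χ.1 then 1 else 0) (f := ei χ.1) (by
        funext x
        rw [Finset.sum_eq_single (⟨χ.1, χ.2.1⟩ : c R)]
        · rw [if_pos rfl, one_mul]
        · intro ψ _ hψ
          rw [if_neg (fun h => hψ (Subtype.ext h)), zero_mul]
        · intro h
          exact absurd (Finset.mem_univ _) h) hcon x.2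
      (Blocks.PPart.isPPart_coe hu) (fun h => huR (Subgroup.mem_subgroupOf.2 h))
    rwa [ei_coe] at h2
  have hker := (inKer_iff (hs.le_centralizer hR.le) χ.1).1 χ.2.2
  have h2 := factorization_eq_of_vanish (subgroupOf_le_center R) hRp χ.1 hker h1
  have h3 := (S0969.result p M hs.hM _ hRp (subgroupOf_le_center R) χ.1 h2).1
  have h4 : blockOf M (χ.1 : Subgroup.centralizer (R : Set G) → ℂ) = c R :=
    (isPBlock_eq_blockOf (hs.isPBlock hR.le) χ.2.1).symm
  rw [h4] at h3
  have h5 := S0908.result p M hs.hM (c R) (hs.isPBlock hR.le) _ h3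
  have h6 := S0908.result p M hs.hM (c R) (hs.isPBlock hR.le) _ (hs.exists_defectGroup hR.le)
  have h7 : Nat.card (R.subgroupOf (Subgroup.centralizer (R : Set G))) = Nat.card R :=
    Nat.card_congr (Subgroup.subgroupOfEquivOfLe (hs.le_centralizer hR.le)).toEquiv
  have h8 : Nat.card (a.1.subgroupOf (Subgroup.centralizer (R : Set G))) = Nat.card a.1 :=
    Nat.card_congr (Subgroup.subgroupOfEquivOfLe
      (le_centralizer_of_comm hs.hab hR.le)).toEquiv
  have h9 : Nat.card a.1 ≤ Nat.card R := by rw [← h7, ← h8, h5, h6]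
  exact hR.ne (Subgroup.eq_of_le_of_card_ge hR.le h9)

end Sys

end Cfsg.Agent.H639
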