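import Mathlib
import Cfsg.Agent.H639.Loc6

/-!
# The block of `G` itself: the case `R = 1`
-/

set_option autoImplicit false
set_option linter.unusedSectionVars false

open Cfsg
open scoped ComplexConjugate

namespace Cfsg.Agent.H639

open Cfsg.Agent.Blocks.Blau Cfsg.Agent.Blocks.Local Cfsg.Agent.Characters
open Cfsg.Agent.H613.RegGram Cfsg.Agent.H613.Contrib
open Cfsg.Agent.H649 Cfsg.Agent.H651
open Cfsg.Agent.Blocks.Basic (isPBlock_blockOf mem_blockOf_self isPBlock_eq_blockOf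
  isPBlock_eq_of_mem isPBlock_nonempty)

universe u

variable {G : Type u} [Group G]

theorem mem_centralizer_bot (x : G) :
    x ∈ Subgroup.centralizer ((⊥ : Subgroup G) : Set G) := by
  rw [Subgroup.mem_centralizer_iff]
  intro h hh
  have h1 : h = 1 := Subgroup.mem_bot.1 hh
  rw [h1, one_mul, mul_one]

/-- `C_G(1) ≃* G`. -/
def botIso (G : Type u) [Group G] :
    Subgroup.centralizer ((⊥ : Subgroup G) : Set G) ≃* G where
  toFun x := x
  invFun x := ⟨x, mem_centralizer_bot x⟩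
  left_inv _ := rfl
  right_inv _ := rfl
  map_mul' _ _ := rfl

theorem ei_bot (ξ : IrrCharacter (Subgroup.centralizer ((⊥ : Subgroup G) : Set G))) :
    ei ξ = (irrMap (botIso G) ξ : G → ℂ) := by
  funext x
  rw [ei_of_mem _ (mem_centralizer_bot x)]
  rfl

theorem inducedCentralChar_bot [Finite G]
    (ξ : IrrCharacter (Subgroup.centralizer ((⊥ : Subgroup G) : Set G))) (g : G) :
    inducedCentralChar (Subgroup.centralizer ((⊥ : Subgroup G) : Set G))
      (ξ : Subgroup.centralizer ((⊥ : Subgroup G) : Set G) → ℂ) g = centralChar (irrMap (botIso G) ξ : G → ℂ) g := by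
  classical
  have := Fintype.ofFinite G
  rw [inducedCentralChar, centralChar]
  have h1 : ∀ h ∈ {h : Subgroup.centralizer ((⊥ : Subgroup G) : Set G) | IsConj g (h : G)},
      (ξ : Subgroup.centralizer ((⊥ : Subgroup G) : Set G) → ℂ) h /
        (ξ : Subgroup.centralizer ((⊥ : Subgroup G) : Set G) → ℂ) 1 = (irrMap (botIso G) ξ : G → ℂ) g /
        (irrMap (botIso G) ξ : G → ℂ) 1 := by
    intro h hh
    obtain ⟨c, hc⟩ := isConj_iff.1 hh
    have h2 : (irrMap (botIso G) ξ : G → ℂ) (h : G) = (irrMap (botIso G) ξ : G → ℂ) g := by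
      rw [← hc]
      exact Cfsg.Agent.Blocks.Basic.irr_conj (irrMap (botIso G) ξ).2 g c
    rw [← h2]
    rfl
  rw [finsum_mem_congr rfl h1]
  have h3 : {h : Subgroup.centralizer ((⊥ : Subgroup G) : Set G) | IsConj g (h : G)}.ncard =
      (Subgroup.centralizer ({g} : Set G)).index := by
    rw [Cfsg.Agent.Blocks.Basic.index_centralizer_eq_ncard]
    exact Set.ncard_congr (fun h _ => (h : G)) (fun h hh => hh)
      (fun _ _ _ _ h => Subtype.ext h) (fun x hx => ⟨⟨x, mem_centralizer_bot x⟩, hx, rfl⟩)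
  rw [finsum_mem_eq_finite_toFinset_sum _ (Set.toFinite _), Finset.sum_const,
    ← Set.ncard_eq_toFinset_card _ (Set.toFinite _), h3, nsmul_eq_mul, mul_div_assoc]

variable [Fintype G] {p : ℕ} [Fact p.Prime]
  {M : Ideal AlgInt} [M.IsPrime] {B : Set (IrrCharacter G)} {a : BrauerPairIdx G}
  {c : ∀ R : Subgroup G, Set (IrrCharacter (Subgroup.centralizer (R : Set G)))}

namespace Sys

theorem isPBlock_B (hs : Sys p M B a c) : IsPBlock M B :=
  ((Cfsg.Agent.H644.isBrauerPairOf_iff hs.hM).1 hs.hmax.1).2.1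

theorem blkMap_bot (hs : Sys p M B a c) : blkMap (botIso G) (c ⊥) = B := by
  have h1 := hs.isBrauerPairOf (R := ⊥) bot_le
  have h2 := (isBrauerPairOf_iff_isInducedBlock hs.hM hs.isPBlock_B
    (hs.isBrauerPair (R := ⊥) bot_le).1 (hs.isPBlock bot_le)).1 h1
  obtain ⟨h3, h4, h5⟩ := h2
  obtain ⟨ξ, hξ⟩ := isPBlock_nonempty h3
  obtain ⟨χ, hχ⟩ := isPBlock_nonempty h4
  have h6 : SameBlock M (irrMap (botIso G) ξ : G → ℂ) (χ : G → ℂ) := by
    intro g
    rw [← inducedCentralChar_bot]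
    exact h5 ξ hξ χ hχ g
  exact Cfsg.Agent.Blocks.Basic.isPBlock_eq_of_sameBlock (isPBlock_blkMap h3) h4
    (irrMap_mem_blkMap.2 hξ) hχ h6

/-- `c 1` and `B`. -/
noncomputable def botEquiv (hs : Sys p M B a c) : c ⊥ ≃ B where
  toFun ξ := ⟨irrMap (botIso G) ξ.1, by
    have h := irrMap_mem_blkMap (e := botIso G).2 ξ.2
    rwa [hs.blkMap_bot] at h⟩
  invFun χ := ⟨irrMap (botIso G).symm χ.1, by
    have h : ∀ ψ ∈ B, irrMap (botIso G).symm ψ ∈ c ⊥ := by
      intro ψ hψ
      rw [← hs.blkMap_bot, mem_blkMap] at hψ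
      exact hψ
    exact h χ.1 χ.2⟩
  left_inv ξ := Subtype.ext (irrMap_symm_irrMap _ _)
  right_inv χ := Subtype.ext (irrMap_irrMap_symm _ _)

theorem coe_botEquiv (hs : Sys p M B a c) (ξ : c ⊥) :
    ((hs.botEquiv ξ).1 : G → ℂ) = ei ξ.1 := (ei_bot ξ.1).symm

theorem sum_bot (hs : Sys p M B a c) [Fintype (c ⊥)] [Fintype B] (f : (G → ℂ) → ℂ) :
    ∑ ξ : c ⊥, f (ei ξ.1) = ∑ χ : B, f (χ.1 : G → ℂ) := by
  rw [← Equiv.sum_comp hs.botEquiv]
  exact Finset.sum_congr rfl fun ξ _ => by rw [hs.coe_botEquiv]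

end Sys

/-- The stabilizer of a pair. -/
def stabT (a : BrauerPairIdx G) : Subgroup G where
  carrier := {t | conjIdx t a = a}
  one_mem' := conjIdx_one a
  mul_mem' := by
    intro x y hx hy
    change conjIdx (x * y) a = a
    rw [← conjIdx_conjIdx, show conjIdx y a = a from hy]
    exact hx
  inv_mem' := by
    intro x hx
    exact conjIdx_inv_eq hx

theorem mem_stabT {t : G} : t ∈ stabT a ↔ conjIdx t a = a := Iff.rfl

/-- The action on `P`. -/
def autHom (a : BrauerPairIdx G) : stabT a →* MulAut a.1 where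
  toFun t := conjP t.2
  map_one' := by
    ext v
    change ((1 : G)) * (v : G) * (1 : G)⁻¹ = v
    simp
  map_mul' s t := by
    ext v
    change ((s : G) * (t : G)) * (v : G) * ((s : G) * (t : G))⁻¹ =
      (s : G) * ((t : G) * v * (t : G)⁻¹) * (s : G)⁻¹
    group

theorem autHom_apply (t : stabT a) (v : a.1) :
    ((autHom a t v : a.1) : G) = t * v * (t : G)⁻¹ := rfl

theorem mem_ker_autHom (t : stabT a) :
    t ∈ (autHom a).ker ↔ (t : G) ∈ Subgroup.centralizer (a.1 : Set G) := by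
  rw [MonoidHom.mem_ker, Subgroup.mem_centralizer_iff]
  constructor
  · intro h v hv
    have h1 := congrArg (fun f : MulAut a.1 => ((f ⟨v, hv⟩ : a.1) : G)) h
    have h2 : (t : G) * v * (t : G)⁻¹ = v := h1
    rw [mul_inv_eq_iff_eq_mul] at h2
    exact h2.symm
  · intro h
    ext v
    rw [autHom_apply]
    change (t : G) * v * (t : G)⁻¹ = v
    rw [mul_inv_eq_iff_eq_mul]
    exact (h v v.2).symm

/-- The inertial quotient, as a group of automorphisms of `P`. -/
abbrev inQ (a : BrauerPairIdx G) : Subgroup (MulAut a.1) := (autHom a).range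

theorem centralizer_le_stabT (hs : Sys p M B a c) :
    Subgroup.centralizer (a.1 : Set G) ≤ stabT a := by
  intro t ht
  rw [mem_stabT]
  obtain ⟨P, e⟩ := a
  rw [conjIdx_eq_iff hs.hmax.1.1.2]
  exact ⟨Subgroup.centralizer_le_normalizer _ ht, stabilizesBlock_of_mem e ht⟩

/-- The inertial index. -/
theorem card_inQ (hs : Sys p M B a c) :
    Nat.card (inQ a) = (Subgroup.centralizer (a.1 : Set G)).relIndex (stabT a) := by
  have h1 : Nat.card (inQ a) = (autHom a).ker.index := by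
    rw [Subgroup.index_ker]
  rw [h1, Subgroup.relIndex]
  congr 1
  ext t
  rw [mem_ker_autHom, Subgroup.mem_subgroupOf]

theorem inQ_free (hfree : Free a) {τ : MulAut a.1} (hτ : τ ∈ inQ a) {v : a.1} (hv : v ≠ 1)
    (h : τ v = v) : τ = 1 := by
  obtain ⟨t, rfl⟩ := hτ
  have h1 : t ∈ (autHom a).ker := by
    rw [mem_ker_autHom]
    exact hfree t t.2 v v.2 (fun h => hv (Subtype.ext h)) (congrArg Subtype.val h)
  exact h1

end Cfsg.Agent.H639
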