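import Mathlib
import Cfsg.Agent.H639.Gram2
import Cfsg.Agent.H641.Inertial
import Cfsg.Agent.H641.CycAct

/-!
# From the hypotheses of the statements to the setting `Full`
-/

set_option autoImplicit false
set_option linter.unusedSectionVars false

open Cfsg
open scoped ComplexConjugate

namespace Cfsg.Agent.H639

open Cfsg.Agent.Blocks.Local Cfsg.Agent.Characters
open Cfsg.Agent.H649 Cfsg.Agent.H651
open Cfsg.Agent.Blocks.Basic (isPBlock_blockOf mem_blockOf_self isPBlock_eq_blockOf
  isPBlock_eq_of_mem isPBlock_nonempty)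

universe u

variable {G : Type u} [Group G] {p : ℕ} [Fact p.Prime]
  {M : Ideal AlgInt} {B : Set (IrrCharacter G)} {P : Subgroup G}
  {c : Set (IrrCharacter (Subgroup.centralizer (P : Set G)))}

theorem isPrime_of (hM : IsPModular p M) : M.IsPrime := hM.2.1.isPrime

/-- The stabilizer given by its elements. -/
theorem stabT_eq [Fintype G] (hM : IsPModular p M) (hc : IsPBlock M c) {T : Subgroup G}
    (hT : ∀ g : G, g ∈ T ↔ (g ∈ Subgroup.normalizer (P : Set G) ∧
      StabilizesBlock (Subgroup.centralizer (P : Set G)) c g)) :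
    stabT (⟨P, c⟩ : BrauerPairIdx G) = T := by
  have := isPrime_of hM
  ext x
  rw [mem_stabT, conjIdx_eq_iff hc, hT]

theorem mem_stabT_iff [Fintype G] (hM : IsPModular p M) (hc : IsPBlock M c) {x : G} :
    x ∈ stabT (⟨P, c⟩ : BrauerPairIdx G) ↔ x ∈ Subgroup.normalizer (P : Set G) ∧
      StabilizesBlock (Subgroup.centralizer (P : Set G)) c x := by
  have := isPrime_of hM
  rw [mem_stabT, conjIdx_eq_iff hc]

/-- The full setting from the hypotheses on a block with abelian defect group `P ≠ 1` and free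
inertial action. -/
theorem exists_full [Fintype G] [M.IsPrime] (hM : IsPModular p M) (hPD : IsDefectGroup p M B P)
    (hP1 : P ≠ ⊥) (hPab : ∀ x ∈ P, ∀ y ∈ P, x * y = y * x)
    (hc : IsInducedBlock M (Subgroup.centralizer (P : Set G)) c B)
    (hfree : ∀ g : G, g ∈ Subgroup.normalizer (P : Set G) →
      StabilizesBlock (Subgroup.centralizer (P : Set G)) c g →
      ∀ x ∈ P, x ≠ 1 → g * x * g⁻¹ = x → g ∈ Subgroup.centralizer (P : Set G)) :
    ∃ (c' : ∀ R : Subgroup G, Set (IrrCharacter (Subgroup.centralizer (R : Set G))))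
      (ζ : Subgroup G → G → ℂ), Full p M B ⟨P, c⟩ c' ζ := by
  refine Full.exists hM (Cfsg.Agent.H641.isMaximal_of_induced hM hPD hc) hPab ?_ hP1
  intro t ht x hx hx1 htx
  obtain ⟨h1, h2⟩ := (conjIdx_eq_iff hc.1 t).1 ht
  exact hfree t h1 h2 x hx hx1 htx

/-- The stabilizer has index prime to `p` over `C_G(P)`. -/
theorem not_dvd_relIndex' [Finite G] [M.IsPrime] (hM : IsPModular p M)
    (hPD : IsDefectGroup p M B P)
    (hPab : ∀ x ∈ P, ∀ y ∈ P, x * y = y * x)
    (hc : IsInducedBlock M (Subgroup.centralizer (P : Set G)) c B) {T : Subgroup G}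
    (hT : ∀ g : G, g ∈ T ↔ (g ∈ Subgroup.normalizer (P : Set G) ∧
      StabilizesBlock (Subgroup.centralizer (P : Set G)) c g)) :
    ¬ p ∣ (Subgroup.centralizer (P : Set G)).relIndex T := by
  have h1 := Cfsg.Agent.H641.not_dvd_relIndex hM
    (Cfsg.Agent.H641.isMaximal_of_induced hM hPD hc)
  rw [← Cfsg.Agent.H641.eq_pairStab hM hc.1 hT] at h1
  have h2 : P ⊔ Subgroup.centralizer (P : Set G) = Subgroup.centralizer (P : Set G) := by
    rw [sup_eq_right]
    intro x hx
    rw [Subgroup.mem_centralizer_iff]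
    intro y hy
    exact hPab y hy x hx
  rwa [h2] at h1

end Cfsg.Agent.H639
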