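import Mathlib

/-!
# Integral matrices with Gram matrix `e J + 1`, `e ≤ 3`, with few rows
-/

set_option autoImplicit false
set_option linter.unusedSectionVars false

namespace Cfsg.Agent.H639

/-- Families of `(e+1)`-sets meeting pairwise in `e` elements. -/
theorem card_of_sets {I Ω : Type*} [Fintype I] [Fintype Ω] [DecidableEq I] [DecidableEq Ω]
    [Nonempty Ω] (e : ℕ) (S : Ω → Finset I) (hcard : ∀ j, (S j).card = e + 1)
    (hint : ∀ i j, i ≠ j → (S i ∩ S j).card = e) (hcov : ∀ c, ∃ j, c ∈ S j) :
    e + Fintype.card Ω ≤ Fintype.card I ∨ (Fintype.card I ≤ e + 2 ∧ 3 ≤ Fintype.card Ω) := by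
  by_cases hΩ : Fintype.card Ω = 1
  · left
    obtain ⟨j⟩ := ‹Nonempty Ω›
    rw [hΩ, ← hcard j]
    exact Finset.card_le_univ _
  have hΩ2 : 1 < Fintype.card Ω := by
    have := Fintype.card_pos (α := Ω)
    omega
  obtain ⟨i₀, i₁, h01⟩ := Fintype.exists_pair_of_one_lt_card hΩ2
  set C := S i₀ ∩ S i₁ with hC
  have hCc : C.card = e := hint _ _ h01
  by_cases hall : ∀ j, C ⊆ S j
  · left
    set D := Finset.univ.biUnion (fun j => S j \ C) with hD
    have hpd : ∀ j ∈ (Finset.univ : Finset Ω), ∀ k ∈ (Finset.univ : Finset Ω), j ≠ k →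
        Disjoint (S j \ C) (S k \ C) := by
      intro j _ k _ hjk
      rw [Finset.disjoint_left]
      intro x hx hx'
      rw [Finset.mem_sdiff] at hx hx'
      have h1 : C = S j ∩ S k := Finset.eq_of_subset_of_card_le
        (Finset.subset_inter (hall j) (hall k)) (by rw [hint _ _ hjk, hCc])
      apply hx.2
      rw [h1]
      exact Finset.mem_inter.2 ⟨hx.1, hx'.1⟩
    have hDc : D.card = Fintype.card Ω := by
      rw [hD, Finset.card_biUnion hpd]
      have : ∀ j ∈ (Finset.univ : Finset Ω), (S j \ C).card = 1 := by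
        intro j _
        rw [Finset.card_sdiff_of_subset (hall j), hcard, hCc]
        omega
      rw [Finset.sum_congr rfl this, Finset.sum_const, smul_eq_mul, mul_one, Finset.card_univ]
    have hCD : Disjoint C D := by
      rw [Finset.disjoint_left]
      intro x hx hx'
      rw [hD, Finset.mem_biUnion] at hx'
      obtain ⟨j, -, hj⟩ := hx'
      exact (Finset.mem_sdiff.1 hj).2 hx
    have h2 := Finset.card_le_univ (C ∪ D)
    rw [Finset.card_union_of_disjoint hCD, hDc, hCc] at h2
    exact h2
  · right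
    push Not at hall
    obtain ⟨j, hj⟩ := hall
    set U := S i₀ ∪ S i₁ with hU
    have hUc : U.card = e + 2 := by
      have h1 := Finset.card_union_add_card_inter (S i₀) (S i₁)
      rw [hcard, hcard, hint _ _ h01] at h1
      rw [hU]
      omega
    have hCU : C ⊆ U := Finset.inter_subset_union
    have hsub : ∀ k, ¬ C ⊆ S k → S k ⊆ U := by
      intro k hk
      have hk0 : k ≠ i₀ := by
        rintro rfl
        exact hk Finset.inter_subset_left
      have hk1 : k ≠ i₁ := by
        rintro rfl
        exact hk Finset.inter_subset_right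
      have h1 : (S k ∩ C).card < e := by
        rw [← hCc]
        apply Finset.card_lt_card
        refine ⟨Finset.inter_subset_right, fun h => hk fun x hx => (Finset.mem_inter.1 (h hx)).1⟩
      have h2 : S k ∩ U = (S k ∩ S i₀) ∪ (S k ∩ S i₁) := by
        rw [hU, Finset.inter_union_distrib_left]
      have h3 : (S k ∩ S i₀) ∩ (S k ∩ S i₁) = S k ∩ C := by
        ext x
        simp only [Finset.mem_inter, hC]
        tauto
      have h4 := Finset.card_union_add_card_inter (S k ∩ S i₀) (S k ∩ S i₁)
      rw [h3, ← h2, hint _ _ hk0, hint _ _ hk1] at h4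
      have h5 : (S k ∩ U).card ≤ (S k).card := Finset.card_le_card Finset.inter_subset_left
      rw [hcard] at h5
      have h6 : S k ∩ U = S k := Finset.eq_of_subset_of_card_le Finset.inter_subset_left
        (by rw [hcard]; omega)
      rw [← h6]
      exact Finset.inter_subset_right
    have hj1 : (S j ∩ C).card < e := by
      rw [← hCc]
      apply Finset.card_lt_card
      refine ⟨Finset.inter_subset_right, fun h => hj fun x hx => (Finset.mem_inter.1 (h hx)).1⟩
    have hall' : ∀ k, S k ⊆ U := by
      intro k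
      by_cases hk : C ⊆ S k
      · by_contra hkU
        rw [Finset.not_subset] at hkU
        obtain ⟨y, hy, hyU⟩ := hkU
        have hkj : k ≠ j := by
          rintro rfl
          exact hj hk
        have h1 : C = (S k).erase y := Finset.eq_of_subset_of_card_le
          (fun x hx => Finset.mem_erase.2 ⟨fun h => hyU (h ▸ hCU hx), hk hx⟩)
          (by rw [Finset.card_erase_of_mem hy, hcard, hCc]; omega)
        have h2 : S k ∩ S j ⊆ S j ∩ C := by
          intro x hx
          rw [Finset.mem_inter] at hx ⊢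
          refine ⟨hx.2, ?_⟩
          rw [h1]
          exact Finset.mem_erase.2 ⟨fun h => hyU (h ▸ hsub j hj hx.2), hx.1⟩
        have h3 := Finset.card_le_card h2
        rw [hint _ _ hkj] at h3
        omega
      · exact hsub k hk
    refine ⟨?_, ?_⟩
    · rw [← hUc, ← Finset.card_univ]
      apply Finset.card_le_card
      intro x _
      obtain ⟨k, hk⟩ := hcov x
      exact hall' k hk
    · have hj0 : j ≠ i₀ := by
        rintro rfl
        exact hj Finset.inter_subset_left
      have hj1' : j ≠ i₁ := by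
        rintro rfl
        exact hj Finset.inter_subset_right
      have h1 : ({i₀, i₁, j} : Finset Ω).card = 3 :=
        Finset.card_eq_three.2 ⟨i₀, i₁, j, h01, hj0.symm, hj1'.symm, rfl⟩
      rw [← h1]
      exact Finset.card_le_univ _

theorem sq_eq_ite {x : ℤ} (h : x ^ 2 ≤ 1) : x * x = if x ≠ 0 then 1 else 0 := by
  have h1 : x = 0 ∨ x = 1 ∨ x = -1 := by
    have : -1 ≤ x := by nlinarith
    have : x ≤ 1 := by nlinarith
    omega
  rcases h1 with rfl | rfl | rfl <;> norm_num

theorem exists_ind_eq {x y : ℤ} (hx : x ^ 2 ≤ 1) (hy : y ^ 2 ≤ 1) :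
    ∃ t : ℤ, 0 ≤ t ∧ (if x ≠ 0 ∧ y ≠ 0 then (1 : ℤ) else 0) = x * y + 2 * t := by
  have h1 : x = 0 ∨ x = 1 ∨ x = -1 := by
    have : -1 ≤ x := by nlinarith
    have : x ≤ 1 := by nlinarith
    omega
  have h2 : y = 0 ∨ y = 1 ∨ y = -1 := by
    have : -1 ≤ y := by nlinarith
    have : y ≤ 1 := by nlinarith
    omega
  rcases h1 with rfl | rfl | rfl <;> rcases h2 with rfl | rfl | rfl
  · exact ⟨0, le_rfl, by norm_num⟩
  · exact ⟨0, le_rfl, by norm_num⟩
  · exact ⟨0, le_rfl, by norm_num⟩
  · exact ⟨0, le_rfl, by norm_num⟩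
  · exact ⟨0, le_rfl, by norm_num⟩
  · exact ⟨1, by norm_num, by norm_num⟩
  · exact ⟨0, le_rfl, by norm_num⟩
  · exact ⟨1, by norm_num, by norm_num⟩
  · exact ⟨0, le_rfl, by norm_num⟩

/-- **Small `e`.** -/
theorem comb_small {I Ω : Type*} [Fintype I] [Fintype Ω] [DecidableEq I] [DecidableEq Ω]
    [Nonempty Ω] (e : ℕ) (he : e ≤ 3) (a : I → Ω → ℤ)
    (hgram : ∀ i j, ∑ c, a c i * a c j = (e : ℤ) + if i = j then 1 else 0)
    (hne : ∀ c, ∃ i, a c i ≠ 0) (hk : Fintype.card Ω < Fintype.card I) :
    e + Fintype.card Ω ≤ Fintype.card I ∨ (Fintype.card I ≤ e + 2 ∧ 3 ≤ Fintype.card Ω) := by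
  have hsq : ∀ c i, a c i ^ 2 ≤ 1 := by
    intro c i
    by_contra hcon
    push Not at hcon
    have h4 : 4 ≤ a c i ^ 2 := by
      by_contra h
      push Not at h
      have h5 : a c i = 1 ∨ a c i = -1 ∨ a c i = 0 := by
        have : -2 < a c i := by nlinarith
        have : a c i < 2 := by nlinarith
        omega
      rcases h5 with h5 | h5 | h5 <;> rw [h5] at hcon <;> norm_num at hcon
    have h5 := hgram i i
    rw [if_pos rfl] at h5
    have h6 := Finset.add_sum_erase Finset.univ (fun c' => a c' i * a c' i) (Finset.mem_univ c)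
    rw [h5] at h6
    have h7 : 0 ≤ ∑ x ∈ Finset.univ.erase c, a x i * a x i :=
      Finset.sum_nonneg fun x _ => mul_self_nonneg _
    have he3 : (e : ℤ) ≤ 3 := by exact_mod_cast he
    have h8 : ∑ x ∈ Finset.univ.erase c, a x i * a x i = 0 := by nlinarith
    have h9 : a c i ^ 2 = 4 := by nlinarith
    have h10 : (e : ℤ) = 3 := by nlinarith
    have hz : ∀ c', c' ≠ c → a c' i = 0 := by
      intro c' hc'
      have := (Finset.sum_eq_zero_iff_of_nonneg (fun x _ => mul_self_nonneg _)).1 h8 c'
        (Finset.mem_erase.2 ⟨hc', Finset.mem_univ _⟩)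
      exact mul_self_eq_zero.1 this
    by_cases hΩ : ∃ j, j ≠ i
    · obtain ⟨j, hj⟩ := hΩ
      have h11 := hgram i j
      rw [if_neg hj.symm, Finset.sum_eq_single c (fun c' _ hc' => by rw [hz c' hc', zero_mul])
        (fun h => absurd (Finset.mem_univ _) h), h10] at h11
      have h12 : a c i = 2 ∨ a c i = -2 := by
        have : (a c i - 2) * (a c i + 2) = 0 := by nlinarith
        rcases mul_eq_zero.1 this with h | h
        · left; linarith
        · right; linarith
      rcases h12 with h12 | h12 <;> rw [h12] at h11 <;> omega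
    · push Not at hΩ
      have h13 : Fintype.card I ≤ 1 := by
        rw [Fintype.card_le_one_iff]
        have h14 : ∀ x, x = c := by
          intro x
          by_contra hx
          obtain ⟨j, hj⟩ := hne x
          rw [hΩ j] at hj
          exact hj (hz x hx)
        intro x y
        rw [h14 x, h14 y]
      have := Fintype.card_pos (α := Ω)
      omega
  refine card_of_sets e (fun j => Finset.univ.filter fun c => a c j ≠ 0) ?_ ?_ ?_
  · intro j
    have h1 := hgram j j
    rw [if_pos rfl, Finset.sum_congr rfl fun c _ => sq_eq_ite (hsq c j), Finset.sum_boole] at h1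
    exact_mod_cast h1
  · intro i j hij
    choose t ht0 ht using fun c => exists_ind_eq (hsq c i) (hsq c j)
    have h1 := hgram i j
    rw [if_neg hij, add_zero] at h1
    have h2 : ((Finset.univ.filter fun c => a c i ≠ 0 ∧ a c j ≠ 0).card : ℤ) =
        e + 2 * ∑ c, t c := by
      rw [← h1, Finset.mul_sum, ← Finset.sum_add_distrib, ← Finset.sum_congr rfl fun c _ => ht c,
        Finset.sum_boole]
    have h3 : (Finset.univ.filter fun c => a c i ≠ 0) ∩ (Finset.univ.filter fun c => a c j ≠ 0) =
        Finset.univ.filter fun c => a c i ≠ 0 ∧ a c j ≠ 0 := by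
      rw [Finset.filter_and]
    have h4 : ((Finset.univ.filter fun c => a c i ≠ 0).card : ℤ) = e + 1 := by
      have h1 := hgram i i
      rw [if_pos rfl, Finset.sum_congr rfl fun c _ => sq_eq_ite (hsq c i), Finset.sum_boole] at h1
      exact_mod_cast h1
    have h5 : (Finset.univ.filter fun c => a c i ≠ 0 ∧ a c j ≠ 0).card ≤
        (Finset.univ.filter fun c => a c i ≠ 0).card :=
      Finset.card_le_card fun c hc => by
        rw [Finset.mem_filter] at hc ⊢
        exact ⟨hc.1, hc.2.1⟩
    have h6 : 0 ≤ ∑ c, t c := Finset.sum_nonneg fun c _ => ht0 c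
    rw [h3]
    omega
  · intro c
    obtain ⟨i, hi⟩ := hne c
    exact ⟨i, Finset.mem_filter.2 ⟨Finset.mem_univ _, hi⟩⟩

end Cfsg.Agent.H639
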