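import Mathlib
import Cfsg.Agent.H639.Gram2
import Cfsg.Agent.H639.Comb3

/-!
# Inertial index at most `3`
-/

set_option autoImplicit false
set_option linter.unusedSectionVars false

open Cfsg
open scoped ComplexConjugate

namespace Cfsg.Agent.H639

open Cfsg.Agent.Blocks.Local Cfsg.Agent.Characters
open Cfsg.Agent.H649 Cfsg.Agent.H651
open Cfsg.Agent.Blocks.Basic (isPBlock_blockOf mem_blockOf_self isPBlock_eq_blockOf
  isPBlock_eq_of_mem isPBlock_nonempty)

universe u

theorem blockRank_pos_of_nonempty {G : Type u} [Group G] [Finite G] {p : ℕ} [hp : Fact p.Prime]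
    {B : Set (IrrCharacter G)} (hB : B.Nonempty) : 0 < blockRank p B := by
  obtain ⟨χ, hχ⟩ := hB
  unfold blockRank
  rw [Module.finrank_pos_iff_exists_ne_zero]
  refine ⟨⟨_, Submodule.subset_span ⟨χ, hχ, rfl⟩⟩, ?_⟩
  intro h
  have h1 := congrFun (congrArg Subtype.val h) (1 : G)
  have h2 : ¬ p ∣ orderOf (1 : G) := by
    rw [orderOf_one]
    exact hp.out.one_lt.ne' ∘ Nat.dvd_one.1
  have h3 : pRegularPart p (χ : G → ℂ) 1 = (χ : G → ℂ) 1 := by
    rw [pRegularPart]
    exact if_pos h2
  have h4 : (χ : G → ℂ) 1 ≠ 0 := Blocks.Basic.irr_one_ne_zero χ.2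
  exact h4 (h3.symm.trans h1)

variable {G : Type u} [Group G] [Fintype G] {p : ℕ} [Fact p.Prime]
  {M : Ideal AlgInt} [M.IsPrime] {B : Set (IrrCharacter G)} {a : BrauerPairIdx G}
  {c : ∀ R : Subgroup G, Set (IrrCharacter (Subgroup.centralizer (R : Set G)))}
  {ζ : Subgroup G → G → ℂ}

namespace Full

theorem blockRank_pos (hF : Full p M B a c ζ) : 0 < blockRank p B :=
  blockRank_pos_of_nonempty (isPBlock_nonempty hF.hs.isPBlock_B)

/-- `k(B) = e + m` for `e ≤ 3`, except possibly for `|P| = 7` or `|P| = 13`. -/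
theorem card_eq_or (hF : Full p M B a c ζ) (he : Nat.card (inQ a) ≤ 3) :
    Nat.card B = Nat.card (inQ a) + Nat.card (Orb a) ∨
      (Nat.card (inQ a) = 2 ∧ Nat.card a.1 = 7) ∨ (Nat.card (inQ a) = 3 ∧ Nat.card a.1 = 13) := by
  classical
  have hfinG := Core.finite_irr (G := G)
  have : Fintype B := Fintype.ofFinite _
  have := hF.finite_Orb
  have : Fintype (Orb a) := Fintype.ofFinite _
  have := hF.nonempty_Orb
  obtain ⟨α, -, hgram, hne⟩ := hF.exists_matrix
  have hpos := hF.blockRank_pos
  have hle := hF.card_le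
  have hadd := hF.card_eq_add
  have horb := hF.card_Orb
  have he0 : 0 < Nat.card (inQ a) := card_inQ_pos
  have hk : Fintype.card (Orb a) < Fintype.card B := by
    rw [← Nat.card_eq_fintype_card, ← Nat.card_eq_fintype_card]
    omega
  have h1 := comb_small (Nat.card (inQ a)) he α hgram hne hk
  rw [← Nat.card_eq_fintype_card, ← Nat.card_eq_fintype_card] at h1
  rcases h1 with h1 | ⟨h1, h2⟩
  · left
    omega
  · by_cases heq : Nat.card B = Nat.card (inQ a) + Nat.card (Orb a)
    · exact Or.inl heq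
    right
    have h3 : Nat.card (inQ a) = 2 ∨ Nat.card (inQ a) = 3 := by omega
    rcases h3 with h3 | h3
    · left
      rw [h3] at horb h1 heq hle ⊢
      refine ⟨rfl, ?_⟩
      omega
    · right
      rw [h3] at horb h1 heq hle ⊢
      refine ⟨rfl, ?_⟩
      have h4 : Nat.card (Orb a) = 3 ∨ Nat.card (Orb a) = 4 := by omega
      rcases h4 with h4 | h4
      · exfalso
        rw [h4] at horb
        obtain ⟨n, hn⟩ := (IsPGroup.iff_card).1 hF.hs.isPGroup
        rw [← horb] at hn
        have h5 : 2 ∣ p ^ n := by rw [← hn]; norm_num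
        have h6 : 5 ∣ p ^ n := by rw [← hn]; norm_num
        have h7 := (Nat.prime_dvd_prime_iff_eq Nat.prime_two (Fact.out : p.Prime)).1
          (Nat.prime_two.dvd_of_dvd_pow h5)
        have h8 := (Nat.prime_dvd_prime_iff_eq Nat.prime_five (Fact.out : p.Prime)).1
          (Nat.prime_five.dvd_of_dvd_pow h6)
        omega
      · omega

end Full

end Cfsg.Agent.H639
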