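import Mathlib
import Cfsg.Agent.H639.Small
import Cfsg.Agent.H639.Conn

/-!
# Klein four defect groups
-/

set_option autoImplicit false
set_option linter.unusedSectionVars false

open Cfsg
open scoped ComplexConjugate

namespace Cfsg.Agent.H639

open Cfsg.Agent.Blocks.Local Cfsg.Agent.Characters
open Cfsg.Agent.H649 Cfsg.Agent.H651
open Cfsg.Agent.Blocks.Basic (isPBlock_blockOf mem_blockOf_self isPBlock_eq_blockOf
  isPBlock_eq_of_mem isPBlock_nonempty)

universe u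

variable {G : Type u} [Group G]

/-- An automorphism of a Klein four group fixing a nontrivial element is an involution. -/
theorem klein_sq {V : Type*} [Group V] [IsKleinFour V] (τ : MulAut V) {x : V} (hx : x ≠ 1)
    (h : τ x = x) (y : V) : τ (τ y) = y := by
  by_cases hy : y = 1
  · rw [hy, map_one, map_one]
  by_cases hyx : y = x
  · rw [hyx, h, h]
  by_cases hτ : τ y = y
  · rw [hτ, hτ]
  have h1 : τ y ≠ 1 := fun h1 => hy ((map_eq_one_iff τ τ.injective).1 h1)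
  have h2 : τ y ≠ x := fun h2 => hyx (τ.injective (h2.trans h.symm))
  have h3 : τ y = x * y := IsKleinFour.eq_mul_of_ne_all hx hy (fun h => hyx h.symm) h1 h2 hτ
  rw [h3, map_mul, h, h3, ← mul_assoc, IsKleinFour.mul_self, one_mul]

theorem klein_comm {P : Subgroup G} (hV : IsKleinFour P) : ∀ x ∈ P, ∀ y ∈ P, x * y = y * x := by
  intro x hx y hy
  have h1 := (IsKleinFour.isMulCommutative (G := P)).is_comm.comm (⟨x, hx⟩ : P) ⟨y, hy⟩
  exact congrArg Subtype.val h1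

theorem klein_ne_bot {P : Subgroup G} (hV : IsKleinFour P) : P ≠ ⊥ := by
  rintro rfl
  have h1 := IsKleinFour.card_four (G := (⊥ : Subgroup G))
  rw [Subgroup.card_bot] at h1
  omega

variable [Fintype G] {M : Ideal AlgInt} [M.IsPrime] {B : Set (IrrCharacter G)} {P : Subgroup G}
  {c : Set (IrrCharacter (Subgroup.centralizer (P : Set G)))}

theorem klein_free (hM : IsPModular 2 M) (hPD : IsDefectGroup 2 M B P) (hV : IsKleinFour P)
    (hc : IsInducedBlock M (Subgroup.centralizer (P : Set G)) c B) :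
    Free (⟨P, c⟩ : BrauerPairIdx G) := by
  have : Fact (Nat.Prime 2) := ⟨Nat.prime_two⟩
  obtain ⟨c', hs⟩ := Sys.exists hM (a := ⟨P, c⟩) (Cfsg.Agent.H641.isMaximal_of_induced hM hPD hc)
    (klein_comm hV)
  have h1 := not_dvd_relIndex' hM hPD (klein_comm hV) hc (T := stabT ⟨P, c⟩)
    (fun g => mem_stabT_iff hM hc.1)
  have h0 := card_inQ hs
  rw [← h0] at h1
  intro t ht x hx hx1 htx
  set τ : MulAut P := autHom ⟨P, c⟩ ⟨t, ht⟩ with hτ
  have hτx : τ ⟨x, hx⟩ = ⟨x, hx⟩ := Subtype.ext htx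
  have h2 : τ ^ 2 = 1 := by
    ext y
    rw [pow_two]
    exact congrArg Subtype.val (klein_sq τ (x := ⟨x, hx⟩)
      (fun h => hx1 (congrArg Subtype.val h)) hτx y)
  have h3 : τ ∈ inQ (⟨P, c⟩ : BrauerPairIdx G) := ⟨⟨t, ht⟩, rfl⟩
  have h4 : orderOf τ ∣ Nat.card (inQ (⟨P, c⟩ : BrauerPairIdx G)) := by
    have := orderOf_dvd_natCard (⟨τ, h3⟩ : inQ (⟨P, c⟩ : BrauerPairIdx G))
    rwa [Subgroup.orderOf_mk] at this
  have h5 : orderOf τ ∣ 2 := orderOf_dvd_of_pow_eq_one h2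
  have h6 : orderOf τ = 1 := by
    rcases (Nat.dvd_prime Nat.prime_two).1 h5 with h6 | h6
    · exact h6
    · rw [h6] at h4
      exact absurd h4 h1
  have h7 : τ = 1 := orderOf_eq_one_iff.1 h6
  have h8 : (⟨t, ht⟩ : stabT (⟨P, c⟩ : BrauerPairIdx G)) ∈ (autHom ⟨P, c⟩).ker := h7
  exact (mem_ker_autHom _).1 h8

/-- The setting for Klein four defect groups. -/
theorem klein_full (hM : IsPModular 2 M) (hPD : IsDefectGroup 2 M B P) (hV : IsKleinFour P)
    (hc : IsInducedBlock M (Subgroup.centralizer (P : Set G)) c B) :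
    haveI : Fact (Nat.Prime 2) := ⟨Nat.prime_two⟩
    ∃ (c' : ∀ R : Subgroup G, Set (IrrCharacter (Subgroup.centralizer (R : Set G))))
      (ζ : Subgroup G → G → ℂ), Full 2 M B ⟨P, c⟩ c' ζ :=
  haveI : Fact (Nat.Prime 2) := ⟨Nat.prime_two⟩
  Full.exists hM (Cfsg.Agent.H641.isMaximal_of_induced hM hPD hc) (klein_comm hV)
    (klein_free hM hPD hV hc) (klein_ne_bot hV)

theorem klein_main [Fact (Nat.Prime 2)]
    {c' : ∀ R : Subgroup G, Set (IrrCharacter (Subgroup.centralizer (R : Set G)))}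
    {ζ : Subgroup G → G → ℂ} (hF : Full 2 M B ⟨P, c⟩ c' ζ) (hV : IsKleinFour P) :
    (Nat.card (inQ (⟨P, c⟩ : BrauerPairIdx G)) = 1 ∨
      Nat.card (inQ (⟨P, c⟩ : BrauerPairIdx G)) = 3) ∧ Nat.card B = 4 ∧
      blockRank 2 B = Nat.card (inQ (⟨P, c⟩ : BrauerPairIdx G)) ∧
      Nat.card B = Nat.card (inQ (⟨P, c⟩ : BrauerPairIdx G)) +
        Nat.card (Orb (⟨P, c⟩ : BrauerPairIdx G)) := by
  have hP4 : Nat.card (⟨P, c⟩ : BrauerPairIdx G).1 = 4 := IsKleinFour.card_four (G := P)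
  have horb := hF.card_Orb
  rw [hP4] at horb
  have h3 : Nat.card (inQ (⟨P, c⟩ : BrauerPairIdx G)) ∣ 3 :=
    ⟨Nat.card (Orb (⟨P, c⟩ : BrauerPairIdx G)), by omega⟩
  have he : Nat.card (inQ (⟨P, c⟩ : BrauerPairIdx G)) = 1 ∨
      Nat.card (inQ (⟨P, c⟩ : BrauerPairIdx G)) = 3 := (Nat.dvd_prime Nat.prime_three).1 h3
  have h4 := hF.card_eq_or (Nat.le_of_dvd (by norm_num) h3)
  have h5 := hF.card_eq_add
  rw [hP4] at h4
  have h6 : Nat.card B = Nat.card (inQ (⟨P, c⟩ : BrauerPairIdx G)) +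
        Nat.card (Orb (⟨P, c⟩ : BrauerPairIdx G)) := by
    rcases h4 with h4 | h4 | h4
    · exact h4
    · omega
    · omega
  refine ⟨he, ?_, by omega, h6⟩
  rcases he with he | he
  · rw [he] at horb h6
    omega
  · rw [he] at horb h6
    omega

end Cfsg.Agent.H639
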