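import Mathlib

/-!
# Gram determinants of integral matrices

`det_ge`: an integral `k × m` matrix of rank `m` without zero rows has Gram determinant at least
`k - m + 1`.
-/

set_option autoImplicit false
set_option linter.unusedSectionVars false

open Matrix

namespace Cfsg.Agent.H639.DetGe

variable {κ ι : Type*} [Fintype ι] [DecidableEq ι] [DecidableEq κ]

/-- The Gram matrix of the rows in `T`. -/
noncomputable def gR (a : κ → ι → ℝ) (T : Finset κ) : Matrix ι ι ℝ :=
  ∑ t ∈ T, vecMulVec (a t) (a t)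

theorem gR_def (a : κ → ι → ℝ) (T : Finset κ) :
    gR a T = ∑ t ∈ T, vecMulVec (a t) (a t) := rfl

theorem gR_posSemidef (a : κ → ι → ℝ) (T : Finset κ) : (gR a T).PosSemidef := by
  rw [gR_def]
  refine Matrix.posSemidef_sum T fun t _ => ?_
  have h := Matrix.posSemidef_vecMulVec_self_star (a t)
  simpa using h

theorem gR_erase (a : κ → ι → ℝ) {T : Finset κ} {t : κ} (ht : t ∈ T) :
    gR a (T.erase t) = gR a T + (Matrix.replicateCol Unit (-a t)) * Matrix.replicateRow Unit (a t) := by
  rw [gR_def, gR_def, ← Finset.add_sum_erase T _ ht]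
  ext i j
  simp [Matrix.mul_apply, vecMulVec_apply, Matrix.sum_apply]

theorem det_erase (a : κ → ι → ℝ) {T : Finset κ} {t : κ} (ht : t ∈ T) (h : (gR a T).det ≠ 0) :
    (gR a (T.erase t)).det = (gR a T).det * (1 - a t ⬝ᵥ ((gR a T)⁻¹ *ᵥ a t)) := by
  rw [gR_erase a ht, det_add_replicateCol_mul_replicateRow (Ne.isUnit h)]
  congr 1
  rw [Matrix.det_unique]
  simp only [Matrix.add_apply, Matrix.one_apply_eq]
  rw [Matrix.mul_assoc, sub_eq_add_neg]
  congr 1
  rw [Matrix.mul_apply]
  simp only [Matrix.replicateRow_apply, dotProduct, Matrix.mul_apply, Matrix.replicateCol_apply,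
    mulVec, Pi.neg_apply, mul_neg, Finset.sum_neg_distrib]

theorem dot_pos (a : κ → ι → ℝ) {T : Finset κ} {t : κ} (h : (gR a T).det ≠ 0) (hat : a t ≠ 0) :
    0 < a t ⬝ᵥ ((gR a T)⁻¹ *ᵥ a t) := by
  have h1 : (gR a T).PosDef := (gR_posSemidef a T).posDef_iff_det_ne_zero.2 h
  have h2 := h1.inv
  have h3 := (posDef_iff_dotProduct_mulVec.1 h2).2 hat
  simpa using h3

theorem sum_dot (a : κ → ι → ℝ) {T : Finset κ} (h : (gR a T).det ≠ 0) :
    ∑ t ∈ T, a t ⬝ᵥ ((gR a T)⁻¹ *ᵥ a t) = Fintype.card ι := by
  have h1 : ∀ t, a t ⬝ᵥ ((gR a T)⁻¹ *ᵥ a t) = ((gR a T)⁻¹ * vecMulVec (a t) (a t)).trace := by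
    intro t
    rw [Matrix.mul_vecMulVec, Matrix.trace_vecMulVec, dotProduct_comm]
  simp only [h1]
  rw [← Matrix.trace_sum, ← Matrix.mul_sum, ← gR_def, Matrix.nonsing_inv_mul _ (Ne.isUnit h),
    Matrix.trace_one]

theorem sum_det_erase (a : κ → ι → ℝ) {T : Finset κ} (h : (gR a T).det ≠ 0) :
    ∑ t ∈ T, (gR a (T.erase t)).det = ((T.card : ℝ) - Fintype.card ι) * (gR a T).det := by
  rw [Finset.sum_congr rfl fun t ht => det_erase a ht h, ← Finset.mul_sum, Finset.sum_sub_distrib,
    sum_dot a h]
  simp [mul_comm]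

/-- The integral version. -/
noncomputable def gZ (a : κ → ι → ℤ) (T : Finset κ) : Matrix ι ι ℤ :=
  ∑ t ∈ T, vecMulVec (a t) (a t)

theorem det_gZ (a : κ → ι → ℤ) (T : Finset κ) :
    ((gZ a T).det : ℝ) = (gR (fun t i => (a t i : ℝ)) T).det := by
  have h1 := RingHom.map_det (Int.castRingHom ℝ) (gZ a T)
  rw [eq_intCast] at h1
  rw [h1]
  congr 1
  ext i j
  rw [gZ, gR_def]
  simp [Matrix.sum_apply, vecMulVec_apply]

theorem det_gZ_nonneg (a : κ → ι → ℤ) (T : Finset κ) : 0 ≤ (gZ a T).det := by
  have h := (gR_posSemidef (fun t i => (a t i : ℝ)) T).det_nonneg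
  rw [← det_gZ] at h
  exact_mod_cast h

theorem card_le_det (a : κ → ι → ℤ) (ha : ∀ t, a t ≠ 0) :
    ∀ (n : ℕ) (T : Finset κ), T.card = n → (gZ a T).det ≠ 0 →
      (T.card : ℤ) + 1 ≤ (gZ a T).det + Fintype.card ι := by
  intro n
  induction n with
  | zero =>
    intro T hT h
    have h1 := det_gZ_nonneg a T
    rw [hT]
    have h2 : 1 ≤ (gZ a T).det := by omega
    push_cast
    omega
  | succ n ih =>
    intro T hT h
    have h1 := det_gZ_nonneg a T
    have h2 : 1 ≤ (gZ a T).det := by omega
    by_cases hle : T.card ≤ Fintype.card ι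
    · have : (T.card : ℤ) ≤ Fintype.card ι := by exact_mod_cast hle
      omega
    · push Not at hle
      have hR : (gR (fun t i => (a t i : ℝ)) T).det ≠ 0 := by
        rw [← det_gZ]
        exact_mod_cast h
      have hsum := sum_det_erase (fun t i => (a t i : ℝ)) hR
      -- some `t` with positive determinant after removal
      have hex : ∃ t ∈ T, 0 < (gZ a (T.erase t)).det := by
        by_contra hcon
        push Not at hcon
        have h3 : ∑ t ∈ T, (gR (fun t i => (a t i : ℝ)) (T.erase t)).det ≤ 0 := by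
          refine Finset.sum_nonpos fun t ht => ?_
          rw [← det_gZ]
          exact_mod_cast hcon t ht
        rw [hsum, ← det_gZ] at h3
        have h4 : (0 : ℝ) < (T.card : ℝ) - Fintype.card ι := by
          rw [sub_pos]
          exact_mod_cast hle
        have h5 : (0 : ℝ) < ((gZ a T).det : ℝ) := by
          exact_mod_cast h2
        have h6 := mul_pos h4 h5
        linarith
      obtain ⟨t, ht, hpos⟩ := hex
      have h3 := ih (T.erase t) (by rw [Finset.card_erase_of_mem ht]; omega) hpos.ne'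
      have h4 : (gZ a (T.erase t)).det < (gZ a T).det := by
        have h5 := det_erase (fun t i => (a t i : ℝ)) ht hR
        have hat : (fun i => (a t i : ℝ)) ≠ 0 := by
          intro h0
          apply ha t
          funext i
          have := congrFun h0 i
          simpa using this
        have h6 := dot_pos (fun t i => (a t i : ℝ)) hR (t := t) hat
        have h7 : (0 : ℝ) < (gR (fun t i => (a t i : ℝ)) T).det := by
          rw [← det_gZ]
          exact_mod_cast h2
        have h8 : (gR (fun t i => (a t i : ℝ)) (T.erase t)).det <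
            (gR (fun t i => (a t i : ℝ)) T).det := by
          rw [h5]
          nlinarith [mul_pos h7 h6]
        rw [← det_gZ, ← det_gZ] at h8
        exact_mod_cast h8
      rw [Finset.card_erase_of_mem ht] at h3
      have h5 : 1 ≤ T.card := by omega
      push_cast [Nat.cast_sub h5] at h3
      omega

/-- An integral matrix without zero rows and with nonsingular Gram matrix. -/
theorem det_ge [Fintype κ] (A : Matrix κ ι ℤ) (hA : ∀ t, A t ≠ 0) (h : (Aᵀ * A).det ≠ 0) :
    (Fintype.card κ : ℤ) + 1 ≤ (Aᵀ * A).det + Fintype.card ι := by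
  have h1 : gZ A Finset.univ = Aᵀ * A := by
    ext i j
    unfold gZ
    rw [Matrix.sum_apply, Matrix.mul_apply]
    rfl
  rw [← h1] at h ⊢
  have h2 := card_le_det A hA _ Finset.univ rfl h
  rwa [Finset.card_univ] at h2

end Cfsg.Agent.H639.DetGe
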