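import Mathlib
import Cfsg.Agent.H616.FormBd
import Cfsg.Agent.H639.DetGe

/-!
# A positive form from a Gram determinant

`formBd_of_det`: let `α` be an integral matrix with rows indexed by the block `b`, without zero
rows, whose columns are relations between the restrictions to the `p`-regular elements, with
`k(b) - l(b)` columns and Gram determinant `n ≠ 0`.  Then there is a form with trace `n`.
-/

set_option autoImplicit false
set_option linter.unusedSectionVars false

open Cfsg Matrix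
open scoped ComplexConjugate

namespace Cfsg.Agent.H639.FormDet

open Cfsg.Agent.H616.Form
open Cfsg.Agent.H613.RegGram

universe u

section real

variable {κ ι μ : Type*} [Fintype κ] [Fintype ι] [Fintype μ] [DecidableEq κ] [DecidableEq ι]
  [DecidableEq μ]

/-- The real matrix of an integral matrix. -/
noncomputable abbrev toR {m n : Type*} (A : Matrix m n ℤ) : Matrix m n ℝ :=
  A.map (Int.cast : ℤ → ℝ)

theorem toR_det (A : Matrix ι ι ℤ) : (toR A).det = (A.det : ℝ) := by
  have h1 := RingHom.map_det (Int.castRingHom ℝ) A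
  rw [eq_intCast] at h1
  rw [h1]
  rfl

theorem toR_mul {m n o : Type*} [Fintype n] (A : Matrix m n ℤ) (B : Matrix n o ℤ) :
    toR (A * B) = toR A * toR B := by
  ext i j
  simp [Matrix.mul_apply]

/-- The orthogonal projection on the column space. -/
noncomputable def prj (D : Matrix κ μ ℝ) : Matrix κ κ ℝ := D * (Dᵀ * D)⁻¹ * Dᵀ

theorem prj_def (D : Matrix κ μ ℝ) : prj D = D * (Dᵀ * D)⁻¹ * Dᵀ := rfl

theorem prj_transpose (D : Matrix κ μ ℝ) : (prj D)ᵀ = prj D := by
  rw [prj_def, Matrix.transpose_mul, Matrix.transpose_mul, Matrix.transpose_transpose,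
    Matrix.transpose_nonsing_inv, Matrix.transpose_mul, Matrix.transpose_transpose,
    Matrix.mul_assoc]

theorem prj_mul_prj (D : Matrix κ μ ℝ) (hD : (Dᵀ * D).det ≠ 0) : prj D * prj D = prj D := by
  rw [prj_def]
  calc D * (Dᵀ * D)⁻¹ * Dᵀ * (D * (Dᵀ * D)⁻¹ * Dᵀ)
      = D * (Dᵀ * D)⁻¹ * ((Dᵀ * D) * (Dᵀ * D)⁻¹) * Dᵀ := by
        simp only [Matrix.mul_assoc]
    _ = D * (Dᵀ * D)⁻¹ * Dᵀ := by
        rw [Matrix.mul_nonsing_inv _ (Ne.isUnit hD), Matrix.mul_one]

theorem trace_prj (D : Matrix κ μ ℝ) (hD : (Dᵀ * D).det ≠ 0) :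
    (prj D).trace = Fintype.card μ := by
  rw [prj_def, Matrix.mul_assoc, Matrix.trace_mul_comm, Matrix.mul_assoc,
    Matrix.nonsing_inv_mul _ (Ne.isUnit hD), Matrix.trace_one]

/-- `1 = D (Dᵀ D)⁻¹ Dᵀ + α (αᵀ α)⁻¹ αᵀ`. -/
theorem prj_add_prj (D : Matrix κ μ ℝ) (α : Matrix κ ι ℝ)
    (hD : (Dᵀ * D).det ≠ 0) (hα : (αᵀ * α).det ≠ 0) (hDα : Dᵀ * α = 0)
    (hcard : Fintype.card κ = Fintype.card μ + Fintype.card ι) :
    prj D + prj α = 1 := by
  have hαD : αᵀ * D = 0 := by
    have h := congrArg Matrix.transpose hDα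
    rwa [Matrix.transpose_mul, Matrix.transpose_transpose, Matrix.transpose_zero] at h
  have h1 : Matrix.fromRows ((Dᵀ * D)⁻¹ * Dᵀ) ((αᵀ * α)⁻¹ * αᵀ) * Matrix.fromCols D α = 1 := by
    rw [Matrix.fromRows_mul_fromCols, Matrix.mul_assoc, Matrix.mul_assoc, Matrix.mul_assoc,
      Matrix.mul_assoc, hDα, hαD, Matrix.mul_zero, Matrix.mul_zero,
      Matrix.nonsing_inv_mul _ (Ne.isUnit hD), Matrix.nonsing_inv_mul _ (Ne.isUnit hα),
      Matrix.fromBlocks_one]
  have h2 := (Matrix.mul_eq_one_comm_of_card_eq (μ ⊕ ι) κ ℝ (by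
    rw [Fintype.card_sum, hcard])).1 h1
  rw [Matrix.fromCols_mul_fromRows] at h2
  rw [prj_def, prj_def, Matrix.mul_assoc, Matrix.mul_assoc α]
  exact h2

/-- The key inequality. -/
theorem card_le_det_mul (D : Matrix κ μ ℤ) (α : Matrix κ ι ℤ) (hrow : ∀ k, α k ≠ 0)
    (hD : (Dᵀ * D).det ≠ 0) (hα : (αᵀ * α).det ≠ 0) (hDα : Dᵀ * α = 0)
    (hcard : Fintype.card κ = Fintype.card μ + Fintype.card ι) {c : κ → ℤ}
    (hc : Dᵀ *ᵥ c ≠ 0) :
    (Fintype.card μ : ℝ) ≤
      ((αᵀ * α).det : ℝ) * ((fun k => (c k : ℝ)) ⬝ᵥ (prj (toR D) *ᵥ fun k => (c k : ℝ))) := by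
  classical
  set A : Matrix κ (ι ⊕ Unit) ℤ := Matrix.fromCols α (Matrix.replicateCol Unit c) with hA
  set x : κ → ℝ := fun k => (c k : ℝ) with hx
  have hDR : ((toR D)ᵀ * toR D).det ≠ 0 := by
    have h : (toR D)ᵀ * toR D = toR (Dᵀ * D) := by rw [toR_mul]; rfl
    rw [h, toR_det]
    exact_mod_cast hD
  have hαR' : (toR α)ᵀ * toR α = toR (αᵀ * α) := by rw [toR_mul]; rfl
  have hαR : ((toR α)ᵀ * toR α).det ≠ 0 := by
    rw [hαR', toR_det]
    exact_mod_cast hα
  have hDαR : (toR D)ᵀ * toR α = 0 := by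
    have h : (toR D)ᵀ * toR α = toR (Dᵀ * α) := by rw [toR_mul]; rfl
    rw [h, hDα]
    ext i j
    simp
  have hone := prj_add_prj (toR D) (toR α) hDR hαR hDαR hcard
  -- the determinant
  have hdet : ((Aᵀ * A).det : ℝ) = ((αᵀ * α).det : ℝ) * (x ⬝ᵥ (prj (toR D) *ᵥ x)) := by
    have h1 : toR (Aᵀ * A) = Matrix.fromBlocks ((toR α)ᵀ * toR α)
        ((toR α)ᵀ * Matrix.replicateCol Unit x) (Matrix.replicateRow Unit x * toR α)
        (Matrix.replicateRow Unit x * Matrix.replicateCol Unit x) := by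
      ext i j
      rcases i with i | i <;> rcases j with j | j <;>
        simp [hA, hx, Matrix.mul_apply]
    rw [← toR_det, h1]
    have : Invertible ((toR α)ᵀ * toR α) := Matrix.invertibleOfIsUnitDet _ (Ne.isUnit hαR)
    rw [Matrix.det_fromBlocks₁₁, Matrix.invOf_eq_nonsing_inv, hαR', toR_det]
    congr 1
    rw [Matrix.det_unique, Matrix.sub_apply]
    have h2 : prj (toR D) = 1 - prj (toR α) := by rw [← hone]; simp
    have h3 : Matrix.replicateRow Unit x * toR α * (toR (αᵀ * α))⁻¹ *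
        ((toR α)ᵀ * Matrix.replicateCol Unit x) = Matrix.replicateRow Unit x *
        (prj (toR α) * Matrix.replicateCol Unit x) := by
      rw [prj_def, hαR']
      simp only [Matrix.mul_assoc]
    have h4 : (Matrix.replicateRow Unit x * Matrix.replicateCol Unit x) default default =
        x ⬝ᵥ x := rfl
    have h5 : (Matrix.replicateRow Unit x * (prj (toR α) * Matrix.replicateCol Unit x))
        default default = x ⬝ᵥ (prj (toR α) *ᵥ x) := rfl
    rw [h2, Matrix.sub_mulVec, Matrix.one_mulVec, dotProduct_sub, h3, h4, h5]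
  -- it does not vanish
  have hpos : 0 < x ⬝ᵥ (prj (toR D) *ᵥ x) := by
    have h1 : ((toR D)ᵀ * toR D).PosDef := by
      have h2 := Matrix.posSemidef_conjTranspose_mul_self (toR D)
      rw [Matrix.conjTranspose_eq_transpose_of_trivial] at h2
      exact h2.posDef_iff_det_ne_zero.2 hDR
    have h2 := h1.inv
    have hne : (toR D)ᵀ *ᵥ x ≠ 0 := by
      intro h0
      apply hc
      funext j
      have h3 := congrFun h0 j
      simp only [Matrix.mulVec, dotProduct, Matrix.transpose_apply, hx, Matrix.map_apply,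
        Pi.zero_apply] at h3
      simp only [Matrix.mulVec, dotProduct, Matrix.transpose_apply, Pi.zero_apply]
      exact_mod_cast h3
    have h3 := (posDef_iff_dotProduct_mulVec.1 h2).2 hne
    have h4 : x ⬝ᵥ (prj (toR D) *ᵥ x) =
        ((toR D)ᵀ *ᵥ x) ⬝ᵥ (((toR D)ᵀ * toR D)⁻¹ *ᵥ ((toR D)ᵀ *ᵥ x)) := by
      rw [prj_def, Matrix.mul_assoc, ← Matrix.mulVec_mulVec, ← Matrix.mulVec_mulVec,
        Matrix.dotProduct_mulVec, ← Matrix.mulVec_transpose]
    rw [h4]
    simpa using h3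
  have hdet0 : (Aᵀ * A).det ≠ 0 := by
    intro h0
    rw [h0, Int.cast_zero] at hdet
    exact (mul_pos_iff_of_pos_right hpos |>.2 (by
      have : (0 : ℝ) < ((toR α)ᵀ * toR α).det := by
        have h2 := Matrix.posSemidef_conjTranspose_mul_self (toR α)
        rw [Matrix.conjTranspose_eq_transpose_of_trivial] at h2
        exact (h2.posDef_iff_det_ne_zero.2 hαR).det_pos
      rwa [hαR', toR_det] at this)).ne hdet
  have h5 := DetGe.det_ge A (fun k h0 => hrow k (by
    funext i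
    have := congrFun h0 (Sum.inl i)
    simpa [hA] using this)) hdet0
  rw [← hdet]
  rw [Fintype.card_sum, Fintype.card_unit, hcard] at h5
  have h6 : (Fintype.card μ : ℤ) ≤ (Aᵀ * A).det := by
    push_cast at h5
    omega
  exact_mod_cast h6

end real

variable {H : Type u} [Group H] [Finite H] {p : ℕ} [Fact p.Prime] {M : Ideal AlgInt}
  {b : Set (IrrCharacter H)}

/-- **The form of a Gram determinant.** -/
theorem formBd_of_det [Fintype b] {ι : Type*} [Fintype ι] [DecidableEq ι] (hM : IsPModular p M)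
    (hb : IsPBlock M b) (α : Matrix b ι ℤ) (hrow : ∀ ψ, α ψ ≠ 0)
    (hrel : ∀ i, Rel p b (fun ψ => α ψ i))
    (hcard : Fintype.card b = blockRank p b + Fintype.card ι) {n : ℕ} (hn : n ≠ 0)
    (hdet : (αᵀ * α).det = n) : FormBd p b n := by
  classical
  have hrows := exists_rows hM hb
  generalize blockRank p b = l at hrows hcard
  obtain ⟨D₀, hD, E₀, hE⟩ := hrows
  set D : Matrix b (Fin l) ℤ := D₀ with hDdef
  have hα : (αᵀ * α).det ≠ 0 := by
    rw [hdet]
    exact_mod_cast hn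
  have hDα : Dᵀ * α = 0 := by
    ext j i
    have h1 := (hD _).1 (hrel i) j
    rw [Matrix.mul_apply, Matrix.zero_apply, ← h1]
    exact Finset.sum_congr rfl fun ψ _ => mul_comm _ _
  have hED : (Matrix.of E₀ : Matrix (Fin l) b ℤ) * D = 1 := by
    ext i j
    rw [Matrix.mul_apply, Matrix.one_apply]
    exact hE i j
  have hDR : ((toR D)ᵀ * toR D).det ≠ 0 := by
    have h2 := Matrix.posSemidef_conjTranspose_mul_self (toR D)
    rw [Matrix.conjTranspose_eq_transpose_of_trivial] at h2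
    have h3 : ((toR D)ᵀ * toR D).PosDef := by
      refine (Matrix.posDef_iff_dotProduct_mulVec).2 ⟨h2.1, fun {x} hx => ?_⟩
      have h4 : 0 ≤ star x ⬝ᵥ (((toR D)ᵀ * toR D) *ᵥ x) := h2.dotProduct_mulVec_nonneg x
      refine lt_of_le_of_ne h4 fun h5 => hx ?_
      have h6 : (toR D *ᵥ x) ⬝ᵥ (toR D *ᵥ x) = 0 := by
        rw [h5, ← Matrix.mulVec_mulVec, Matrix.dotProduct_mulVec, ← Matrix.mulVec_transpose,
          dotProduct_comm]
        simp
      rw [dotProduct_self_eq_zero] at h6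
      have h7 : toR (Matrix.of E₀ : Matrix (Fin l) b ℤ) * toR D = 1 := by
        rw [← toR_mul, hED]
        ext i j
        simp only [toR, Matrix.map_apply, Matrix.one_apply]
        split_ifs <;> simp
      rw [← Matrix.one_mulVec x, ← h7, ← Matrix.mulVec_mulVec, h6, Matrix.mulVec_zero]
    exact h3.det_pos.ne'
  have hDZ : (Dᵀ * D).det ≠ 0 := by
    intro h0
    apply hDR
    have h : (toR D)ᵀ * toR D = toR (Dᵀ * D) := by rw [toR_mul]; rfl
    rw [h, toR_det, h0, Int.cast_zero]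
  set P := prj (toR D) with hP
  have hPP : P * P = P := prj_mul_prj _ hDR
  have hPT : Pᵀ = P := prj_transpose _
  have hPtr : P.trace = l := by rw [hP, trace_prj _ hDR, Fintype.card_fin]
  set s : ℝ := Real.sqrt ((n : ℝ) / l) with hs
  have hs2 : s ^ 2 = (n : ℝ) / l := Real.sq_sqrt (by positivity)
  -- the norm
  have hnorm : ∀ x : b → ℝ, ∑ i, (∑ ψ, x ψ * (s * P i ψ)) ^ 2 = (n : ℝ) / l * (x ⬝ᵥ (P *ᵥ x)) := by
    intro x
    have h1 : ∀ i, ∑ ψ, x ψ * (s * P i ψ) = s * (P *ᵥ x) i := by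
      intro i
      rw [Matrix.mulVec, dotProduct, Finset.mul_sum]
      exact Finset.sum_congr rfl fun ψ _ => by ring
    simp only [h1, mul_pow, hs2]
    rw [← Finset.mul_sum]
    congr 1
    have h2 : ∑ i, (P *ᵥ x) i ^ 2 = (P *ᵥ x) ⬝ᵥ (P *ᵥ x) := by
      rw [dotProduct]
      exact Finset.sum_congr rfl fun i _ => by ring
    rw [h2, Matrix.dotProduct_mulVec, ← Matrix.mulVec_transpose, hPT, Matrix.mulVec_mulVec, hPP,
      dotProduct_comm]
  refine IsForm.formBd (T := fun ψ i => s * P i ψ) ⟨?_, ?_, ?_⟩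
  · intro c hc i
    have h1 : (toR D)ᵀ *ᵥ (fun ψ => (c ψ : ℝ)) = 0 := by
      funext j
      have h2 := (hD c).1 hc j
      simp only [Matrix.mulVec, dotProduct, Matrix.transpose_apply, Matrix.map_apply,
        Pi.zero_apply]
      have h3 : ((∑ ψ, c ψ * D ψ j : ℤ) : ℝ) = 0 := by rw [h2]; simp
      push_cast at h3
      rw [← h3]
      exact Finset.sum_congr rfl fun ψ _ => mul_comm _ _
    have h2 : P *ᵥ (fun ψ => (c ψ : ℝ)) = 0 := by
      rw [hP, prj_def, Matrix.mul_assoc, ← Matrix.mulVec_mulVec, ← Matrix.mulVec_mulVec, h1,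
        Matrix.mulVec_zero, Matrix.mulVec_zero]
    have h3 := congrFun h2 i
    rw [Matrix.mulVec, dotProduct] at h3
    have h4 : ∑ ψ, (c ψ : ℝ) * (s * P i ψ) = s * ∑ ψ, P i ψ * (c ψ : ℝ) := by
      rw [Finset.mul_sum]
      exact Finset.sum_congr rfl fun ψ _ => by ring
    rw [h4, h3, Pi.zero_apply, mul_zero]
  · intro c hc
    rw [hnorm]
    have hc' : Dᵀ *ᵥ c ≠ 0 := by
      intro h0
      apply hc
      rw [hD]
      intro j
      have h1 := congrFun h0 j
      simp only [Matrix.mulVec, dotProduct, Matrix.transpose_apply, Pi.zero_apply] at h1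
      rw [← h1]
      exact Finset.sum_congr rfl fun ψ _ => mul_comm _ _
    have h1 := card_le_det_mul D α hrow hDZ hα hDα (by rw [hcard, Fintype.card_fin]) hc'
    rw [Fintype.card_fin, hdet] at h1
    have hl0 : (0 : ℝ) < l := by
      rw [Nat.cast_pos]
      rcases Nat.eq_zero_or_pos l with h0 | h0
      · exfalso
        apply hc'
        funext j
        exact absurd j.2 (by omega)
      · exact h0
    rw [div_mul_eq_mul_div, le_div_iff₀ hl0, one_mul]
    push_cast at h1
    exact h1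
  · have h1 : ∀ ψ, ∑ i, (s * P i ψ) ^ 2 = (n : ℝ) / l * P ψ ψ := by
      intro ψ
      simp only [mul_pow, hs2]
      rw [← Finset.mul_sum]
      congr 1
      have h2 : P ψ ψ = (Pᵀ * P) ψ ψ := by rw [hPT, hPP]
      rw [h2, Matrix.mul_apply]
      exact Finset.sum_congr rfl fun i _ => by rw [Matrix.transpose_apply]; ring
    simp only [h1]
    rw [← Finset.mul_sum]
    have h2 : ∑ ψ, P ψ ψ = l := hPtr
    rw [h2]
    rcases Nat.eq_zero_or_pos l with h0 | h0
    · rw [h0]
      simp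
    · have hl0 : (l : ℝ) ≠ 0 := by exact_mod_cast h0.ne'
      rw [div_mul_cancel₀ _ hl0]

end Cfsg.Agent.H639.FormDet
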