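import Mathlib
import Cfsg.Agent.H639.FormDet
import Cfsg.Agent.H639.Conn
import Cfsg.Agent.H645.FusCount

/-!
# The form of a block with abelian defect group and free inertial action

`formBd_of_free`: if the inertial quotient acts freely on the abelian defect group `D ≠ 1`, then
there is a form with trace `|D|`.
-/

set_option autoImplicit false
set_option linter.unusedSectionVars false

open Cfsg Matrix
open scoped ComplexConjugate

namespace Cfsg.Agent.H639

open Cfsg.Agent.Blocks.Blau Cfsg.Agent.Blocks.Local Cfsg.Agent.Characters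
open Cfsg.Agent.H613.RegGram Cfsg.Agent.H613.Contrib
open Cfsg.Agent.H649 Cfsg.Agent.H651
open Cfsg.Agent.H616.Form Cfsg.Agent.H639.FormDet
open Cfsg.Agent.Blocks.Basic (isPBlock_blockOf mem_blockOf_self isPBlock_eq_blockOf
  isPBlock_eq_of_mem isPBlock_nonempty)

universe u

section full

variable {G : Type u} [Group G] [Fintype G] {p : ℕ} [Fact p.Prime]
  {M : Ideal AlgInt} [M.IsPrime] {B : Set (IrrCharacter G)} {a : BrauerPairIdx G}
  {c : ∀ R : Subgroup G, Set (IrrCharacter (Subgroup.centralizer (R : Set G)))}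
  {ζ : Subgroup G → G → ℂ}

namespace Full

/-- The columns are relations. -/
theorem sum_wB_mul_apply (hF : Full p M B a c ζ) [Fintype B] (ν : a.1 →* ℂˣ)
    {y : G} (hy : ¬ p ∣ orderOf y) :
    ∑ χ : B, wB p a.1 ζ (χ.1 : G → ℂ) ν * (χ.1 : G → ℂ) y = 0 := by
  classical
  have h1 : ∀ χ : B, wB p a.1 ζ (χ.1 : G → ℂ) ν * (χ.1 : G → ℂ) y =
      ∑ v : a.1, (Nat.card a.1 : ℂ)⁻¹ * ((ν v : ℂ) - 1) *
        ((χ.1 : G → ℂ) y * conj (AA p a.1 ζ ⊥ (v : G) (χ.1 : G → ℂ))) := by
    intro χ
    rw [wB, Finset.mul_sum, Finset.sum_mul]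
    refine Finset.sum_congr ?_ fun v _ => by ring
    ext x
    simp
  rw [Finset.sum_congr rfl fun χ _ => h1 χ, Finset.sum_comm]
  refine Finset.sum_eq_zero fun v _ => ?_
  rw [← Finset.mul_sum]
  by_cases hv : v = 1
  · rw [hv, map_one, Units.val_one, sub_self, mul_zero, zero_mul]
  · rw [hF.sum_apply_mul_conj_AA hv hy, mul_zero]

theorem formBd (hF : Full p M B a c ζ) : FormBd p B (Nat.card a.1) := by
  classical
  have hfinG := Core.finite_irr (G := G)
  have : Fintype B := Fintype.ofFinite _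
  have := hF.finite_Orb
  have : Fintype (Orb a) := Fintype.ofFinite _
  have hB : IsPBlock M B := hF.hs.isPBlock_B
  obtain ⟨α, hα, hgram, hne⟩ := hF.exists_matrix
  have hG : (Matrix.of α : Matrix B (Orb a) ℤ)ᵀ * (Matrix.of α : Matrix B (Orb a) ℤ) =
      (1 : Matrix (Orb a) (Orb a) ℤ) +
        (Matrix.replicateCol Unit (fun _ : Orb a => ((Nat.card (inQ a) : ℕ) : ℤ)) :
          Matrix (Orb a) Unit ℤ) *
        (Matrix.replicateRow Unit (fun _ : Orb a => (1 : ℤ)) : Matrix Unit (Orb a) ℤ) := by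
    ext i j
    have h1 := hgram i j
    simp only [Matrix.mul_apply, Matrix.transpose_apply, Matrix.of_apply, Matrix.add_apply,
      Matrix.one_apply, Matrix.replicateCol_apply, Matrix.replicateRow_apply, Finset.univ_unique,
      Finset.sum_const, Finset.card_singleton, one_smul, mul_one]
    rw [h1, add_comm]
  refine formBd_of_det hF.hs.hM hB (Matrix.of α) ?_ ?_ ?_ Nat.card_pos.ne' ?_
  · intro χ h0
    obtain ⟨i, hi⟩ := hne χ
    exact hi (congrFun h0 i)
  · intro i g hg
    obtain ⟨ν, rfl⟩ := Quotient.exists_rep i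
    rw [← hF.sum_wB_mul_apply ν.1 hg]
    refine Finset.sum_congr rfl fun χ _ => ?_
    rw [hα]
    rfl
  · rw [← Nat.card_eq_fintype_card, hF.card_eq_add, ← Nat.card_eq_fintype_card]
  · rw [hG, Matrix.det_one_add_replicateCol_mul_replicateRow]
    have h2 := hF.card_Orb
    rw [dotProduct]
    simp only [one_mul, Finset.sum_const, Finset.card_univ, nsmul_eq_mul]
    rw [← h2]
    push_cast
    rw [Nat.card_eq_fintype_card (α := Orb a)]
    ring

end Full

end full

variable {G : Type u} [Group G] [Finite G] {p : ℕ} [Fact p.Prime] {M : Ideal AlgInt}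
  {B : Set (IrrCharacter G)} {a : BrauerPairIdx G}

/-- **The form of a block with abelian defect group and free inertial action.** -/
theorem formBd_of_free (hM : IsPModular p M) (hmax : IsMaximalBrauerPair p M B a.1 a.2)
    (hab : ∀ x ∈ a.1, ∀ y ∈ a.1, x * y = y * x) (hfree : Free a) (hne : a.1 ≠ ⊥) :
    FormBd p B (Nat.card a.1) := by
  have := Fintype.ofFinite G
  have := isPrime_of hM
  obtain ⟨c, ζ, hF⟩ := Full.exists hM hmax hab hfree hne
  exact hF.formBd

/-- The rank is at most the inertial index. -/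
theorem blockRank_le_of_free (hM : IsPModular p M) (hmax : IsMaximalBrauerPair p M B a.1 a.2)
    (hab : ∀ x ∈ a.1, ∀ y ∈ a.1, x * y = y * x) (hfree : Free a) (hne : a.1 ≠ ⊥) :
    blockRank p B ≤ (Subgroup.centralizer (a.1 : Set G)).relIndex (H645.FusCount.stab a) := by
  have := Fintype.ofFinite G
  have := isPrime_of hM
  obtain ⟨c, ζ, hF⟩ := Full.exists hM hmax hab hfree hne
  have h1 : stabT a = H645.FusCount.stab a := by
    ext x
    exact Iff.rfl
  rw [← h1, ← card_inQ hF.hs]
  exact hF.blockRank_le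

end Cfsg.Agent.H639
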