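import Mathlib
import Cfsg.Agent.H639.FormFree
import Cfsg.Agent.H641.Inertial
import Cfsg.Agent.H641.CycAct
import Cfsg.Agent.H617.AbelRank
import Cfsg.Agent.S4733
import Cfsg.Agent.S0908

/-!
# Forms of blocks with cyclic defect groups, and of small free actions

* `formBd_of_defect_zero`;
* `formBd_of_isCyclic`: the form of a block with cyclic defect group;
* `free_of_five`, `formBd_of_five`: order `16`, inertial index `5`.
-/

set_option autoImplicit false
set_option linter.unusedSectionVars false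

open Cfsg Matrix
open scoped ComplexConjugate

namespace Cfsg.Agent.H639

open Cfsg.Agent.Blocks.Blau Cfsg.Agent.Blocks.Local Cfsg.Agent.Characters
open Cfsg.Agent.H613.RegGram Cfsg.Agent.H613.Contrib
open Cfsg.Agent.H649 Cfsg.Agent.H651
open Cfsg.Agent.H616.Form Cfsg.Agent.H639.FormDet
open Cfsg.Agent.H645.FusCount Cfsg.Agent.H645.TraceForm
open Cfsg.Agent.Blocks.Basic (isPBlock_blockOf mem_blockOf_self isPBlock_eq_blockOf
  isPBlock_eq_of_mem isPBlock_nonempty)

universe u

variable {G : Type u} [Group G] [Finite G] {p : ℕ} [Fact p.Prime] {M : Ideal AlgInt}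
  {B : Set (IrrCharacter G)} {a : BrauerPairIdx G}

/-- Defect zero. -/
theorem formBd_of_defect_zero (hM : IsPModular p M) (hB : IsPBlock M B)
    (h0 : blockDefect p B = 0) : FormBd p B 1 := by
  classical
  have hfinG := Core.finite_irr (G := G)
  have : Fintype B := Fintype.ofFinite _
  have h1 := ((S4733.result p M hM B hB).2.1.1 h0).1
  obtain ⟨hsub, ⟨ψ⟩⟩ := Nat.card_eq_one_iff_unique.1 h1
  have huniv : (Finset.univ : Finset B) = {ψ} := by
    ext x
    simp [Subsingleton.elim x ψ]
  have hψ : ((ψ : IrrCharacter G) : G → ℂ) 1 ≠ 0 := Core.isIrr_apply_one_ne_zero ψ.1.2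
  refine IsForm.formBd (κ := Unit) (T := fun _ _ => (1 : ℝ)) ⟨?_, ?_, ?_⟩
  · intro c hc i
    have h2 := hc 1 (by rw [orderOf_one]; exact (Fact.out : p.Prime).one_lt.not_ge ∘ Nat.le_of_dvd one_pos)
    rw [huniv, Finset.sum_singleton] at h2 ⊢
    have h3 := (mul_eq_zero.1 h2).resolve_right hψ
    have h4 : c ψ = 0 := by exact_mod_cast h3
    rw [h4]; simp
  · intro c hc
    have h3 : c ψ ≠ 0 := by
      intro h4
      apply hc
      intro g _
      rw [huniv, Finset.sum_singleton, h4, Int.cast_zero, zero_mul]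
    rw [huniv]
    simp only [Finset.univ_unique, Finset.sum_singleton, mul_one]
    have h4 : 1 ≤ (c ψ) ^ 2 := by
      have := sq_pos_of_ne_zero h3
      omega
    exact_mod_cast h4
  · rw [huniv]
    simp

/-- The inertial action on a cyclic defect group is free. -/
theorem free_of_isCyclic (hM : IsPModular p M) (hmax : IsMaximalBrauerPair p M B a.1 a.2)
    (hcyc : IsCyclic a.1) : Free a := by
  have := Fintype.ofFinite G
  have := isPrime_of hM
  have hab : ∀ x ∈ a.1, ∀ y ∈ a.1, x * y = y * x := by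
    intro x hx y hy
    have h := (IsCyclic.isMulCommutative (α := a.1)).is_comm
    exact congrArg Subtype.val (h.comm (⟨x, hx⟩ : a.1) ⟨y, hy⟩)
  have h1 := not_dvd_relIndex_stab hM hmax hab
  intro t ht x hx hx1 htx
  exact Cfsg.Agent.H641.mem_centralizer_of_relIndex (Fact.out : p.Prime) hmax.1.1.1 hcyc
    (T := stab a) (stab_le_normalizer hM hmax hab) (H617.AbelRank.centralizer_le_stab hM hmax hab)
    h1 ht hx hx1 htx

/-- **The form of a block with cyclic defect group.** -/
theorem formBd_of_isCyclic (hM : IsPModular p M) (hB : IsPBlock M B) {D : Subgroup G}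
    (hD : IsDefectGroup p M B D) (hc : IsCyclic D) : FormBd p B (Nat.card D) := by
  have := isPrime_of hM
  by_cases h0 : D = ⊥
  · have h1 := S0908.result p M hM B hB D hD
    rw [h0, Subgroup.card_bot] at h1 ⊢
    refine formBd_of_defect_zero hM hB ?_
    by_contra h2
    have h3 := Nat.one_lt_pow h2 (Fact.out : p.Prime).one_lt
    omega
  · obtain ⟨e, he⟩ := Cfsg.Agent.H644.exists_pair_of_le_isDefectGroup hM hB hD le_rfl
    have hmax := Cfsg.Agent.H644.isMaximalBrauerPair_of_isDefectGroup hM he hD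
    have hab : ∀ x ∈ D, ∀ y ∈ D, x * y = y * x := by
      intro x hx y hy
      have h := (IsCyclic.isMulCommutative (α := D)).is_comm
      exact congrArg Subtype.val (h.comm (⟨x, hx⟩ : D) ⟨y, hy⟩)
    exact formBd_of_free (a := ⟨D, e⟩) hM hmax hab (free_of_isCyclic hM hmax hc) h0

theorem five_aux {n : ℕ} (h : 16 ≡ n [MOD 5]) (hd : n ∣ 16) (h1 : n ≠ 1) : n = 16 := by
  have h2 : n ≤ 16 := Nat.le_of_dvd (by norm_num) hd
  have h3 : 0 < n := Nat.pos_of_dvd_of_pos hd (by norm_num)
  unfold Nat.ModEq at h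
  interval_cases n <;> omega

/-- Inertial index `5`, order `16`. -/
theorem free_of_five [Fact (Nat.Prime 2)] {M : Ideal AlgInt} (hM : IsPModular 2 M)
    (hmax : IsMaximalBrauerPair 2 M B a.1 a.2)
    (hab : ∀ x ∈ a.1, ∀ y ∈ a.1, x * y = y * x) (hcard : Nat.card a.1 = 16)
    (hidx : (Subgroup.centralizer (a.1 : Set G)).relIndex (stab a) = 5) : Free a := by
  have := Fintype.ofFinite G
  have := isPrime_of hM
  have hp5 : Fact (Nat.Prime 5) := ⟨by norm_num⟩
  obtain ⟨c, hs⟩ := Sys.exists hM hmax hab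
  have h5 : Nat.card (inQ a) = 5 := by rw [card_inQ hs, ← hidx]; rfl
  have hC := H617.AbelRank.centralizer_le_stab hM hmax hab
  intro t ht x hx hx1 htx
  by_contra htC
  -- `x` is fixed by the whole stabilizer
  have hfix : ∀ s ∈ stab a, s * x * s⁻¹ = x := by
    by_contra hcon
    have h1 := H617.AbelRank.inf_eq_of_prime hM hmax hab (by norm_num : Nat.Prime 5) hidx hx hcon
    apply htC
    rw [h1]
    refine Subgroup.mem_inf.2 ⟨ht, Subgroup.mem_centralizer_singleton_iff.2 ?_⟩
    calc t * x = t * x * t⁻¹ * t := by group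
      _ = x * t := by rw [htx]
  -- counting fixed points
  have hPG : IsPGroup 5 (inQ a) := IsPGroup.of_card (n := 1) (by rw [h5, pow_one])
  have hmod := hPG.card_modEq_card_fixedPoints a.1
  set F : Subgroup a.1 := FixedPoints.subgroup (inQ a) a.1 with hF
  have hFcard : Nat.card F = Nat.card (MulAction.fixedPoints (inQ a) a.1) := rfl
  rw [← hFcard, hcard] at hmod
  have hdvd : Nat.card F ∣ 16 := hcard ▸ Subgroup.card_subgroup_dvd_card F
  have hxF : (⟨x, hx⟩ : a.1) ∈ F := by
    rintro ⟨τ, s, rfl⟩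
    exact Subtype.ext (hfix s s.2)
  have hF1 : Nat.card F ≠ 1 := by
    intro h
    have h2 := (Subgroup.card_eq_one (H := F)).1 h
    rw [h2, Subgroup.mem_bot] at hxF
    exact hx1 (congrArg Subtype.val hxF)
  have hF16 : Nat.card F = 16 := five_aux hmod hdvd hF1
  have hFtop : F = ⊤ := Subgroup.eq_top_of_card_eq F (by rw [hF16, hcard])
  apply htC
  have h6 : (⟨t, ht⟩ : stabT a) ∈ (autHom a).ker := by
    rw [MonoidHom.mem_ker]
    ext v
    have h7 : v ∈ F := by rw [hFtop]; exact Subgroup.mem_top v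
    have h8 : (⟨autHom a ⟨t, ht⟩, ⟨⟨t, ht⟩, rfl⟩⟩ : inQ a) • v = v := h7 _
    exact congrArg Subtype.val h8
  exact (mem_ker_autHom _).1 h6

/-- Package D1. -/
theorem formBd_of_five [Fact (Nat.Prime 2)] {M : Ideal AlgInt} (hM : IsPModular 2 M)
    (hmax : IsMaximalBrauerPair 2 M B a.1 a.2)
    (hab : ∀ x ∈ a.1, ∀ y ∈ a.1, x * y = y * x) (hcard : Nat.card a.1 = 16)
    (hidx : (Subgroup.centralizer (a.1 : Set G)).relIndex (stab a) = 5) : FormBd 2 B 16 := by
  rw [← hcard]
  refine formBd_of_free hM hmax hab (free_of_five hM hmax hab hcard hidx) ?_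
  intro h
  rw [h, Subgroup.card_bot] at hcard
  omega

/-- Inertial index `1`. -/
theorem free_of_one (hidx : (Subgroup.centralizer (a.1 : Set G)).relIndex (stab a) = 1) :
    Free a := by
  intro t ht x _ _ _
  exact Subgroup.relIndex_eq_one.1 hidx ht

end Cfsg.Agent.H639
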