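import Mathlib
import Cfsg.Agent.H639.Small
import Cfsg.Agent.H639.Conn
import Cfsg.Agent.H653.CycLower

/-!
# Inertial index at most `3`
-/

set_option autoImplicit false
set_option linter.unusedSectionVars false

open Cfsg
open scoped ComplexConjugate

namespace Cfsg.Agent.H639

open Cfsg.Agent.Blocks.Local Cfsg.Agent.Characters
open Cfsg.Agent.H649 Cfsg.Agent.H651

universe u

variable {G : Type u} [Group G] [Fintype G] {p : ℕ} [Fact p.Prime]
  {M : Ideal AlgInt} [M.IsPrime] {B : Set (IrrCharacter G)} {a : BrauerPairIdx G}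
  {c : ∀ R : Subgroup G, Set (IrrCharacter (Subgroup.centralizer (R : Set G)))}
  {ζ : Subgroup G → G → ℂ}

theorem stabT_eq_idxStab (a : BrauerPairIdx G) : stabT a = H651.idxStab a := by
  ext x
  exact Iff.rfl

namespace Full

/-- `l(B) = e` for cyclic defect groups. -/
theorem blockRank_eq_of_isCyclic (hF : Full p M B a c ζ) (hcyc : IsCyclic a.1) :
    blockRank p B = Nat.card (inQ a) := by
  refine le_antisymm hF.blockRank_le ?_
  have hnt : Nontrivial a.1 := (Subgroup.nontrivial_iff_ne_bot a.1).2 hF.hne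
  obtain ⟨n, hn0, hn⟩ := (IsPGroup.nontrivial_iff_card hF.hs.isPGroup).1 hnt
  obtain ⟨z, hz⟩ := exists_prime_orderOf_dvd_card' p (G := a.1) (hn ▸ dvd_pow_self p hn0.ne')
  have h : Cfsg.Agent.H653.CycPairs.Hyp p M B a (z : G) :=
    ⟨hF.hs.hM, hF.hs.hmax, hcyc, z.2, by rw [Subgroup.orderOf_coe]; exact hz⟩
  have h1 := Cfsg.Agent.H653.CycLower.relIndex_le h
  rwa [← stabT_eq_idxStab, ← card_inQ hF.hs] at h1

/-- `k(B) = e + m` for cyclic defect groups. -/
theorem card_eq_of_isCyclic (hF : Full p M B a c ζ) (hcyc : IsCyclic a.1) :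
    Nat.card B = Nat.card (inQ a) + Nat.card (Orb a) :=
  hF.card_eq_iff.2 (hF.blockRank_eq_of_isCyclic hcyc)

/-- `k(B) = e + m` for `e ≤ 3`. -/
theorem card_eq_of_le_three (hF : Full p M B a c ζ) (he : Nat.card (inQ a) ≤ 3) :
    Nat.card B = Nat.card (inQ a) + Nat.card (Orb a) := by
  rcases hF.card_eq_or he with h | ⟨-, h⟩ | ⟨-, h⟩
  · exact h
  · have : Fact (Nat.Prime 7) := ⟨by norm_num⟩
    exact hF.card_eq_of_isCyclic (isCyclic_of_prime_card h)
  · have : Fact (Nat.Prime 13) := ⟨by norm_num⟩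
    exact hF.card_eq_of_isCyclic (isCyclic_of_prime_card h)

end Full

end Cfsg.Agent.H639
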