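import Mathlib
import Cfsg.Agent.H639.Sec
import Cfsg.Agent.S0875

/-!
# Values of column sums; divisibility by the order of the centralizer
-/

set_option autoImplicit false
set_option linter.unusedSectionVars false

open Cfsg
open scoped ComplexConjugate

namespace Cfsg.Agent.H639

open Cfsg.Agent.Blocks.Blau Cfsg.Agent.Blocks.Local Cfsg.Agent.Characters
open Cfsg.Agent.H613.RegGram Cfsg.Agent.H613.Contrib
open Cfsg.Agent.Blocks.Basic (isPBlock_blockOf mem_blockOf_self isPBlock_eq_blockOf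
  isPBlock_eq_of_mem)

theorem memLocalRing_conj_algInt {M : Ideal AlgInt} [M.IsPrime] {z : ℂ} (hz : z ∈ AlgInt) :
    MemLocalRing M (conj z) := by
  apply memLocalRing_of_isIntegral
  have h : IsIntegral ℤ z := hz
  exact h.map (Complex.conjAe.toAlgHom.restrictScalars ℤ)

/-- A combination of irreducible characters with local integers as coefficients which vanishes on
the elements of order divisible by `p` is divisible by the orders of the centralizers. -/
theorem div_card_mem_of_vanish {H : Type*} [Group H] [Fintype H] [Fintype (IrrCharacter H)]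
    {p : ℕ} [hp : Fact p.Prime] {M : Ideal AlgInt} [M.IsPrime] (hM : IsPModular p M)
    (α : IrrCharacter H → ℂ) (hα : ∀ χ, MemLocalRing M (α χ)) {f : H → ℂ}
    (hf : f = ∑ χ : IrrCharacter H, α χ • (χ : H → ℂ)) (hvan : ∀ x, p ∣ orderOf x → f x = 0)
    (g : H) : MemLocalRing M (f g / (Nat.card (Subgroup.centralizer ({g} : Set H)) : ℂ)) := by
  classical
  by_cases hg : p ∣ orderOf g
  · rw [hvan g hg, zero_div]
    exact memLocalRing_zero
  have hcard0 : Nat.card H ≠ 0 := Nat.card_pos.ne'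
  obtain ⟨m, n, hmn, hcop, hpn, hm⟩ : ∃ m n : ℕ, Nat.card H = m * n ∧ Nat.Coprime m n ∧ ¬ p ∣ n ∧
      ∃ k : ℕ, m = p ^ k := by
    refine ⟨p ^ (Nat.card H).factorization p, Nat.card H / p ^ (Nat.card H).factorization p,
      (Nat.ordProj_mul_ordCompl_eq_self _ p).symm, ?_, Nat.not_dvd_ordCompl hp.out hcard0,
      _, rfl⟩
    exact Nat.Coprime.pow_left _ (Nat.coprime_ordCompl hp.out hcard0)
  obtain ⟨k, hk⟩ := hm
  have hregm : ∀ x : H, ¬ p ∣ orderOf x → Nat.Coprime (orderOf x) m := by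
    intro x hx
    rw [hk]
    exact Nat.Coprime.pow_right k ((hp.out.coprime_iff_not_dvd.2 hx).symm)
  have hregn : ∀ x : H, Nat.Coprime (orderOf x) m → x ^ n = 1 := by
    intro x hx
    apply orderOf_dvd_iff_pow_eq_one.1
    have h1 : orderOf x ∣ m * n := by
      rw [← hmn]
      exact orderOf_dvd_natCard x
    exact hx.dvd_of_dvd_mul_left h1
  set θ : H → ℂ := fun x => if ∃ v : H, IsConj v g ∧ (∃ u : H, x = u * v ∧ Commute u v ∧
    Nat.Coprime (orderOf u) n ∧ Nat.Coprime (orderOf v) m) then (n : ℂ) else 0 with hθdef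
  obtain ⟨cf, hc, hθ⟩ := S0875.result m n hmn hcop g (hregm g hg) θ (fun x hx => if_pos hx)
    (fun x hx => if_neg hx)
  have hval : ∀ x, ¬ p ∣ orderOf x → θ x = if IsConj g x then (n : ℂ) else 0 := by
    intro x hx
    by_cases h : IsConj g x
    · rw [if_pos h]
      refine if_pos ⟨x, h.symm, 1, (one_mul x).symm, Commute.one_left x, ?_, hregm x hx⟩
      rw [orderOf_one]
      exact Nat.coprime_one_left n
    · rw [if_neg h]
      refine if_neg ?_
      rintro ⟨v, hv, u, hxu, hcomm, hu, hv'⟩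
      apply h
      have h1 : u ^ n = 1 := by
        have h2 : x ^ n = 1 := hregn x (hregm x hx)
        rw [hxu, hcomm.mul_pow, hregn v hv', mul_one] at h2
        exact h2
      have h2 : orderOf u = 1 := by
        have h3 : orderOf u ∣ n := orderOf_dvd_iff_pow_eq_one.2 h1
        exact Nat.eq_one_of_dvd_coprimes hu dvd_rfl h3
      have h3 : u = 1 := orderOf_eq_one_iff.1 h2
      rw [h3, one_mul] at hxu
      rw [hxu]
      exact hv.symm
  rw [finsum_eq_sum_of_fintype] at hθ
  have h1 : classInner f θ = ∑ χ : IrrCharacter H, α χ * conj (cf χ) := by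
    rw [hf, hθ, Core.classInner_sum_smul_sum_smul]
  have h2 : classInner f θ = (n : ℂ) *
      (f g / (Nat.card (Subgroup.centralizer ({g} : Set H)) : ℂ)) := by
    rw [Core.classInner_def]
    have hcls : ∀ x, IsConj g x → f x = f g := by
      intro x hx
      obtain ⟨c, hc⟩ := isConj_iff.1 hx
      rw [hf]
      simp only [Finset.sum_apply, Pi.smul_apply]
      refine Finset.sum_congr rfl fun χ _ => ?_
      rw [← hc, Cfsg.Agent.Blocks.Basic.irr_conj χ.2 g c]
    have h3 : ∀ x, f x * conj (θ x) = if IsConj g x then (n : ℂ) * f g else 0 := by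
      intro x
      by_cases hx : p ∣ orderOf x
      · rw [hvan x hx, zero_mul]
        by_cases h : IsConj g x
        · rw [if_pos h, ← hcls x h, hvan x hx, mul_zero]
        · rw [if_neg h]
      · rw [hval x hx]
        by_cases h : IsConj g x
        · rw [if_pos h, if_pos h, hcls x h, Complex.conj_natCast, mul_comm]
        · rw [if_neg h, if_neg h, map_zero, mul_zero]
    rw [Finset.sum_congr rfl fun x _ => h3 x, ← Finset.sum_filter, Finset.sum_const,
      nsmul_eq_mul]
    have h4 : (Finset.univ.filter fun x => IsConj g x).card =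
        (Subgroup.centralizer ({g} : Set H)).index := by
      rw [Cfsg.Agent.Blocks.Basic.index_centralizer_eq_ncard,
        Set.ncard_eq_toFinset_card _ (Set.toFinite _)]
      congr 1
      ext x
      simp
    have h5 : (Nat.card (Subgroup.centralizer ({g} : Set H)) : ℂ) *
        ((Subgroup.centralizer ({g} : Set H)).index : ℂ) = Nat.card H := by
      exact_mod_cast (Subgroup.centralizer ({g} : Set H)).card_mul_index
    have h6 : (Nat.card (Subgroup.centralizer ({g} : Set H)) : ℂ) ≠ 0 :=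
      Nat.cast_ne_zero.2 Nat.card_pos.ne'
    have h7 : ((Subgroup.centralizer ({g} : Set H)).index : ℂ) ≠ 0 :=
      Nat.cast_ne_zero.2 (Subgroup.index_ne_zero_of_finite)
    rw [h4, ← h5]
    field_simp
  have h3 : f g / (Nat.card (Subgroup.centralizer ({g} : Set H)) : ℂ) =
      (n : ℂ)⁻¹ * ∑ χ : IrrCharacter H, α χ * conj (cf χ) := by
    rw [← h1, h2, ← mul_assoc, inv_mul_cancel₀, one_mul]
    rintro h
    have h4 : n = 0 := by exact_mod_cast h
    rw [h4] at hpn
    exact hpn (dvd_zero p)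
  rw [h3]
  refine memLocalRing_mul (memLocalRing_inv_natCast hM hpn) (memLocalRing_sum fun χ _ => ?_)
  exact memLocalRing_mul (hα χ) (memLocalRing_conj_algInt (hc χ))

variable {G : Type*} [Group G] [Finite G] {p : ℕ} [Fact p.Prime] {M : Ideal AlgInt}

/-- The column at `(u, η)` as a class function: value on the section of `u`. -/
theorem sum_apply_mul_conj_wt (hM : IsPModular p M) {u : G} (hu : ∃ k : ℕ, orderOf u = p ^ k)
    {H : Subgroup G} [Fintype H] (hH : H = Subgroup.centralizer ({u} : Set G))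
    {B : Set (IrrCharacter G)} [Fintype B] (hB : IsPBlock M B) {η : IrrCharacter H}
    (hη : IsInducedBlock M H (blockOf M (η : H → ℂ)) B) {y : H} (hy : ¬ p ∣ orderOf y) :
    ∑ ψ : B, (ψ : G → ℂ) (u * (y : G)) * conj (wt p u (ψ : G → ℂ) (η : H → ℂ)) =
      (η : H → ℂ) y := by
  classical
  have := isPrime_of_isPModular hM
  have := Fintype.ofFinite G
  have := Core.finite_irr (G := H)
  have := Fintype.ofFinite (IrrCharacter H)
  have := Core.finite_irr (G := G)
  have := Fintype.ofFinite (IrrCharacter G)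
  let A : Set (IrrCharacter H) := {ξ | IsInducedBlock M H (blockOf M (ξ : H → ℂ)) B}
  have hA : ∀ ξ : IrrCharacter H, ξ ∈ A ↔ IsInducedBlock M H (blockOf M (ξ : H → ℂ)) B :=
    fun _ => Iff.rfl
  have : Fintype A := Fintype.ofFinite A
  have hsec : ∀ y' : H, ¬ p ∣ orderOf y' →
      ∑ ψ : B, (ψ : G → ℂ) (u * (y : G)) * conj ((ψ : G → ℂ) (u * (y' : G))) =
        ∑ ξ : A, (ξ : H → ℂ) y * conj ((ξ : H → ℂ) y') := by
    intro y' hy'
    have h := Blocks.CentralizerSum.sum_section hM u hu hH hB hA y y' hy hy'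
    rw [finsum_mem_eq_toFinset_sum, finsum_mem_eq_toFinset_sum] at h
    rw [← Finset.sum_subtype B.toFinset (p := fun x => x ∈ B) (fun x => Set.mem_toFinset)
      (fun ψ : IrrCharacter G => (ψ : G → ℂ) (u * (y : G)) * conj ((ψ : G → ℂ) (u * (y' : G)))),
      ← Finset.sum_subtype A.toFinset (p := fun x => x ∈ A) (fun x => Set.mem_toFinset)
      (fun ξ : IrrCharacter H => (ξ : H → ℂ) y * conj ((ξ : H → ℂ) y'))]
    exact h
  have h1 : ∀ ψ : B, (ψ : G → ℂ) (u * (y : G)) * conj (wt p u (ψ : G → ℂ) (η : H → ℂ)) =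
      (Nat.card H : ℂ)⁻¹ * ∑ y' : H with ¬ p ∣ orderOf y', (η : H → ℂ) y' *
        ((ψ : G → ℂ) (u * (y : G)) * conj ((ψ : G → ℂ) (u * (y' : G)))) := by
    intro ψ
    rw [wt_eq_sum, map_mul, map_inv₀, Complex.conj_natCast, map_sum, mul_left_comm,
      Finset.mul_sum]
    congr 1
    refine Finset.sum_congr rfl fun y' _ => ?_
    rw [map_mul, Complex.conj_conj]
    ring
  rw [Finset.sum_congr rfl fun ψ _ => h1 ψ, ← Finset.mul_sum, Finset.sum_comm]
  have h2 : ∀ y' ∈ Finset.univ.filter (fun y' : H => ¬ p ∣ orderOf y'),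
      ∑ ψ : B, (η : H → ℂ) y' *
        ((ψ : G → ℂ) (u * (y : G)) * conj ((ψ : G → ℂ) (u * (y' : G)))) =
      ∑ ξ : A, (ξ : H → ℂ) y * ((η : H → ℂ) y' * conj ((ξ : H → ℂ) y')) := by
    intro y' hy'
    rw [← Finset.mul_sum, hsec y' (Finset.mem_filter.1 hy').2, Finset.mul_sum]
    exact Finset.sum_congr rfl fun ξ _ => by ring
  rw [Finset.sum_congr rfl h2, Finset.sum_comm, Finset.mul_sum]
  have h3 : ∀ ξ : A, (Nat.card H : ℂ)⁻¹ * ∑ y' : H with ¬ p ∣ orderOf y',
      (ξ : H → ℂ) y * ((η : H → ℂ) y' * conj ((ξ : H → ℂ) y')) =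
      rg p (η : H → ℂ) (ξ : H → ℂ) * (ξ : H → ℂ) y := by
    intro ξ
    rw [rg_def, pair_eq_sum_filter, ← Finset.mul_sum]
    ring
  rw [Finset.sum_congr rfl fun ξ _ => h3 ξ]
  have h4 := congrFun (regPart_eq_sum p (Core.isIrr_isClassFunction η.2)) y
  rw [regPart_of_not_dvd hy, Finset.sum_apply] at h4
  rw [h4, sum_eq_sum_coe A]
  · exact Finset.sum_congr rfl fun ξ _ => rfl
  · intro ξ hξ
    have h5 : ξ ∉ blockOf M (η : H → ℂ) := by
      intro h6
      apply hξ
      have h7 : blockOf M (ξ : H → ℂ) = blockOf M (η : H → ℂ) :=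
        (isPBlock_eq_blockOf (isPBlock_blockOf η) h6).symm
      change IsInducedBlock M H (blockOf M (ξ : H → ℂ)) B
      rw [h7]
      exact hη
    rw [rg_eq_zero hM (isPBlock_blockOf η) (mem_blockOf_self η) h5, zero_smul, Pi.zero_apply]

/-- The column at `(u, η)` vanishes off the section of `u`. -/
theorem sum_apply_mul_conj_wt_not_conj (hM : IsPModular p M) {u x u' : G}
    (hu : ∃ k : ℕ, orderOf u = p ^ k) (hx : IsPPart p x u') (hne : ¬ IsConj u' u)
    {H : Subgroup G} [Fintype H] (hH : H = Subgroup.centralizer ({u} : Set G))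
    {B : Set (IrrCharacter G)} [Fintype B] (hB : IsPBlock M B) (η : H → ℂ) :
    ∑ ψ : B, (ψ : G → ℂ) x * conj (wt p u (ψ : G → ℂ) η) = 0 := by
  classical
  have := isPrime_of_isPModular hM
  have hort : ∀ y : H, ¬ p ∣ orderOf y →
      ∑ ψ : B, (ψ : G → ℂ) x * conj ((ψ : G → ℂ) (u * (y : G))) = 0 := by
    intro y hy
    have h1 : IsPPart p (u * (y : G)) u := by
      refine ⟨(y : G), rfl, ?_, hu, ?_⟩
      · exact (Subgroup.mem_centralizer_singleton_iff.1 (hH ▸ y.2)).symm
      · rwa [Subgroup.orderOf_coe]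
    have h3 := (S0925.result p M hM).2 _ _ _ _ hx h1 hne B hB
    have hfin := Core.finite_irr (G := G)
    rw [finsum_mem_eq_toFinset_sum] at h3
    rw [← Finset.sum_subtype B.toFinset (p := fun x => x ∈ B) (fun x => Set.mem_toFinset)
      (fun ψ : IrrCharacter G => (ψ : G → ℂ) x * conj ((ψ : G → ℂ) (u * (y : G))))]
    rw [← h3]
    refine Finset.sum_congr rfl fun ψ _ => ?_
    rw [Cfsg.Agent.Blocks.Orthogonality.irr_apply_inv ψ.2]
  have h1 : ∀ ψ : B, (ψ : G → ℂ) x * conj (wt p u (ψ : G → ℂ) η) =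
      (Nat.card H : ℂ)⁻¹ * ∑ y' : H with ¬ p ∣ orderOf y', η y' *
        ((ψ : G → ℂ) x * conj ((ψ : G → ℂ) (u * (y' : G)))) := by
    intro ψ
    rw [wt_eq_sum, map_mul, map_inv₀, Complex.conj_natCast, map_sum, mul_left_comm,
      Finset.mul_sum]
    congr 1
    refine Finset.sum_congr rfl fun y' _ => ?_
    rw [map_mul, Complex.conj_conj]
    ring
  rw [Finset.sum_congr rfl fun ψ _ => h1 ψ, ← Finset.mul_sum, Finset.sum_comm]
  rw [Finset.sum_eq_zero, mul_zero]
  intro y' hy'
  rw [← Finset.mul_sum, hort y' (Finset.mem_filter.1 hy').2, mul_zero]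

end Cfsg.Agent.H639
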