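import Mathlib
import Cfsg.Agent.H639.Div
import Cfsg.Agent.H639.Gram2

/-!
# Values of the columns of `B`, expansion of class functions on the `p`-singular elements
-/

set_option autoImplicit false
set_option linter.unusedSectionVars false

open Cfsg
open scoped ComplexConjugate

namespace Cfsg.Agent.H639

open Cfsg.Agent.Blocks.Blau Cfsg.Agent.Blocks.Local Cfsg.Agent.Characters
open Cfsg.Agent.H613.RegGram Cfsg.Agent.H613.Contrib
open Cfsg.Agent.H649 Cfsg.Agent.H651
open Cfsg.Agent.Blocks.Basic (isPBlock_blockOf mem_blockOf_self isPBlock_eq_blockOf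
  isPBlock_eq_of_mem isPBlock_nonempty)

universe u

/-- The centralizer of `u y` inside `C_G(u)`. -/
theorem card_centralizer_mul {G : Type u} [Group G] [Finite G] {p : ℕ} [Fact p.Prime] {u : G}
    {H : Subgroup G} (hH : H = Subgroup.centralizer ({u} : Set G))
    (hu : ∃ k : ℕ, orderOf u = p ^ k) {y : H} (hy : ¬ p ∣ orderOf y) :
    Nat.card (Subgroup.centralizer ({u * (y : G)} : Set G)) =
      Nat.card (Subgroup.centralizer ({y} : Set H)) := by
  have hcomm : Commute u (y : G) :=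
    (Subgroup.mem_centralizer_singleton_iff.1 (hH ▸ y.2)).symm
  have h1 : IsPPart p (u * (y : G)) u :=
    Blocks.PPart.isPPart_mul hcomm hu (by rwa [Subgroup.orderOf_coe])
  have h2 : ∀ x : G, x ∈ Subgroup.centralizer ({u * (y : G)} : Set G) → x ∈ H := by
    intro x hx
    rw [Subgroup.mem_centralizer_singleton_iff] at hx
    rw [hH]
    exact Blocks.PPart.mem_centralizer_of_conj h1 h1 (by rw [hx, mul_inv_cancel_right])
  have h3 : ∀ x : G, x ∈ Subgroup.centralizer ({u * (y : G)} : Set G) → x * y = y * x := by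
    intro x hx
    have h4 := h2 x hx
    rw [hH, Subgroup.mem_centralizer_singleton_iff] at h4
    rw [Subgroup.mem_centralizer_singleton_iff] at hx
    have h5 : u * (x * y) = u * (y * x) := by
      rw [← mul_assoc, ← h4, mul_assoc, hx, mul_assoc]
    exact mul_left_cancel h5
  refine Nat.card_congr
    { toFun := fun x => ⟨⟨x, h2 x x.2⟩, ?_⟩
      invFun := fun x => ⟨x.1, ?_⟩
      left_inv := fun x => rfl
      right_inv := fun x => rfl }
  · rw [Subgroup.mem_centralizer_singleton_iff]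
    exact Subtype.ext (h3 x x.2)
  · rw [Subgroup.mem_centralizer_singleton_iff]
    have h4 := Subgroup.mem_centralizer_singleton_iff.1 x.2
    have h5 : (x.1 : G) * y = y * x.1 := congrArg Subtype.val h4
    have h6 : (x.1 : G) * u = u * x.1 := Subgroup.mem_centralizer_singleton_iff.1 (hH ▸ x.1.2)
    calc (x.1 : G) * (u * y) = x.1 * u * y := by rw [mul_assoc]
      _ = u * (x.1 * y) := by rw [h6, mul_assoc]
      _ = u * y * x.1 := by rw [h5, mul_assoc]

variable {G : Type u} [Group G] [Fintype G] {p : ℕ} [Fact p.Prime]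
  {M : Ideal AlgInt} [M.IsPrime] {B : Set (IrrCharacter G)} {a : BrauerPairIdx G}
  {c : ∀ R : Subgroup G, Set (IrrCharacter (Subgroup.centralizer (R : Set G)))}
  {ζ : Subgroup G → G → ℂ}

theorem col_ei_eq_wt {Q : Subgroup G} [Fintype (Subgroup.centralizer (Q : Set G))] (u : G)
    (f : G → ℂ) (ξ : IrrCharacter (Subgroup.centralizer (Q : Set G))) :
    col p Q u f (ei ξ) = wt p u f (ξ : Subgroup.centralizer (Q : Set G) → ℂ) := by
  classical
  rw [col_def, rip_eq_sum, wt_eq_sum]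
  congr 1
  refine Finset.sum_congr rfl fun y _ => ?_
  rw [ei_coe]

namespace Full

/-- The data at `u`. -/
theorem exists_data (hF : Full p M B a c ζ) {u : a.1} (hu : u ≠ 1) :
    ∃ (Q : Subgroup G) (ξ : IrrCharacter (Subgroup.centralizer (Q : Set G))) (ε : ℤ),
      Q = ⊥ ⊔ Subgroup.zpowers (u : G) ∧
      Subgroup.centralizer (Q : Set G) = Subgroup.centralizer ({(u : G)} : Set G) ∧
      (ε = 1 ∨ ε = -1) ∧ ζ Q = (fun x => (ε : ℂ) * ei ξ x) ∧ ξ ∈ c Q ∧ Good p a.1 c ζ Q ∧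
      IsInducedBlock M (Subgroup.centralizer (Q : Set G))
        (blockOf M (ξ : Subgroup.centralizer (Q : Set G) → ℂ)) B ∧
      ∀ (inst : Fintype (Subgroup.centralizer (Q : Set G))) (f : G → ℂ),
        AA p a.1 ζ ⊥ (u : G) f = (Nat.card a.1 : ℂ) * ε *
          wt p (u : G) f (ξ : Subgroup.centralizer (Q : Set G) → ℂ) := by
  have hub : (u : G) ∉ (⊥ : Subgroup G) := fun h => hu (Subtype.ext (Subgroup.mem_bot.1 h))
  have hQa : ⊥ ⊔ Subgroup.zpowers (u : G) ≤ a.1 := hF.hs.sup_le bot_le u.2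
  have hg := hF.hg' _ (lt_sup_zpowers hub) hQa
  obtain ⟨ξ, hξ, ε, hε, h1, -⟩ := hg.exists_chi
  refine ⟨⊥ ⊔ Subgroup.zpowers (u : G), ξ, ε, rfl, ?_, hε, h1, hξ, hg, ?_, ?_⟩
  · rw [bot_sup_eq, centralizer_zpowers]
  · rw [← isPBlock_eq_blockOf (hF.hs.isPBlock hQa) hξ]
    exact (isBrauerPairOf_iff_isInducedBlock hF.hs.hM hF.hs.isPBlock_B
      (hF.hs.isBrauerPair hQa).1 (hF.hs.isPBlock hQa)).1 (hF.hs.isBrauerPairOf hQa)
  · intro inst f
    rw [AA_def, h1, col_smul_right, col_ei_eq_wt, map_intCast]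
    ring

/-- The value of the column at `u` on the section of `u`. -/
theorem sum_apply_mul_conj_AA_of_mem (hF : Full p M B a c ζ) [Fintype B] {u : a.1} (hu : u ≠ 1)
    {y : G} (hy : y ∈ Subgroup.centralizer ({(u : G)} : Set G)) (hyp : ¬ p ∣ orderOf y) :
    ∑ χ : B, (χ.1 : G → ℂ) ((u : G) * y) * conj (AA p a.1 ζ ⊥ (u : G) (χ.1 : G → ℂ)) =
      (Nat.card a.1 : ℂ) * ζ (⊥ ⊔ Subgroup.zpowers (u : G)) y := by
  classical
  obtain ⟨Q, ξ, ε, hQ, hcen, hε, hζ, hξ, hg, hind, hAA⟩ := hF.exists_data hu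
  have inst : Fintype (Subgroup.centralizer (Q : Set G)) := Fintype.ofFinite _
  have hyQ : y ∈ Subgroup.centralizer (Q : Set G) := by rwa [hcen]
  rw [← hQ, show ζ Q y = (ε : ℂ) * ei ξ y from congrFun hζ y]
  have h1 := sum_apply_mul_conj_wt hF.hs.hM (hF.hs.orderOf_pow u.2) hcen hF.hs.isPBlock_B hind
    (y := ⟨y, hyQ⟩) (by rwa [← Subgroup.orderOf_coe])
  have h2 : ∀ χ : B, (χ.1 : G → ℂ) ((u : G) * y) *
      conj (AA p a.1 ζ ⊥ (u : G) (χ.1 : G → ℂ)) = (Nat.card a.1 : ℂ) * ε *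
        ((χ.1 : G → ℂ) ((u : G) * y) * conj (wt p (u : G) (χ.1 : G → ℂ)
          (ξ : Subgroup.centralizer (Q : Set G) → ℂ))) := by
    intro χ
    rw [hAA inst, map_mul, map_mul, Complex.conj_natCast, map_intCast]
    ring
  rw [Finset.sum_congr rfl fun χ _ => h2 χ, ← Finset.mul_sum]
  rw [show (∑ χ : B, (χ.1 : G → ℂ) ((u : G) * y) * conj (wt p (u : G) (χ.1 : G → ℂ)
    (ξ : Subgroup.centralizer (Q : Set G) → ℂ))) = _ from h1]
  rw [ei_of_mem _ hyQ, mul_assoc]

/-- The column at `u` vanishes off the section of `u`. -/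
theorem sum_apply_mul_conj_AA_eq_zero (hF : Full p M B a c ζ) [Fintype B] {u : a.1}
    (hu : u ≠ 1) {x u' : G} (hx : IsPPart p x u') (hne : ¬ IsConj u' (u : G)) :
    ∑ χ : B, (χ.1 : G → ℂ) x * conj (AA p a.1 ζ ⊥ (u : G) (χ.1 : G → ℂ)) = 0 := by
  classical
  obtain ⟨Q, ξ, ε, hQ, hcen, hε, hζ, hξ, hg, hind, hAA⟩ := hF.exists_data hu
  have inst : Fintype (Subgroup.centralizer (Q : Set G)) := Fintype.ofFinite _
  have h1 := sum_apply_mul_conj_wt_not_conj hF.hs.hM (hF.hs.orderOf_pow u.2) hx hne hcen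
    hF.hs.isPBlock_B (ξ : Subgroup.centralizer (Q : Set G) → ℂ)
  have h2 : ∀ χ : B, (χ.1 : G → ℂ) x *
      conj (AA p a.1 ζ ⊥ (u : G) (χ.1 : G → ℂ)) = (Nat.card a.1 : ℂ) * ε *
        ((χ.1 : G → ℂ) x * conj (wt p (u : G) (χ.1 : G → ℂ)
          (ξ : Subgroup.centralizer (Q : Set G) → ℂ))) := by
    intro χ
    rw [hAA inst, map_mul, map_mul, Complex.conj_natCast, map_intCast]
    ring
  rw [Finset.sum_congr rfl fun χ _ => h2 χ, ← Finset.mul_sum]
  rw [show (∑ χ : B, (χ.1 : G → ℂ) x * conj (wt p (u : G) (χ.1 : G → ℂ)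
    (ξ : Subgroup.centralizer (Q : Set G) → ℂ))) = _ from h1, mul_zero]

/-- Conjugation invariance of the column sums. -/
theorem sum_apply_conj (hF : Full p M B a c ζ) [Fintype B] (u : a.1) (x g : G) :
    ∑ χ : B, (χ.1 : G → ℂ) (g * x * g⁻¹) * conj (AA p a.1 ζ ⊥ (u : G) (χ.1 : G → ℂ)) =
      ∑ χ : B, (χ.1 : G → ℂ) x * conj (AA p a.1 ζ ⊥ (u : G) (χ.1 : G → ℂ)) :=
  Finset.sum_congr rfl fun χ _ => by rw [Cfsg.Agent.Blocks.Basic.irr_conj χ.1.2 x g]

/-- Either `0` or a section value. -/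
theorem exists_section (hF : Full p M B a c ζ) {u : a.1} (x : G) :
    (∃ u', IsPPart p x u' ∧ ¬ IsConj u' (u : G)) ∨
      ∃ g y : G, g * x * g⁻¹ = (u : G) * y ∧ y ∈ Subgroup.centralizer ({(u : G)} : Set G) ∧
        ¬ p ∣ orderOf y := by
  obtain ⟨u', hu'⟩ := Blocks.PPart.exists_isPPart p x
  by_cases h : IsConj u' (u : G)
  · right
    obtain ⟨g, hg⟩ := isConj_iff.1 h
    obtain ⟨y, hxy, hcomm, -, hy⟩ := hu'
    refine ⟨g, g * y * g⁻¹, ?_, ?_, ?_⟩
    · rw [← hxy, ← hg]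
      group
    · rw [Subgroup.mem_centralizer_singleton_iff, ← hg]
      have h1 : y * u' = u' * y := hcomm.symm
      calc g * y * g⁻¹ * (g * u' * g⁻¹) = g * (y * u') * g⁻¹ := by group
        _ = g * (u' * y) * g⁻¹ := by rw [h1]
        _ = g * u' * g⁻¹ * (g * y * g⁻¹) := by group
    · rwa [orderOf_conj]
  · exact Or.inl ⟨u', hu', h⟩

/-- The column sums are divisible by `|P|`. -/
theorem memLocalRing_sum_div (hF : Full p M B a c ζ) [Fintype B] {u : a.1} (hu : u ≠ 1)
    (x : G) : MemLocalRing M ((∑ χ : B, (χ.1 : G → ℂ) x *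
      conj (AA p a.1 ζ ⊥ (u : G) (χ.1 : G → ℂ))) / (Nat.card a.1 : ℂ)) := by
  rcases hF.exists_section (u := u) x with ⟨u', h1, h2⟩ | ⟨g, y, h1, h2, h3⟩
  · rw [hF.sum_apply_mul_conj_AA_eq_zero hu h1 h2, zero_div]
    exact memLocalRing_zero
  · rw [← hF.sum_apply_conj u x g, h1, hF.sum_apply_mul_conj_AA_of_mem hu h2 h3]
    have hn0 : (Nat.card a.1 : ℂ) ≠ 0 := Nat.cast_ne_zero.2 Nat.card_pos.ne'
    rw [mul_div_cancel_left₀ _ hn0]
    obtain ⟨Q, ξ, ε, hQ, hcen, hε, hζ, hξ, hg, hind, hAA⟩ := hF.exists_data hu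
    rw [← hQ, show ζ Q y = (ε : ℂ) * ei ξ y from congrFun hζ y]
    refine memLocalRing_mul (memLocalRing_intCast ε) ?_
    rw [ei_of_mem _ (by rwa [hcen])]
    exact memLocalRing_of_isIntegral (Cfsg.Agent.Blocks.DefectCard.isIntegral_irr ξ.2 _)

/-- The column sums are divisible by the orders of the centralizers. -/
theorem memLocalRing_sum_div_card (hF : Full p M B a c ζ) [Fintype B] {u : a.1} (hu : u ≠ 1)
    (x : G) : MemLocalRing M ((∑ χ : B, (χ.1 : G → ℂ) x *
      conj (AA p a.1 ζ ⊥ (u : G) (χ.1 : G → ℂ))) /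
        (Nat.card (Subgroup.centralizer ({x} : Set G)) : ℂ)) := by
  classical
  rcases hF.exists_section (u := u) x with ⟨u', h1, h2⟩ | ⟨g, y, h1, h2, h3⟩
  · rw [hF.sum_apply_mul_conj_AA_eq_zero hu h1 h2, zero_div]
    exact memLocalRing_zero
  · have hcard : Nat.card (Subgroup.centralizer ({x} : Set G)) =
        Nat.card (Subgroup.centralizer ({g * x * g⁻¹} : Set G)) := by
      refine Nat.card_congr
        { toFun := fun z => ⟨g * z * g⁻¹, ?_⟩
          invFun := fun z => ⟨g⁻¹ * z * g, ?_⟩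
          left_inv := fun z => Subtype.ext (by simp [mul_assoc])
          right_inv := fun z => Subtype.ext (by simp [mul_assoc]) }
      · rw [Subgroup.mem_centralizer_singleton_iff]
        have h4 := Subgroup.mem_centralizer_singleton_iff.1 z.2
        calc g * (z : G) * g⁻¹ * (g * x * g⁻¹) = g * ((z : G) * x) * g⁻¹ := by group
          _ = g * (x * z) * g⁻¹ := by rw [h4]
          _ = g * x * g⁻¹ * (g * z * g⁻¹) := by group
      · rw [Subgroup.mem_centralizer_singleton_iff]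
        have h4 := Subgroup.mem_centralizer_singleton_iff.1 z.2
        calc g⁻¹ * (z : G) * g * x = g⁻¹ * ((z : G) * (g * x * g⁻¹)) * g := by group
          _ = g⁻¹ * (g * x * g⁻¹ * z) * g := by rw [h4]
          _ = x * (g⁻¹ * z * g) := by group
    rw [hcard, ← hF.sum_apply_conj u x g, h1, hF.sum_apply_mul_conj_AA_of_mem hu h2 h3]
    obtain ⟨Q, ξ, ε, hQ, hcen, hε, hζ, hξ, hg, hind, hAA⟩ := hF.exists_data hu
    have hyQ : y ∈ Subgroup.centralizer (Q : Set G) := by rwa [hcen]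
    have inst : Fintype (Subgroup.centralizer (Q : Set G)) := Fintype.ofFinite _
    have := Core.finite_irr (G := Subgroup.centralizer (Q : Set G))
    have := Fintype.ofFinite (IrrCharacter (Subgroup.centralizer (Q : Set G)))
    have hyp : ¬ p ∣ orderOf (⟨y, hyQ⟩ : Subgroup.centralizer (Q : Set G)) := by rwa [← Subgroup.orderOf_coe]
    have hQa : Q ≤ a.1 := by
      rw [hQ]
      exact hF.hs.sup_le bot_le u.2
    have hcL := card_centralizer_mul (p := p) (H := Subgroup.centralizer (Q : Set G)) hcen (hF.hs.orderOf_pow u.2) hyp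
    change Nat.card (Subgroup.centralizer ({(u : G) * y} : Set G)) = _ at hcL
    rw [hcL, ← hQ, show ζ Q y = (ε : ℂ) * ei ξ y from congrFun hζ y]
    have key := div_card_mem_of_vanish (H := Subgroup.centralizer (Q : Set G)) hF.hs.hM
      (fun θ : IrrCharacter (Subgroup.centralizer (Q : Set G)) => (Nat.card a.1 : ℂ) * (ε * rg p (ξ : Subgroup.centralizer (Q : Set G) → ℂ) (θ : Subgroup.centralizer (Q : Set G) → ℂ)))
      (f := fun z : Subgroup.centralizer (Q : Set G) => (Nat.card a.1 : ℂ) * ε * regPart p (ξ : Subgroup.centralizer (Q : Set G) → ℂ) z) ?_ ?_ ?_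
      (⟨y, hyQ⟩ : Subgroup.centralizer (Q : Set G))
    · rw [regPart_of_not_dvd hyp] at key
      have h5 : (Nat.card a.1 : ℂ) * ((ε : ℂ) * ei ξ y) =
          (Nat.card a.1 : ℂ) * ε * (ξ : Subgroup.centralizer (Q : Set G) → ℂ) ⟨y, hyQ⟩ := by
        rw [ei_of_mem _ hyQ, mul_assoc]
      rw [h5]
      exact key
    · intro θ
      by_cases hθ : θ ∈ c Q
      · obtain ⟨κ, hκ⟩ := hg.dec θ hθ
        have h5 : (ε : ℂ) * rg p (ξ : Subgroup.centralizer (Q : Set G) → ℂ)
            (θ : Subgroup.centralizer (Q : Set G) → ℂ) =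
            rip p (Subgroup.centralizer (Q : Set G)) (ζ Q) (ei θ) := by
          rw [hζ, rip_smul_left, rip_ei_ei]
        have h6 : rip p (Subgroup.centralizer (Q : Set G)) (ζ Q) (ei θ) =
            (κ : ℂ) * rip p (Subgroup.centralizer (Q : Set G)) (ζ Q) (ζ Q) := by
          rw [rip_congr p (Subgroup.centralizer (Q : Set G)) (f' := ζ Q)
            (g' := fun x => (κ : ℂ) * ζ Q x) (fun _ _ _ => rfl) hκ,
            rip_smul_right, map_intCast]
        have h7 : (Nat.card a.1 : ℂ) * (ε * rg p (ξ : Subgroup.centralizer (Q : Set G) → ℂ) (θ : Subgroup.centralizer (Q : Set G) → ℂ)) = κ := by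
          rw [h5, h6, mul_left_comm, hg.norm, mul_one]
        change MemLocalRing M ((Nat.card a.1 : ℂ) * (ε * rg p (ξ : Subgroup.centralizer (Q : Set G) → ℂ) (θ : Subgroup.centralizer (Q : Set G) → ℂ)))
        rw [h7]
        exact memLocalRing_intCast κ
      · change MemLocalRing M ((Nat.card a.1 : ℂ) * (ε * rg p (ξ : Subgroup.centralizer (Q : Set G) → ℂ) (θ : Subgroup.centralizer (Q : Set G) → ℂ)))
        rw [rg_eq_zero hF.hs.hM (hF.hs.isPBlock hQa) hξ hθ, mul_zero, mul_zero]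
        exact memLocalRing_zero
    · funext z
      rw [regPart_eq_sum p (Core.isIrr_isClassFunction ξ.2), Finset.sum_apply,
        Finset.sum_apply, Finset.mul_sum]
      refine Finset.sum_congr rfl fun θ _ => ?_
      simp only [Pi.smul_apply, smul_eq_mul]
      ring
    · intro z hz
      rw [regPart_of_dvd hz, mul_zero]

end Full

end Cfsg.Agent.H639
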