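import Mathlib
import Cfsg.Agent.H639.Val

/-!
# Expansion on the `p`-singular elements; Fourier inversion of the columns
-/

set_option autoImplicit false
set_option linter.unusedSectionVars false

open Cfsg
open scoped ComplexConjugate

namespace Cfsg.Agent.H639

open Cfsg.Agent.Blocks.Blau Cfsg.Agent.Blocks.Local Cfsg.Agent.Characters
open Cfsg.Agent.H613.RegGram Cfsg.Agent.H613.Contrib
open Cfsg.Agent.H649 Cfsg.Agent.H651
open Cfsg.Agent.Blocks.Basic (isPBlock_blockOf mem_blockOf_self isPBlock_eq_blockOf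
  isPBlock_eq_of_mem isPBlock_nonempty)

universe u

variable {G : Type u} [Group G] [Fintype G] {p : ℕ} [Fact p.Prime]
  {M : Ideal AlgInt} [M.IsPrime] {B : Set (IrrCharacter G)} {a : BrauerPairIdx G}
  {c : ∀ R : Subgroup G, Set (IrrCharacter (Subgroup.centralizer (R : Set G)))}
  {ζ : Subgroup G → G → ℂ}

namespace Full

open Classical in
/-- Expansion of a class function of the block on the `p`-singular elements. -/
theorem apply_eq_sum (hF : Full p M B a c ζ) [Fintype B] (α : B → ℂ) {f : G → ℂ}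
    (hf : f = fun x => ∑ χ : B, α χ * (χ.1 : G → ℂ) x) {x : G} (hx : p ∣ orderOf x) :
    f x = ((Nat.card (inQ a) : ℂ) * (Nat.card a.1 : ℂ))⁻¹ * ∑ u : a.1 with u ≠ 1,
      AA p a.1 ζ ⊥ (u : G) f *
        ∑ χ : B, (χ.1 : G → ℂ) x * conj (AA p a.1 ζ ⊥ (u : G) (χ.1 : G → ℂ)) := by
  have : Fintype (inQ a) := Fintype.ofFinite _
  set n : ℂ := (Nat.card a.1 : ℂ) with hn
  set e : ℂ := (Nat.card (inQ a) : ℂ) with he
  have hn0 : n ≠ 0 := Nat.cast_ne_zero.2 Nat.card_pos.ne'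
  have he0 : e ≠ 0 := Nat.cast_ne_zero.2 Nat.card_pos.ne'
  set A : a.1 → (G → ℂ) → ℂ := fun u f => AA p a.1 ζ ⊥ (u : G) f with hA
  have hcls : IsClassFunction G f := by
    intro z w
    rw [hf]
    exact Finset.sum_congr rfl fun χ _ => by
      rw [Cfsg.Agent.Blocks.Basic.irr_conj χ.1.2 z w]
  have hAf0 : ∀ u' : a.1, A u' f = ∑ χ : B, α χ * A u' (χ.1 : G → ℂ) := by
    intro u'
    rw [hf]
    exact AA_sum a.1 ζ ⊥ (u' : G) Finset.univ _ _
  set N : B → ℂ := fun χ => (e * n)⁻¹ * ∑ u : a.1 with u ≠ 1,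
    A u f * conj (A u (χ.1 : G → ℂ)) with hN
  set g : G → ℂ := fun x => ∑ χ : B, (α χ - N χ) * (χ.1 : G → ℂ) x with hg
  have hAg : ∀ u' : a.1, u' ≠ 1 → A u' g = 0 := by
    intro u' hu'
    have h1 : A u' g = ∑ χ : B, (α χ - N χ) * A u' (χ.1 : G → ℂ) := by
      rw [hg]
      exact AA_sum a.1 ζ ⊥ (u' : G) Finset.univ _ _
    rw [h1]
    simp only [sub_mul, Finset.sum_sub_distrib]
    rw [← hAf0]
    have h2 : ∑ χ : B, N χ * A u' (χ.1 : G → ℂ) = (e * n)⁻¹ * ∑ u : a.1 with u ≠ 1,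
        A u f * ∑ χ : B, A u' (χ.1 : G → ℂ) * conj (A u (χ.1 : G → ℂ)) := by
      simp only [hN, Finset.mul_sum, Finset.sum_mul]
      rw [Finset.sum_comm]
      refine Finset.sum_congr rfl fun u _ => Finset.sum_congr rfl fun χ _ => ?_
      ring
    have h3 : ∀ u ∈ Finset.univ.filter (fun u : a.1 => u ≠ 1), A u f *
        ∑ χ : B, A u' (χ.1 : G → ℂ) * conj (A u (χ.1 : G → ℂ)) =
        ∑ τ : inQ a, if τ.1 u' = u then n * A u f else 0 := by
      intro u hu
      rw [hF.gram (Finset.mem_filter.1 hu).2 hu', ← hn, Finset.mul_sum, Finset.mul_sum]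
      refine Finset.sum_congr rfl fun τ _ => ?_
      split_ifs <;> ring
    rw [h2, Finset.sum_congr rfl h3, Finset.sum_comm]
    have h4 : ∀ τ : inQ a, ∑ u : a.1 with u ≠ 1,
        (if τ.1 u' = u then n * A u f else 0) = n * A u' f := by
      intro τ
      have h5 : τ.1 u' ≠ 1 := by
        intro h6
        apply hu'
        exact τ.1.injective (h6.trans (map_one τ.1).symm)
      have h6 : τ.1 u' ∈ Finset.univ.filter (fun u : a.1 => u ≠ 1) :=
        Finset.mem_filter.2 ⟨Finset.mem_univ _, h5⟩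
      rw [Finset.sum_ite_eq, if_pos h6]
      congr 1
      exact hF.AA_inQ τ.2 u' hcls hu'
    rw [Finset.sum_congr rfl fun τ _ => h4 τ, Finset.sum_const, Finset.card_univ,
      nsmul_eq_mul, Fintype.card_eq_nat_card, ← he]
    field_simp
    ring
  have h1 : g x = 0 := hF.eq_zero_of_AA _ hg hAg hx
  rw [hg] at h1
  simp only [sub_mul, Finset.sum_sub_distrib] at h1
  rw [sub_eq_zero] at h1
  have h2 : f x = ∑ χ : B, N χ * (χ.1 : G → ℂ) x := by
    rw [← h1, hf]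
  rw [h2]
  simp only [hN, Finset.mul_sum, Finset.sum_mul]
  rw [Finset.sum_comm]
  refine Finset.sum_congr rfl fun u _ => Finset.sum_congr rfl fun χ _ => ?_
  ring

/-- Fourier inversion. -/
theorem conj_AA_eq_sum (hF : Full p M B a c ζ) (f : G → ℂ) {u : a.1} (hu : u ≠ 1)
    [Fintype (a.1 →* ℂˣ)] :
    conj (AA p a.1 ζ ⊥ (u : G) f) =
      ∑ ν : a.1 →* ℂˣ, conj (ν u : ℂ) * wB p a.1 ζ f ν := by
  classical
  let _ := commGroupOf a.1 hF.hs.hab
  have h1 := sum_conj_mul_wF (fun v : a.1 => AA p a.1 ζ ⊥ (v : G) f) hu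
  rw [← h1]
  refine Finset.sum_congr rfl fun ν _ => ?_
  rw [hF.wB_eq_wF f ν _]

theorem wB_one (f : G → ℂ) : wB p a.1 ζ f 1 = 0 := by
  rw [wB]
  simp

/-- Complex conjugation. -/
theorem conj_AA (hF : Full p M B a c ζ) (χ : B) {u : a.1} (hu : u ≠ 1) :
    conj (AA p a.1 ζ ⊥ (u : G) (χ.1 : G → ℂ)) =
      AA p a.1 ζ ⊥ ((u⁻¹ : a.1) : G) (χ.1 : G → ℂ) := by
  classical
  let _ := commGroupOf a.1 hF.hs.hab
  have : Finite (a.1 →* ℂˣ) := finite_dual
  have : Fintype (a.1 →* ℂˣ) := Fintype.ofFinite _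
  have hu' : u⁻¹ ≠ 1 := fun h => hu (inv_eq_one.1 h)
  have h1 := hF.conj_AA_eq_sum (χ.1 : G → ℂ) hu
  have h2 := hF.conj_AA_eq_sum (χ.1 : G → ℂ) hu'
  have h3 := congrArg conj h2
  rw [Complex.conj_conj, map_sum] at h3
  rw [h1, h3]
  refine Finset.sum_congr rfl fun ν _ => ?_
  obtain ⟨z, hz⟩ := hF.exists_int_wB χ ν
  rw [hz, map_mul, Complex.conj_conj, map_intCast, conj_char]

end Full

end Cfsg.Agent.H639
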