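import Mathlib
import Cfsg.Agent.H639.Expand

/-!
# Perfect isometries between blocks with abelian defect groups and free inertial quotients
-/

set_option autoImplicit false
set_option linter.unusedSectionVars false

open Cfsg
open scoped ComplexConjugate

namespace Cfsg.Agent.H639

open Cfsg.Agent.Blocks.Blau Cfsg.Agent.Blocks.Local Cfsg.Agent.Characters
open Cfsg.Agent.H613.RegGram Cfsg.Agent.H613.Contrib
open Cfsg.Agent.H649 Cfsg.Agent.H651
open Cfsg.Agent.Blocks.Basic (isPBlock_blockOf mem_blockOf_self isPBlock_eq_blockOf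
  isPBlock_eq_of_mem isPBlock_nonempty)

universe u v

section Match

variable {G : Type u} [Group G] [Fintype G] {H : Type v} [Group H] [Fintype H]
  {p : ℕ} [Fact p.Prime] {M : Ideal AlgInt} [M.IsPrime]
  {B : Set (IrrCharacter G)} {a : BrauerPairIdx G}
  {c : ∀ R : Subgroup G, Set (IrrCharacter (Subgroup.centralizer (R : Set G)))}
  {ζ : Subgroup G → G → ℂ}
  {B' : Set (IrrCharacter H)} {a' : BrauerPairIdx H}
  {c' : ∀ R : Subgroup H, Set (IrrCharacter (Subgroup.centralizer (R : Set H)))}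
  {ζ' : Subgroup H → H → ℂ}

/-- The kernel. -/
noncomputable def ker' [Fintype B'] (I₀ : B' → B) (ε : B' → ℤ) (x : G) (y : H) : ℂ :=
  ∑ η : B', (ε η : ℂ) * ((I₀ η).1 : G → ℂ) x * (η.1 : H → ℂ) y

theorem ker'_def [Fintype B'] (I₀ : B' → B) (ε : B' → ℤ) (x : G) (y : H) :
    ker' I₀ ε x y = ∑ η : B', (ε η : ℂ) * ((I₀ η).1 : G → ℂ) x * (η.1 : H → ℂ) y := rfl

/-- Matching of columns. -/
def Match (p : ℕ) (a : BrauerPairIdx G) (ζ : Subgroup G → G → ℂ) (a' : BrauerPairIdx H)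
    (ζ' : Subgroup H → H → ℂ) (θ : a'.1 ≃* a.1) (I₀ : B' ≃ B) (ε : B' → ℤ) : Prop :=
  (∀ η, ε η = 1 ∨ ε η = -1) ∧ ∀ u : a'.1, u ≠ 1 → ∀ η : B',
    (ε η : ℂ) * AA p a.1 ζ ⊥ ((θ u : a.1) : G) ((I₀ η).1 : G → ℂ) =
      AA p a'.1 ζ' ⊥ (u : H) (η.1 : H → ℂ)

theorem Match.symm {θ : a'.1 ≃* a.1} {I₀ : B' ≃ B} {ε : B' → ℤ}
    (h : Match p a ζ a' ζ' θ I₀ ε) :
    Match p a' ζ' a ζ θ.symm I₀.symm (fun χ => ε (I₀.symm χ)) := by
  refine ⟨fun χ => h.1 _, fun u hu χ => ?_⟩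
  have h1 : θ.symm u ≠ 1 := fun h => hu (by rw [← θ.apply_symm_apply u, h, map_one])
  have h2 := h.2 (θ.symm u) h1 (I₀.symm χ)
  rw [MulEquiv.apply_symm_apply, Equiv.apply_symm_apply] at h2
  rw [← h2, ← mul_assoc]
  have h3 : ((ε (I₀.symm χ) : ℤ) : ℂ) * (ε (I₀.symm χ) : ℤ) = 1 := by
    rcases h.1 (I₀.symm χ) with h4 | h4 <;> rw [h4] <;> simp
  rw [h3, one_mul]

theorem ker'_symm [Fintype B] [Fintype B'] (I₀ : B' ≃ B) (ε : B' → ℤ) (x : G) (y : H) :
    ker' I₀.symm (fun χ => ε (I₀.symm χ)) y x = ker' I₀ ε x y := by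
  rw [ker'_def, ker'_def, ← Equiv.sum_comp I₀]
  refine Finset.sum_congr rfl fun η _ => ?_
  rw [Equiv.symm_apply_apply]
  ring

variable [Fintype B] [Fintype B']

theorem ker'_eq (I₀ : B' ≃ B) (ε : B' → ℤ) (y : H) :
    (fun x => ker' I₀ ε x y) = fun x => ∑ χ : B, ((ε (I₀.symm χ) : ℂ) *
      ((I₀.symm χ).1 : H → ℂ) y) * (χ.1 : G → ℂ) x := by
  funext x
  rw [ker'_def, ← Equiv.sum_comp I₀]
  refine Finset.sum_congr rfl fun η _ => ?_
  rw [Equiv.symm_apply_apply]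
  ring

variable (hF : Full p M B a c ζ) (hF' : Full p M B' a' c' ζ') {θ : a'.1 ≃* a.1}
  {I₀ : B' ≃ B} {ε : B' → ℤ} (hm : Match p a ζ a' ζ' θ I₀ ε)

include hF' hm in
/-- The columns of the kernel. -/
theorem AA_ker' {u : a.1} (hu : u ≠ 1) (y : H) :
    AA p a.1 ζ ⊥ (u : G) (fun x => ker' I₀ ε x y) =
      ∑ η : B', (η.1 : H → ℂ) y *
        conj (AA p a'.1 ζ' ⊥ (((θ.symm u)⁻¹ : a'.1) : H) (η.1 : H → ℂ)) := by
  rw [ker'_eq]
  refine (AA_sum a.1 ζ ⊥ (u : G) Finset.univ _ _).trans ?_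
  rw [← Equiv.sum_comp I₀]
  refine Finset.sum_congr rfl fun η _ => ?_
  have h1 : θ.symm u ≠ 1 := fun h => hu (by rw [← θ.apply_symm_apply u, h, map_one])
  have h1' : (θ.symm u)⁻¹ ≠ 1 := fun h => h1 (inv_eq_one.1 h)
  have h2 := hm.2 (θ.symm u) h1 η
  rw [MulEquiv.apply_symm_apply] at h2
  rw [Equiv.symm_apply_apply, hF'.conj_AA η h1', inv_inv, ← h2]
  ring

include hF hF' hm in
theorem ker'_eq_zero {x : G} {y : H} (hx : p ∣ orderOf x) (hy : ¬ p ∣ orderOf y) :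
    ker' I₀ ε x y = 0 := by
  classical
  have h := hF.apply_eq_sum _ (ker'_eq I₀ ε y) hx
  rw [h]
  rw [Finset.sum_eq_zero, mul_zero]
  intro u hu
  have hu1 := (Finset.mem_filter.1 hu).2
  rw [AA_ker' hF' hm hu1]
  have h1 : (θ.symm u)⁻¹ ≠ 1 := by
    intro h
    apply hu1
    rw [inv_eq_one] at h
    rw [← θ.apply_symm_apply u, h, map_one]
  rw [hF'.sum_apply_mul_conj_AA h1 hy, zero_mul]

include hF hF' hm in
theorem ker'_div_mem_of_dvd {x : G} (hx : p ∣ orderOf x) (y : H) :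
    MemLocalRing M (ker' I₀ ε x y / (Nat.card (Subgroup.centralizer ({x} : Set G)) : ℂ)) := by
  classical
  have h := hF.apply_eq_sum _ (ker'_eq I₀ ε y) hx
  have hcard : Nat.card a.1 = Nat.card a'.1 := (Nat.card_congr θ.toEquiv).symm
  have hn0 : (Nat.card a.1 : ℂ) ≠ 0 := Nat.cast_ne_zero.2 Nat.card_pos.ne'
  have hp1 : ¬ p ∣ Nat.card (inQ a) := by
    intro h1
    have h2 := hF.card_Orb
    obtain ⟨k, hk⟩ := (IsPGroup.iff_card).1 hF.hs.isPGroup
    have h3 : 1 < Nat.card a.1 := by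
      have := card_lt_card_of_lt hF.lt
      rwa [Subgroup.card_bot] at this
    have h4 : p ∣ Nat.card a.1 := by
      rw [hk]
      refine dvd_pow_self p ?_
      rintro rfl
      rw [pow_zero] at hk
      omega
    rw [← h2] at h4
    have h5 : p ∣ 1 := (Nat.dvd_add_right (Dvd.dvd.mul_right h1 _)).1 h4
    exact (Fact.out : p.Prime).not_dvd_one h5
  rw [h]
  have h1 : ((Nat.card (inQ a) : ℂ) * (Nat.card a.1 : ℂ))⁻¹ * (∑ u : a.1 with u ≠ 1,
      AA p a.1 ζ ⊥ (u : G) (fun x => ker' I₀ ε x y) *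
        ∑ χ : B, (χ.1 : G → ℂ) x * conj (AA p a.1 ζ ⊥ (u : G) (χ.1 : G → ℂ))) /
      (Nat.card (Subgroup.centralizer ({x} : Set G)) : ℂ) =
      (Nat.card (inQ a) : ℂ)⁻¹ * ∑ u : a.1 with u ≠ 1,
        (AA p a.1 ζ ⊥ (u : G) (fun x => ker' I₀ ε x y) / (Nat.card a'.1 : ℂ)) *
        ((∑ χ : B, (χ.1 : G → ℂ) x * conj (AA p a.1 ζ ⊥ (u : G) (χ.1 : G → ℂ))) /
          (Nat.card (Subgroup.centralizer ({x} : Set G)) : ℂ)) := by
    rw [mul_inv, mul_assoc, mul_div_assoc]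
    congr 1
    rw [Finset.mul_sum, Finset.sum_div]
    refine Finset.sum_congr rfl fun u _ => ?_
    rw [hcard]
    ring
  rw [h1]
  refine memLocalRing_mul (memLocalRing_inv_natCast hF.hs.hM hp1)
    (memLocalRing_sum fun u hu => memLocalRing_mul ?_ ?_)
  · have hu1 := (Finset.mem_filter.1 hu).2
    rw [AA_ker' hF' hm hu1]
    refine hF'.memLocalRing_sum_div ?_ y
    intro h
    apply hu1
    rw [inv_eq_one] at h
    rw [← θ.apply_symm_apply u, h, map_one]
  · exact hF.memLocalRing_sum_div_card (Finset.mem_filter.1 hu).2 x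

include hF hF' hm in
theorem ker'_div_mem_of_not_dvd (x : G) {y : H} (hy : ¬ p ∣ orderOf y) :
    MemLocalRing M (ker' I₀ ε x y / (Nat.card (Subgroup.centralizer ({x} : Set G)) : ℂ)) := by
  classical
  have := Core.finite_irr (G := G)
  have := Fintype.ofFinite (IrrCharacter G)
  refine div_card_mem_of_vanish hF.hs.hM (fun χ : IrrCharacter G => if h : χ ∈ B then
    (ε (I₀.symm ⟨χ, h⟩) : ℂ) * ((I₀.symm ⟨χ, h⟩).1 : H → ℂ) y else 0) ?_
    (f := fun x => ker' I₀ ε x y) ?_ ?_ x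
  · intro χ
    split_ifs with h
    · exact memLocalRing_mul (memLocalRing_intCast _)
        (memLocalRing_of_isIntegral (Cfsg.Agent.Blocks.DefectCard.isIntegral_irr
          (I₀.symm ⟨χ, h⟩).1.2 _))
    · exact memLocalRing_zero
  · rw [ker'_eq]
    funext x
    rw [Finset.sum_apply, sum_eq_sum_coe B]
    · refine Finset.sum_congr rfl fun χ _ => ?_
      rw [dif_pos χ.2]
      rfl
    · intro χ hχ
      rw [dif_neg hχ, zero_smul, Pi.zero_apply]
  · intro x hx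
    exact ker'_eq_zero hF hF' hm hx hy

include hF hF' hm in
theorem isPerfectFun_ker' : IsPerfectFun p M (ker' I₀ ε) := by
  have key : ∀ (x : G) (y : H),
      MemLocalRing M (ker' I₀ ε x y /
        (Nat.card (Subgroup.centralizer ({x} : Set G)) : ℂ)) := by
    intro x y
    by_cases hx : p ∣ orderOf x
    · exact ker'_div_mem_of_dvd hF hF' hm hx y
    · by_cases hy : p ∣ orderOf y
      · rw [← ker'_symm, ker'_eq_zero hF' hF hm.symm hy hx, zero_div]
        exact memLocalRing_zero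
      · exact ker'_div_mem_of_not_dvd hF hF' hm x hy
  have key' : ∀ (x : G) (y : H),
      MemLocalRing M (ker' I₀ ε x y /
        (Nat.card (Subgroup.centralizer ({y} : Set H)) : ℂ)) := by
    intro x y
    rw [← ker'_symm]
    by_cases hy : p ∣ orderOf y
    · exact ker'_div_mem_of_dvd hF' hF hm.symm hy x
    · by_cases hx : p ∣ orderOf x
      · rw [ker'_symm, ker'_eq_zero hF hF' hm hx hy, zero_div]
        exact memLocalRing_zero
      · exact ker'_div_mem_of_not_dvd hF' hF hm.symm y hx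
  intro x y
  refine ⟨key x y, key' x y, ?_⟩
  by_cases hx : p ∣ orderOf x <;> by_cases hy : p ∣ orderOf y
  · left
    exact ⟨fun h => absurd hx h, fun h => absurd hy h⟩
  · right
    exact ker'_eq_zero hF hF' hm hx hy
  · right
    rw [← ker'_symm]
    exact ker'_eq_zero hF' hF hm.symm hy hx
  · left
    exact ⟨fun _ => hy, fun _ => hx⟩

end Match

end Cfsg.Agent.H639
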