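import Mathlib
import Cfsg.Agent.H639.PI

/-!
# Existence of perfect isometries
-/

set_option autoImplicit false
set_option linter.unusedSectionVars false

open Cfsg
open scoped ComplexConjugate

namespace Cfsg.Agent.H639

open Cfsg.Agent.Blocks.Blau Cfsg.Agent.Blocks.Local Cfsg.Agent.Characters
open Cfsg.Agent.H613.RegGram Cfsg.Agent.H613.Contrib
open Cfsg.Agent.H649 Cfsg.Agent.H651
open Cfsg.Agent.Blocks.Basic (isPBlock_blockOf mem_blockOf_self isPBlock_eq_blockOf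
  isPBlock_eq_of_mem isPBlock_nonempty)

universe u v

variable {G : Type u} [Group G] [Fintype G]
  {p : ℕ} [Fact p.Prime] {M : Ideal AlgInt} [M.IsPrime]
  {B : Set (IrrCharacter G)} {a : BrauerPairIdx G}
  {c : ∀ R : Subgroup G, Set (IrrCharacter (Subgroup.centralizer (R : Set G)))}
  {ζ : Subgroup G → G → ℂ}

/-- Transport of linear characters. -/
def ntMap {G : Type u} [Group G] {H : Type v} [Group H] {P : Subgroup G} {P' : Subgroup H}
    (θ : P' ≃* P) : NT P' ≃ NT P where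
  toFun ν := ⟨ν.1.comp (MulEquiv.toMonoidHom θ.symm), fun h => ν.2 (by
    refine MonoidHom.ext fun x => ?_
    have h1 := congrArg (fun f => f (θ x)) h
    have h2 : ν.1 (θ.symm (θ x)) = 1 := h1
    rwa [MulEquiv.symm_apply_apply] at h2)⟩
  invFun ν := ⟨ν.1.comp (MulEquiv.toMonoidHom θ), fun h => ν.2 (by
    refine MonoidHom.ext fun x => ?_
    have h1 := congrArg (fun f => f (θ.symm x)) h
    have h2 : ν.1 (θ (θ.symm x)) = 1 := h1
    rwa [MulEquiv.apply_symm_apply] at h2)⟩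
  left_inv ν := Subtype.ext (MonoidHom.ext fun x => by
    change ν.1 (θ.symm (θ x)) = ν.1 x
    rw [MulEquiv.symm_apply_apply])
  right_inv ν := Subtype.ext (MonoidHom.ext fun x => by
    change ν.1 (θ (θ.symm x)) = ν.1 x
    rw [MulEquiv.apply_symm_apply])

/-- The signs of the rows which are unit vectors. -/
theorem Full.sign_unit (hF : Full p M B a c ζ) [Fintype B] [Fintype (Orb a)]
    [DecidableEq (Orb a)] {e : ℕ} {α : B → Orb a → ℤ}
    (hα : ∀ (χ : B) (ν : NT a.1), wB p a.1 ζ (χ.1 : G → ℂ) ν.1 = α χ ⟦ν⟧)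
    {E : B ≃ Fin e ⊕ Orb a} {s : B → ℤ} (hs : ∀ χ, s χ = 1 ∨ s χ = -1)
    (hE : ∀ χ i, α χ i = s χ * (E χ).elim (fun _ => 1) (fun j => if i = j then 1 else 0))
    (i j : Orb a) : s (E.symm (Sum.inr i)) = s (E.symm (Sum.inr j)) := by
  classical
  -- orthogonality to the degrees
  have horth : ∀ i : Orb a, ∑ χ : B, (α χ i : ℂ) * (χ.1 : G → ℂ) 1 = 0 := by
    intro i
    induction i using Quotient.inductionOn with | _ ν =>
    have h1 : ∀ χ : B, (α χ ⟦ν⟧ : ℂ) * (χ.1 : G → ℂ) 1 =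
        (Nat.card a.1 : ℂ)⁻¹ * ∑ v : a.1, ((ν.1 v : ℂ) - 1) *
          ((χ.1 : G → ℂ) 1 * conj (AA p a.1 ζ ⊥ (v : G) (χ.1 : G → ℂ))) := by
      intro χ
      have h2 := hα χ ν
      rw [← h2, wB, mul_assoc, Finset.sum_mul]
      congr 1
      refine Finset.sum_congr rfl fun v _ => ?_
      ring
    rw [Finset.sum_congr rfl fun χ _ => h1 χ, ← Finset.mul_sum, Finset.sum_comm]
    rw [Finset.sum_eq_zero, mul_zero]
    intro v _
    rw [← Finset.mul_sum]
    by_cases hv : v = 1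
    · rw [hv, map_one, Units.val_one, sub_self, zero_mul]
    · rw [hF.sum_apply_mul_conj_AA hv (y := 1) (by
        rw [orderOf_one]
        exact (Fact.out : p.Prime).not_dvd_one), mul_zero]
  have hsplit : ∀ i : Orb a, (s (E.symm (Sum.inr i)) : ℂ) *
      ((E.symm (Sum.inr i)).1 : G → ℂ) 1 =
      - ∑ x : Fin e, (s (E.symm (Sum.inl x)) : ℂ) * ((E.symm (Sum.inl x)).1 : G → ℂ) 1 := by
    intro i
    have h1 := horth i
    rw [← Equiv.sum_comp E.symm, Fintype.sum_sum_type] at h1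
    have h2 : ∀ x : Fin e, ((α (E.symm (Sum.inl x)) i : ℤ) : ℂ) *
        ((E.symm (Sum.inl x)).1 : G → ℂ) 1 =
        (s (E.symm (Sum.inl x)) : ℂ) * ((E.symm (Sum.inl x)).1 : G → ℂ) 1 := by
      intro x
      rw [hE, Equiv.apply_symm_apply, Sum.elim_inl, mul_one]
    have h3 : ∀ j : Orb a, ((α (E.symm (Sum.inr j)) i : ℤ) : ℂ) *
        ((E.symm (Sum.inr j)).1 : G → ℂ) 1 =
        if i = j then (s (E.symm (Sum.inr j)) : ℂ) * ((E.symm (Sum.inr j)).1 : G → ℂ) 1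
          else 0 := by
      intro j
      rw [hE, Equiv.apply_symm_apply, Sum.elim_inr]
      split_ifs
      · rw [mul_one]
      · rw [mul_zero, Int.cast_zero, zero_mul]
    rw [Finset.sum_congr rfl fun x _ => h2 x, Finset.sum_congr rfl fun x _ => h3 x,
      Finset.sum_ite_eq, if_pos (Finset.mem_univ _)] at h1
    exact eq_neg_of_add_eq_zero_right h1
  have h1 := (hsplit i).trans (hsplit j).symm
  obtain ⟨n, hn, hn'⟩ := Core.isIrr_apply_one (E.symm (Sum.inr i)).1.2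
  obtain ⟨m, hm, hm'⟩ := Core.isIrr_apply_one (E.symm (Sum.inr j)).1.2
  rw [hn', hm'] at h1
  have h2 : s (E.symm (Sum.inr i)) * n = s (E.symm (Sum.inr j)) * m := by exact_mod_cast h1
  rcases hs (E.symm (Sum.inr i)) with h3 | h3 <;> rcases hs (E.symm (Sum.inr j)) with h4 | h4
  · rw [h3, h4]
  · rw [h3, h4] at h2
    omega
  · rw [h3, h4] at h2
    omega
  · rw [h3, h4]

variable {H : Type v} [Group H] [Fintype H]
  {B' : Set (IrrCharacter H)} {a' : BrauerPairIdx H}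
  {c' : ∀ R : Subgroup H, Set (IrrCharacter (Subgroup.centralizer (R : Set H)))}
  {ζ' : Subgroup H → H → ℂ}

/-- **Existence of the isometry.** -/
theorem exists_match (hF : Full p M B a c ζ) (hF' : Full p M B' a' c' ζ') (θ : a'.1 ≃* a.1)
    (hθ : ∀ τ : MulAut a'.1, MulAut.congr θ τ ∈ inQ a ↔ τ ∈ inQ a')
    (hk : Nat.card B = Nat.card (inQ a) + Nat.card (Orb a))
    (hk' : Nat.card B' = Nat.card (inQ a') + Nat.card (Orb a')) :
    ∃ (I₀ : B' ≃ B) (ε : B' → ℤ), Match p a ζ a' ζ' θ I₀ ε ∧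
      ∀ η η' : B', (∃ u v : a'.1, u ≠ 1 ∧ v ≠ 1 ∧ AA p a'.1 ζ' ⊥ (u : H) (η.1 : H → ℂ) ≠
          AA p a'.1 ζ' ⊥ (v : H) (η.1 : H → ℂ)) →
        (∃ u v : a'.1, u ≠ 1 ∧ v ≠ 1 ∧ AA p a'.1 ζ' ⊥ (u : H) (η'.1 : H → ℂ) ≠
          AA p a'.1 ζ' ⊥ (v : H) (η'.1 : H → ℂ)) → ε η = ε η' := by
  classical
  have hfinG := Core.finite_irr (G := G)
  have hfinH := Core.finite_irr (G := H)
  have : Fintype B := Fintype.ofFinite _
  have : Fintype B' := Fintype.ofFinite _
  have := hF.finite_Orb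
  have := hF'.finite_Orb
  have : Fintype (Orb a) := Fintype.ofFinite _
  have : Fintype (Orb a') := Fintype.ofFinite _
  have := hF.nonempty_Orb
  have := hF'.nonempty_Orb
  obtain ⟨α, hα, hgram, hne⟩ := hF.exists_matrix
  obtain ⟨α', hα', hgram', hne'⟩ := hF'.exists_matrix
  obtain ⟨E, s, hs, hE⟩ := comb_equiv (Nat.card (inQ a)) α hgram hne (by
    rw [← Nat.card_eq_fintype_card, ← Nat.card_eq_fintype_card]; exact hk)
  obtain ⟨E', s', hs', hE'⟩ := comb_equiv (Nat.card (inQ a')) α' hgram' hne' (by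
    rw [← Nat.card_eq_fintype_card, ← Nat.card_eq_fintype_card]; exact hk')
  have hcardQ : Nat.card (inQ a') = Nat.card (inQ a) := by
    refine Nat.card_congr
      { toFun := fun τ => ⟨MulAut.congr θ τ.1, (hθ τ.1).2 τ.2⟩
        invFun := fun τ => ⟨(MulAut.congr θ).symm τ.1, (hθ _).1 (by
          rw [MulEquiv.apply_symm_apply]; exact τ.2)⟩
        left_inv := fun τ => Subtype.ext ((MulAut.congr θ).symm_apply_apply τ.1)
        right_inv := fun τ => Subtype.ext ((MulAut.congr θ).apply_symm_apply τ.1) }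
  let Θ : Orb a' ≃ Orb a := Quotient.congr (ntMap θ) (by
    intro ν μ
    constructor
    · rintro ⟨τ, hτ, h⟩
      refine ⟨MulAut.congr θ τ, (hθ τ).2 hτ, ?_⟩
      refine MonoidHom.ext fun x => ?_
      change ν.1 (θ.symm (θ (τ (θ.symm x)))) = μ.1 (θ.symm x)
      rw [MulEquiv.symm_apply_apply, ← h]
      rfl
    · rintro ⟨τ, hτ, h⟩
      refine ⟨(MulAut.congr θ).symm τ, (hθ _).1 (by
        rw [MulEquiv.apply_symm_apply]; exact hτ), ?_⟩
      refine MonoidHom.ext fun x => ?_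
      have h1 := congrArg (fun f => f (θ x)) h
      have h2 : ν.1 (θ.symm (τ (θ x))) = μ.1 (θ.symm (θ x)) := h1
      rw [MulEquiv.symm_apply_apply] at h2
      exact h2)
  have hΘ : ∀ ν : NT a'.1, Θ ⟦ν⟧ = ⟦ntMap θ ν⟧ := fun ν => rfl
  let F : Fin (Nat.card (inQ a')) ⊕ Orb a' ≃ Fin (Nat.card (inQ a)) ⊕ Orb a :=
    Equiv.sumCongr (finCongr hcardQ) Θ
  let I₀ : B' ≃ B := E'.trans (F.trans E.symm)
  have hEI : ∀ η, E (I₀ η) = F (E' η) := fun η => E.apply_symm_apply _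
  let ε : B' → ℤ := fun η => s (I₀ η) * s' η
  have hε : ∀ η, ε η = 1 ∨ ε η = -1 := by
    intro η
    change s (I₀ η) * s' η = 1 ∨ s (I₀ η) * s' η = -1
    rcases hs (I₀ η) with h1 | h1 <;> rcases hs' η with h2 | h2 <;> rw [h1, h2] <;> simp
  have key : ∀ (η : B') (i : Orb a'), ε η * α (I₀ η) (Θ i) = α' η i := by
    intro η i
    rw [hE, hE', hEI]
    have h1 : ((F (E' η)).elim (fun _ => (1 : ℤ)) (fun j => if Θ i = j then 1 else 0)) =
        (E' η).elim (fun _ => 1) (fun j => if i = j then 1 else 0) := by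
      rcases E' η with x | j
      · rfl
      · change (if Θ i = Θ j then (1 : ℤ) else 0) = if i = j then 1 else 0
        by_cases h : i = j
        · rw [if_pos h, if_pos (congrArg Θ h)]
        · rw [if_neg h, if_neg (fun h' => h (Θ.injective h'))]
    rw [h1]
    change s (I₀ η) * s' η * (s (I₀ η) * _) = _
    have h2 : s (I₀ η) * s (I₀ η) = 1 := by
      rcases hs (I₀ η) with h1 | h1 <;> rw [h1] <;> norm_num
    linear_combination (s' η * (E' η).elim (fun _ => 1) (fun j => if i = j then 1 else 0)) * h2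
  have keyw : ∀ (η : B') (ν : a'.1 →* ℂˣ),
      (ε η : ℂ) * wB p a.1 ζ ((I₀ η).1 : G → ℂ) (ν.comp (MulEquiv.toMonoidHom θ.symm)) =
        wB p a'.1 ζ' (η.1 : H → ℂ) ν := by
    intro η ν
    by_cases hν : ν = 1
    · subst hν
      have h1 : (1 : a'.1 →* ℂˣ).comp (MulEquiv.toMonoidHom θ.symm) = 1 := rfl
      rw [h1, Full.wB_one, Full.wB_one, mul_zero]
    · have h1 := hα (I₀ η) (ntMap θ ⟨ν, hν⟩)
      have h2 := hα' η ⟨ν, hν⟩
      change wB p a.1 ζ ((I₀ η).1 : G → ℂ) (ν.comp (MulEquiv.toMonoidHom θ.symm)) = _ at h1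
      change wB p a'.1 ζ' (η.1 : H → ℂ) ν = _ at h2
      rw [h1, h2, ← hΘ, ← key]
      push_cast
      ring
  refine ⟨I₀, ε, ⟨hε, ?_⟩, ?_⟩
  · intro u hu η
    have hθu : θ u ≠ 1 := fun h => hu ((map_eq_one_iff θ θ.injective).1 h)
    let _ := commGroupOf a'.1 hF'.hs.hab
    have : Finite (a'.1 →* ℂˣ) := finite_dual
    have : Fintype (a'.1 →* ℂˣ) := Fintype.ofFinite _
    let _ := commGroupOf a.1 hF.hs.hab
    have : Finite (a.1 →* ℂˣ) := finite_dual
    have : Fintype (a.1 →* ℂˣ) := Fintype.ofFinite _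
    have h1 := hF.conj_AA_eq_sum ((I₀ η).1 : G → ℂ) hθu
    have h2 := hF'.conj_AA_eq_sum (η.1 : H → ℂ) hu
    have h3 : conj ((ε η : ℂ) * AA p a.1 ζ ⊥ ((θ u : a.1) : G) ((I₀ η).1 : G → ℂ)) =
        conj (AA p a'.1 ζ' ⊥ (u : H) (η.1 : H → ℂ)) := by
      rw [map_mul, h1, h2, map_intCast, Finset.mul_sum]
      let D : (a'.1 →* ℂˣ) ≃ (a.1 →* ℂˣ) :=
        { toFun := fun ν => ν.comp (MulEquiv.toMonoidHom θ.symm)
          invFun := fun ν => ν.comp (MulEquiv.toMonoidHom θ)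
          left_inv := fun ν => MonoidHom.ext fun x => by
            change ν (θ.symm (θ x)) = ν x
            rw [MulEquiv.symm_apply_apply]
          right_inv := fun ν => MonoidHom.ext fun x => by
            change ν (θ (θ.symm x)) = ν x
            rw [MulEquiv.apply_symm_apply] }
      rw [← Equiv.sum_comp D]
      refine Finset.sum_congr rfl fun ν _ => ?_
      rw [← keyw η ν]
      change _ * (conj (ν (θ.symm (θ u)) : ℂ) * wB p a.1 ζ ((I₀ η).1 : G → ℂ)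
        (ν.comp (MulEquiv.toMonoidHom θ.symm))) = _
      rw [MulEquiv.symm_apply_apply]
      ring
    have h4 := congrArg conj h3
    rwa [Complex.conj_conj, Complex.conj_conj] at h4
  · -- signs
    have hinr : ∀ η : B', (∃ u v : a'.1, u ≠ 1 ∧ v ≠ 1 ∧ AA p a'.1 ζ' ⊥ (u : H) (η.1 : H → ℂ) ≠
          AA p a'.1 ζ' ⊥ (v : H) (η.1 : H → ℂ)) → ∃ j, E' η = Sum.inr j := by
      rintro η ⟨u, v, hu, hv, huv⟩
      rcases hη : E' η with x | j
      · exfalso
        apply huv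
        have h1 : ∀ ν : a'.1 →* ℂˣ, ν ≠ 1 → wB p a'.1 ζ' (η.1 : H → ℂ) ν = (s' η : ℂ) := by
          intro ν hν
          have h2 := hα' η ⟨ν, hν⟩
          rw [hE', hη, Sum.elim_inl, mul_one] at h2
          exact h2
        rw [hF'.eq_of_wB_const h1 hu, hF'.eq_of_wB_const h1 hv]
      · exact ⟨j, rfl⟩
    intro η η' h h'
    obtain ⟨j, hj⟩ := hinr η h
    obtain ⟨j', hj'⟩ := hinr η' h'
    have h1 : s' η = s' η' := by
      have h2 := hF'.sign_unit hα' hs' hE' j j'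
      rwa [← hj, ← hj', Equiv.symm_apply_apply, Equiv.symm_apply_apply] at h2
    have h2 : s (I₀ η) = s (I₀ η') := by
      have h3 := hF.sign_unit hα hs hE (Θ j) (Θ j')
      have h4 : E (I₀ η) = Sum.inr (Θ j) := by
        rw [hEI, hj]
        rfl
      have h5 : E (I₀ η') = Sum.inr (Θ j') := by
        rw [hEI, hj']
        rfl
      rwa [← h4, ← h5, Equiv.symm_apply_apply, Equiv.symm_apply_apply] at h3
    change s (I₀ η) * s' η = s (I₀ η') * s' η'
    rw [h1, h2]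

/-- **Perfect isometries.** -/
theorem exists_isPerfectIsometry (hF : Full p M B a c ζ) (hF' : Full p M B' a' c' ζ')
    (θ : a'.1 ≃* a.1)
    (hθ : ∀ τ : MulAut a'.1, MulAut.congr θ τ ∈ inQ a ↔ τ ∈ inQ a')
    (hk : Nat.card B = Nat.card (inQ a) + Nat.card (Orb a))
    (hk' : Nat.card B' = Nat.card (inQ a') + Nat.card (Orb a')) :
    ∃ (I : IrrCharacter H → IrrCharacter G) (ε : IrrCharacter H → ℤ),
      IsPerfectIsometry p M B' B I ε ∧
      ∀ η ∈ B', ∀ η' ∈ B', (∃ u v : a'.1, u ≠ 1 ∧ v ≠ 1 ∧ AA p a'.1 ζ' ⊥ (u : H) (η : H → ℂ) ≠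
          AA p a'.1 ζ' ⊥ (v : H) (η : H → ℂ)) →
        (∃ u v : a'.1, u ≠ 1 ∧ v ≠ 1 ∧ AA p a'.1 ζ' ⊥ (u : H) (η' : H → ℂ) ≠
          AA p a'.1 ζ' ⊥ (v : H) (η' : H → ℂ)) → ε η = ε η' := by
  classical
  have hfinG := Core.finite_irr (G := G)
  have hfinH := Core.finite_irr (G := H)
  have : Fintype B := Fintype.ofFinite _
  have : Fintype B' := Fintype.ofFinite _
  obtain ⟨I₀, ε, hm, hsgn⟩ := exists_match hF hF' θ hθ hk hk'
  obtain ⟨χ₀, -⟩ := isPBlock_nonempty hF.hs.isPBlock_B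
  let I : IrrCharacter H → IrrCharacter G := fun η => if h : η ∈ B' then (I₀ ⟨η, h⟩).1 else χ₀
  let ε' : IrrCharacter H → ℤ := fun η => if h : η ∈ B' then ε ⟨η, h⟩ else 1
  have hI : ∀ η : B', I η.1 = (I₀ η).1 := fun η => dif_pos η.2
  have hε' : ∀ η : B', ε' η.1 = ε η := fun η => dif_pos η.2
  refine ⟨I, ε', ⟨⟨?_, ?_, ?_⟩, ?_, ?_⟩, ?_⟩
  · intro η hη
    rw [hI ⟨η, hη⟩]
    exact (I₀ ⟨η, hη⟩).2
  · intro η hη η' hη' h
    rw [hI ⟨η, hη⟩, hI ⟨η', hη'⟩] at h
    exact congrArg Subtype.val (I₀.injective (Subtype.ext h))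
  · intro χ hχ
    refine ⟨(I₀.symm ⟨χ, hχ⟩).1, (I₀.symm ⟨χ, hχ⟩).2, ?_⟩
    rw [hI, Equiv.apply_symm_apply]
  · intro η hη
    rw [hε' ⟨η, hη⟩]
    exact hm.1 _
  · have h1 : signedBijectionKernel B' I ε' = ker' (G := G) I₀ ε := by
      funext x y
      rw [ker'_def, signedBijectionKernel, finsum_mem_eq_toFinset_sum]
      rw [Finset.sum_subtype B'.toFinset (p := fun x => x ∈ B') (fun x => Set.mem_toFinset)]
      refine Finset.sum_congr rfl fun η _ => ?_
      rw [hI, hε']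
    rw [h1]
    exact isPerfectFun_ker' hF hF' hm
  · intro η hη η' hη' h h'
    rw [hε' ⟨η, hη⟩, hε' ⟨η', hη'⟩]
    exact hsgn ⟨η, hη⟩ ⟨η', hη'⟩ h h'

end Cfsg.Agent.H639
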