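import Cfsg.Agent.H162.CC.Iface
import Cfsg.Agent.H533.Comm.Defs
import Cfsg.Agent.H201.CommAlt

/-!
# S3828: the two forms of the rows are equivalent; the alternating row

`H162.CCR.CRow p G` (helper162) and `H533.Comm.CRow p G` (helper533) say the same.
-/

set_option autoImplicit false

namespace Cfsg.Agent.H639.CRowBridge

universe u

open Cfsg

variable {G : Type u} [Group G] {p : ℕ}

theorem min_of_iso {C : Set G} (h : H533.Comm.Iso p G C) : H162.CCR.Min p C where
  conj := h.conj
  pel := h.pel
  comm := h.comm
  sq := h.sq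
  loc := fun H hH c hc hcH => h.core H hH c hcH hc

theorem iso_of_min {C : Set G} (h : H162.CCR.Min p C) {c : G} (hc : c ∈ C) (hc1 : c ≠ 1) :
    H533.Comm.Iso p G C where
  conj := h.conj
  pel := h.pel
  comm := h.comm
  sq := h.sq
  ne := ⟨c, hc, hc1⟩
  core := fun H hH c hcH hc => h.loc H hH c hc hcH

/-- rows in the sense of helper533 give rows in the sense of helper162 -/
theorem crow_of_comm (h : H533.Comm.CRow p G) : H162.CCR.CRow p G := by
  intro C hC c hc
  by_contra hc1
  exact h C (iso_of_min hC hc hc1)

/-- rows in the sense of helper162 give rows in the sense of helper533 -/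
theorem comm_of_crow (h : H162.CCR.CRow p G) : H533.Comm.CRow p G := by
  intro C hC
  obtain ⟨c, hc, hc1⟩ := hC.ne
  exact hc1 (h C (min_of_iso hC) c hc)

/-- **The alternating row of S3828** (the proof is helper201's). -/
theorem crow_alt {n : ℕ} (hn : 5 ≤ n) (p : ℕ) [Fact p.Prime] :
    H162.CCR.CRow p ↥(alternatingGroup (Fin n)) :=
  crow_of_comm (H201.CommAlt.crow_alt hn)

end Cfsg.Agent.H639.CRowBridge
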