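import Mathlib
import Cfsg.Agent.H639.Sub
import Cfsg.Agent.H639.Small3
import Cfsg.Agent.H641.CycNil
import Cfsg.Agent.H608.PerfComp

/-!
# Perfect isometries for cyclic defect groups
-/

set_option autoImplicit false
set_option linter.unusedSectionVars false

open Cfsg
open scoped ComplexConjugate

namespace Cfsg.Agent.H639

open Cfsg.Agent.Blocks.Local Cfsg.Agent.Characters
open Cfsg.Agent.H649 Cfsg.Agent.H651

universe u

variable {G : Type u} [Group G] [Fintype G] {p : ℕ} [Fact p.Prime] {M : Ideal AlgInt} [M.IsPrime]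
  {B : Set (IrrCharacter G)} {P : Subgroup G}

theorem comm_of_isCyclic (hcyc : IsCyclic P) : ∀ x ∈ P, ∀ y ∈ P, x * y = y * x := by
  intro x hx y hy
  have h := (IsCyclic.isMulCommutative (α := P)).is_comm
  exact congrArg Subtype.val (h.comm (⟨x, hx⟩ : P) ⟨y, hy⟩)

/-- The setting for cyclic defect groups. -/
theorem cyc_full (hM : IsPModular p M) (hPD : IsDefectGroup p M B P) (hP1 : P ≠ ⊥)
    (hcyc : IsCyclic P) {c : Set (IrrCharacter (Subgroup.centralizer (P : Set G)))}
    (hc : IsInducedBlock M (Subgroup.centralizer (P : Set G)) c B) :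
    ∃ (c' : ∀ R : Subgroup G, Set (IrrCharacter (Subgroup.centralizer (R : Set G))))
      (ζ : Subgroup G → G → ℂ), Full p M B ⟨P, c⟩ c' ζ ∧
      Nat.card B = Nat.card (inQ (⟨P, c⟩ : BrauerPairIdx G)) +
        Nat.card (Orb (⟨P, c⟩ : BrauerPairIdx G)) := by
  have hab := comm_of_isCyclic hcyc
  have hT : ∀ g : G, g ∈ stabT (⟨P, c⟩ : BrauerPairIdx G) ↔
      (g ∈ Subgroup.normalizer (P : Set G) ∧
      StabilizesBlock (Subgroup.centralizer (P : Set G)) c g) := fun g => mem_stabT_iff hM hc.1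
  have h1 := not_dvd_relIndex' hM hPD hab hc hT
  have hPG : IsPGroup p P := Cfsg.Agent.H641.isPGroup_of_isDefectGroup hPD
  obtain ⟨c', ζ, hF⟩ := exists_full hM hPD hP1 hab hc (fun g hg hg' x hx hx1 hgx =>
    Cfsg.Agent.H641.mem_centralizer_of_relIndex (Fact.out : p.Prime) hPG hcyc
      (T := stabT (⟨P, c⟩ : BrauerPairIdx G)) (fun t ht => ((hT t).1 ht).1)
      (fun t ht => (hT t).2 ⟨Subgroup.centralizer_le_normalizer _ ht, stabilizesBlock_of_mem c ht⟩)
      h1 ((hT g).2 ⟨hg, hg'⟩) hx hx1 hgx)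
  exact ⟨c', ζ, hF, hF.card_eq_of_isCyclic hcyc⟩

theorem cyc_pi (hM : IsPModular p M) {T : Subgroup G} [Fintype T] (hPT : P ≤ T)
    (hN : Subgroup.normalizer (P : Set G) ≤ T) (hPD : IsDefectGroup p M B P) (hP1 : P ≠ ⊥)
    (hcyc : IsCyclic P) {b : Set (IrrCharacter T)}
    (hbD : IsDefectGroup p M b (P.subgroupOf T)) (hb : IsInducedBlock M T b B) :
    ∃ (I : IrrCharacter T → IrrCharacter G) (ε : IrrCharacter T → ℤ),
      IsPerfectIsometry p M b B I ε := by
  obtain ⟨P', rfl⟩ : ∃ P' : Subgroup T, P'.map T.subtype = P :=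
    ⟨P.subgroupOf T, Subgroup.map_subgroupOf_eq_of_le hPT⟩
  have hP' : (P'.map T.subtype).subgroupOf T = P' :=
    Subgroup.comap_map_eq_self_of_injective T.subtype_injective P'
  rw [hP'] at hbD
  have hcyc' : IsCyclic P' :=
    (Subgroup.equivMapOfInjective P' T.subtype T.subtype_injective).isCyclic.2 hcyc
  have hP1' : P' ≠ ⊥ := by
    rintro rfl
    exact hP1 (Subgroup.map_bot _)
  exact exists_isPerfectIsometry_sub hM hN hbD hb
    (fun f hf => cyc_full hM hPD hP1 hcyc hf) (fun f hf => cyc_full hM hbD hP1' hcyc' hf)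

end Cfsg.Agent.H639
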