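import Mathlib
import Cfsg.Agent.H645.FT.Defs
import Cfsg.Agent.S4528
import Cfsg.Agent.S4529
import Cfsg.Agent.S4530
import Cfsg.Agent.S4677
import Cfsg.Agent.S4686
import Cfsg.Agent.S5212
import Cfsg.Agent.H617.SmallRank
import Cfsg.Agent.H617.AbelRank
import Cfsg.Agent.H617.StarAut

/-!
# Defect groups with a cyclic subgroup of index at most `2` (for S4544)

`rank_le_three`: the rank is at most `3`.
-/

set_option autoImplicit false

open Cfsg Cfsg.FusionSystem Cfsg.Agent.H645.FT

namespace Cfsg.Agent.H639.FTA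

/-- Cyclic defect groups, `p = 2`. -/
theorem rank_one_of_isCyclic {G : Type*} [Group G] [Finite G] {M : Ideal AlgInt}
    (hM : IsPModular 2 M) {B : Set (IrrCharacter G)} {a : BrauerPairIdx G}
    (hmax : IsMaximalBrauerPair 2 M B a.1 a.2) (hcyc : IsCyclic a.1) : blockRank 2 B = 1 := by
  have hp : Fact (Nat.Prime 2) := ⟨Nat.prime_two⟩
  have := Cfsg.Agent.Blocks.Local.isPrime_of_isPModular hM
  have := Fintype.ofFinite G
  have hab : ∀ x ∈ a.1, ∀ y ∈ a.1, x * y = y * x := by
    intro x hx y hy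
    have h := (IsCyclic.isMulCommutative (α := a.1)).is_comm
    exact congrArg Subtype.val (h.comm (⟨x, hx⟩ : a.1) ⟨y, hy⟩)
  have h1 := H645.TraceForm.not_dvd_relIndex_stab hM hmax hab
  have h2 := H617.StarAut.card_autG hM hmax hab
  have h3 : Nat.card (H617.StarAut.autG a) ∣ Nat.card (MulAut a.1) :=
    Subgroup.card_subgroup_dvd_card _
  obtain ⟨n, hn⟩ := (IsPGroup.iff_card).1 hmax.1.1.1
  have h4 : ∃ k, Nat.card (MulAut a.1) = 2 ^ k := by
    rw [Nat.card_congr (IsCyclic.mulAutMulEquiv a.1).toEquiv, hn]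
    have : NeZero (2 ^ n) := ⟨by positivity⟩
    rw [Nat.card_eq_fintype_card, ZMod.card_units_eq_totient]
    rcases Nat.eq_zero_or_pos n with h0 | h0
    · exact ⟨0, by rw [h0]; rfl⟩
    · exact ⟨n - 1, by rw [Nat.totient_prime_pow Nat.prime_two h0]; simp⟩
  obtain ⟨k, hk⟩ := h4
  rw [h2, hk] at h3
  obtain ⟨j, -, hj⟩ := (Nat.dvd_prime_pow Nat.prime_two).1 h3
  have h5 : (Subgroup.centralizer (a.1 : Set G)).relIndex (H645.FusCount.stab a) = 1 := by
    rcases Nat.eq_zero_or_pos j with h0 | h0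
    · rw [hj, h0, pow_zero]
    · exact absurd (by rw [hj]; exact dvd_pow_self 2 h0.ne') h1
  refine H617.AbelRank.rank_one hM hmax hab fun t ht x hx => ?_
  have h6 := Subgroup.relIndex_eq_one.1 h5 ht
  rw [← Subgroup.mem_centralizer_iff.1 h6 x hx]
  group

theorem isMetacyclic {D : Type*} [Group D] (C : Subgroup D) [Finite D] (hcyc : IsCyclic C)
    (hidx : C.index ≤ 2) : IsMetacyclic D := by
  have hpos : 0 < C.index := Nat.pos_of_ne_zero Subgroup.index_ne_zero_of_finite
  have hN : C.Normal := by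
    rcases Nat.lt_or_ge C.index 2 with h | h
    · have h1 : C = ⊤ := Subgroup.index_eq_one.1 (by omega)
      rw [h1]; infer_instance
    · exact Subgroup.normal_of_index_eq_two (by omega)
  refine ⟨C, hN, hcyc, ?_⟩
  have h1 : Nat.card (D ⧸ C) = C.index := (Subgroup.index_eq_card C).symm
  rcases Nat.lt_or_ge C.index 2 with h | h
  · have h2 : Nat.card (D ⧸ C) = 1 := by omega
    have := (Nat.card_eq_one_iff_unique.1 h2).1
    exact isCyclic_of_subsingleton
  · have hp : Fact (Nat.Prime 2) := ⟨Nat.prime_two⟩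
    exact isCyclic_of_prime_card (p := 2) (by omega)

theorem isCyclic_of_homocyclic {D : Type*} [Group D] [Finite D] {d n k : ℕ} (hd : 3 ≤ d)
    (hcard : Nat.card D = 2 ^ d) (C : Subgroup D) (hcyc : IsCyclic C) (hidx : C.index ≤ 2)
    (e : D ≃* Multiplicative (Fin k → ZMod (2 ^ n))) : IsCyclic D := by
  have hc1 : Nat.card D = 2 ^ (n * k) := by
    rw [Nat.card_congr e.toEquiv]
    change Nat.card (Fin k → ZMod (2 ^ n)) = _
    rw [Nat.card_fun, Nat.card_zmod, Nat.card_fin, ← pow_mul]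
  have hdk : d = n * k := Nat.pow_right_injective le_rfl (hcard.symm.trans hc1)
  -- a generator of `C`
  obtain ⟨⟨c, hc⟩, hgen⟩ := hcyc.exists_generator
  have hord : orderOf c = Nat.card C := by
    rw [← orderOf_eq_card_of_forall_mem_zpowers hgen, Subgroup.orderOf_mk]
  have hexp : c ^ (2 ^ n) = 1 := by
    apply e.injective
    rw [map_pow, map_one]
    change Multiplicative.ofAdd ((2 ^ n) • (Multiplicative.toAdd (e c))) = 1
    have : (2 ^ n) • (Multiplicative.toAdd (e c)) = 0 := by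
      funext i
      rw [Pi.smul_apply, Pi.zero_apply, nsmul_eq_mul]
      rw [Nat.cast_pow, Nat.cast_ofNat]
      have h : ((2 ^ n : ℕ) : ZMod (2 ^ n)) = 0 := ZMod.natCast_self _
      rw [Nat.cast_pow, Nat.cast_ofNat] at h
      rw [h, zero_mul]
    rw [this]
    rfl
  have h1 : orderOf c ≤ 2 ^ n := Nat.le_of_dvd (by positivity) (orderOf_dvd_of_pow_eq_one hexp)
  have h2 := C.card_mul_index
  have h3 : 2 ^ d ≤ 2 ^ (n + 1) := by
    rw [← hcard, ← h2, ← hord, pow_succ]
    exact Nat.mul_le_mul h1 hidx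
  have h4 : d ≤ n + 1 := (Nat.pow_le_pow_iff_right (by norm_num)).1 h3
  have hk : k = 1 := by
    rcases Nat.lt_or_ge k 2 with h | h
    · interval_cases k
      · omega
      · rfl
    · exfalso
      have h5 : n * 2 ≤ n * k := Nat.mul_le_mul_left n h
      omega
  subst hk
  have h5 : IsCyclic (Multiplicative (Fin 1 → ZMod (2 ^ n))) := by
    have e2 : (Fin 1 → ZMod (2 ^ n)) ≃+ ZMod (2 ^ n) := AddEquiv.funUnique (Fin 1) (ZMod (2 ^ n))
    exact (AddEquiv.toMultiplicative e2).isCyclic.2 inferInstance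
  exact e.isCyclic.2 h5

theorem rank_le_three {G : Type*} [Group G] [Finite G] {M : Ideal AlgInt} (hM : IsPModular 2 M)
    {B : Set (IrrCharacter G)} (hB : IsPBlock M B) {D : Subgroup G} (hD : IsDefectGroup 2 M B D)
    (C : Subgroup G) (hCD : C ≤ D) (hcyc : IsCyclic C) (hidx : C.relIndex D ≤ 2) :
    blockRank 2 B ≤ 3 := by
  have hp : Fact (Nat.Prime 2) := ⟨Nat.prime_two⟩
  have := Cfsg.Agent.Blocks.Local.isPrime_of_isPModular hM
  have := Fintype.ofFinite G
  have hcard : Nat.card D = 2 ^ blockDefect 2 B := S0908.result 2 M hM B hB D hD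
  by_cases hsmall : blockDefect 2 B ≤ 2
  · exact H617.SmallRank.blockRank_le_three hM hB hsmall
  push Not at hsmall
  set d := blockDefect 2 B with hd
  obtain ⟨f, hf⟩ := Cfsg.Agent.H649.exists_pair_of_isDefectGroup hM hB hD
  have hmax := Cfsg.Agent.H644.isMaximalBrauerPair_of_isDefectGroup hM hf hD
  obtain ⟨F, hF, hsat⟩ := S4677.result 2 M hM B D f hmax
  have hP : IsPGroup 2 D := IsPGroup.of_card hcard
  -- the cyclic subgroup inside `D`
  have hcyc' : IsCyclic (C.subgroupOf D) :=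
    (Subgroup.subgroupOfEquivOfLe hCD).isCyclic.2 hcyc
  have hidx' : (C.subgroupOf D).index ≤ 2 := hidx
  have hmeta := isMetacyclic (C.subgroupOf D) hcyc' hidx'
  by_cases hdi : ∃ m : ℕ, Nonempty (D ≃* DihedralGroup m)
  · obtain ⟨m, ⟨e⟩⟩ := hdi
    have h2 := Nat.card_congr e.toEquiv
    rw [hcard, DihedralGroup.nat_card] at h2
    obtain ⟨j, hj⟩ : ∃ j, d = j + 1 := ⟨d - 1, by omega⟩
    have h3 : m = 2 ^ (d - 1) := by
      rw [hj, pow_succ] at h2
      rw [hj, Nat.add_sub_cancel]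
      omega
    subst h3
    exact (S4528.result M hM B hB D hD d hsmall ⟨e⟩).2.2.1
  by_cases hq : ∃ m : ℕ, Nonempty (D ≃* QuaternionGroup m)
  · obtain ⟨m, ⟨e⟩⟩ := hq
    have h2 := Nat.card_congr e.toEquiv
    have hm0 : m ≠ 0 := by
      rintro rfl
      have h3 : Finite (QuaternionGroup 0) := Finite.of_equiv D e.toEquiv
      have h4 : Infinite (QuaternionGroup 0) := by
        refine Infinite.of_injective (fun i : ℤ => (QuaternionGroup.a (i : ZMod (2 * 0)) :
          QuaternionGroup 0)) ?_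
        intro i j hij
        have h5 := QuaternionGroup.a.inj hij
        change (Int.cast i : ℤ) = (Int.cast j : ℤ) at h5
        simpa using h5
      exact not_finite (QuaternionGroup 0)
    have : NeZero m := ⟨hm0⟩
    rw [hcard, Nat.card_eq_fintype_card, QuaternionGroup.card] at h2
    obtain ⟨j, hj⟩ : ∃ j, d = j + 2 := ⟨d - 2, by omega⟩
    have h3 : m = 2 ^ (d - 2) := by
      rw [hj, pow_add] at h2
      rw [hj, Nat.add_sub_cancel]
      omega
    subst h3
    exact (S4530.result M hM B hB D hD d hsmall ⟨e⟩).2.1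
  by_cases hsd : IsQuasiDihedral D
  · have h4 : 4 ≤ d := by
      obtain ⟨n, hn, hcn, -⟩ := hsd
      rw [hcard] at hcn
      have := Nat.pow_right_injective le_rfl hcn
      omega
    exact (S4529.result M hM B hB D hD d h4 hcard hsd).2.2.1
  by_cases hh : ∃ n k : ℕ, Nonempty (D ≃* Multiplicative (Fin k → ZMod (2 ^ n)))
  · obtain ⟨n, k, ⟨e⟩⟩ := hh
    have hc : IsCyclic D := isCyclic_of_homocyclic hsmall hcard _ hcyc' hidx' e
    rw [rank_one_of_isCyclic (a := ⟨D, f⟩) hM hmax hc]
    norm_num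
  · have hinner := S5212.result hP F hsat hmeta hh hdi hq hsd
    have hnil := (S4686.result 2 M hM B D f hmax F hF).2 hinner
    rw [H613.NilRank.rank_one hM hnil]
    norm_num

end Cfsg.Agent.H639.FTA
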