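import Cfsg.Agent.H850.KKL.Loc
import Cfsg.Agent.H850.KKL.Comb
import Cfsg.Agent.H624.MajVal

/-!
# S4546: the rows of a 2-block of defect `2^3`, inertial index divisible by three (for helper850)

* `wt_unit`: `b` a block of `H = C_G(v)`, `v` a `p`-element, `b` induces `B`, same defect `d`, `η ∈ b` of height zero,
  `χ ∈ B` of height `h`: `p ^ d * wt χ η / p ^ h` is a local unit.
* `rows`: the three integral rows attached to the local data `Loc`.
-/

set_option autoImplicit false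

open Cfsg
open scoped ComplexConjugate

namespace Cfsg.Agent.H639.KKLRows

open Cfsg.Agent.Blocks.Local Cfsg.Agent.Blocks.Blau Cfsg.Agent.Characters
open Cfsg.Agent.H613.RegGram Cfsg.Agent.H613.Contrib Cfsg.Agent.H613.ContribVal
open Cfsg.Agent.H850.KKL

section unit

variable {G : Type*} [Group G] [Fintype G] {p : ℕ} [Fact p.Prime] {M : Ideal AlgInt} {u : G} {H : Subgroup G}
  [Fintype H] {B : Set (IrrCharacter G)} {b : Set (IrrCharacter H)}

/-- `|G| wt χ η / χ 1` modulo the local ideal does not depend on `χ` in its block. -/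
theorem memLocalIdeal_card_mul_wt_sub (hM : IsPModular p M) {v : G} (hv : ∃ i : ℕ, orderOf v = p ^ i)
    (hH : H = Subgroup.centralizer ({v} : Set G)) {χ χ' : IrrCharacter G}
    (h : SameBlock M (χ : G → ℂ) (χ' : G → ℂ)) (η : IrrCharacter H) :
    MemLocalIdeal M ((Nat.card G : ℂ) * wt p v (χ : G → ℂ) (η : H → ℂ) / (χ : G → ℂ) 1 -
      (Nat.card G : ℂ) * wt p v (χ' : G → ℂ) (η : H → ℂ) / (χ' : G → ℂ) 1) := by
  have := isPrime_of_isPModular hM
  have hHc : (Nat.card H : ℂ) ≠ 0 := by exact_mod_cast Nat.card_pos.ne'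
  obtain ⟨F, hF, hFint, hFsum⟩ := Cfsg.Agent.H624.MajVal.exists_section (p := p) hM hv hH
    (s := fun y => conj (regPart p (η : H → ℂ) y)) (fun g h => by
      show conj _ = conj _
      rw [regPart_isClassFunction (Core.isIrr_isClassFunction η.2) g h]) (fun y hy => by
      show conj _ = _
      rw [regPart_of_dvd hy, map_zero]) (fun y => by
      refine isIntegral_conj ?_
      unfold regPart
      split
      · exact isIntegral_zero
      · exact isIntegral_of_isCharacter (Core.isIrr_isCharacter η.2) y)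
  have key : ∀ χ : IrrCharacter G, ∑ g : G, F g * ((χ : G → ℂ) g / (χ : G → ℂ) 1) =
      (Nat.card G : ℂ) * wt p v (χ : G → ℂ) (η : H → ℂ) / (χ : G → ℂ) 1 := by
    intro χ
    have h1 := hFsum _ (Core.isIrr_isClassFunction χ.2)
    have h2 : ∑ g : G, F g * ((χ : G → ℂ) g / (χ : G → ℂ) 1) =
        (∑ g : G, F g * (χ : G → ℂ) g) / (χ : G → ℂ) 1 := by
      rw [Finset.sum_div]
      exact Finset.sum_congr rfl fun g _ => by rw [mul_div_assoc]
    have h3 : ∑ y : H, conj (regPart p (η : H → ℂ) y) * (χ : G → ℂ) (v * (y : G)) =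
        (Nat.card H : ℂ) * wt p v (χ : G → ℂ) (η : H → ℂ) := by
      rw [wt_def, rg_def, pair_def, mul_inv_cancel_left₀ hHc]
      refine Finset.sum_congr rfl fun y _ => ?_
      by_cases hy : p ∣ orderOf y
      · rw [regPart_of_dvd hy, regPart_of_dvd hy]
        simp
      · rw [regPart_of_not_dvd hy, regPart_of_not_dvd hy]
    rw [h2, h1, h3]
    congr 1
    field_simp
  rw [← key χ, ← key χ']
  exact Cfsg.Agent.Blocks.ClassSum.memLocalIdeal_of_sameBlock (Core.isIrr_isClassFunction χ.2)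
    (Core.isIrr_isClassFunction χ'.2) h hF fun g => memLocalRing_of_isIntegral (hFint g)

variable [Fintype (IrrCharacter H)] {n : IrrCharacter G → IrrCharacter H → ℕ} {e : IrrCharacter H → ℂ} {j : ℕ}

theorem wt_unit [Fintype b] (hM : IsPModular p M) (hE : Exp u H (p ^ j) n e) (hu : ∃ i : ℕ, orderOf u = p ^ i)
    (hH : H = Subgroup.centralizer ({u} : Set G)) (hind : IsInducedBlock M H b B)
    (hd : blockDefect p b = blockDefect p B) {χ : IrrCharacter G} (hχ : χ ∈ B) {η : IrrCharacter H} (hη : η ∈ b)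
    (hη0 : blockHeight p b (η : H → ℂ) = 0) :
    MemLocalRing M ((p : ℂ) ^ blockDefect p B * wt p u (χ : G → ℂ) (η : H → ℂ) /
      (p : ℂ) ^ blockHeight p B (χ : G → ℂ)) ∧
    ¬ MemLocalIdeal M ((p : ℂ) ^ blockDefect p B * wt p u (χ : G → ℂ) (η : H → ℂ) /
      (p : ℂ) ^ blockHeight p B (χ : G → ℂ)) := by
  have := isPrime_of_isPModular hM
  obtain ⟨χ₀, hχ₀, hχ₀0⟩ := exists_blockHeight_eq_zero p (isPBlock_nonempty hM hind.2.1)
  have hp0 : (p : ℂ) ≠ 0 := by exact_mod_cast hM.1.ne_zero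
  have hχ1 := apply_one_ne_zero χ₀
  have hG : (Nat.card G : ℂ) ≠ 0 := by exact_mod_cast Nat.card_pos.ne'
  have e1 : (p : ℂ) ^ blockDefect p B * wt p u (χ : G → ℂ) (η : H → ℂ) / (p : ℂ) ^ blockHeight p B (χ : G → ℂ) =
      ((p : ℂ) ^ blockDefect p B * (χ : G → ℂ) 1 /
        ((Nat.card G : ℂ) * (p : ℂ) ^ blockHeight p B (χ : G → ℂ))) *
      ((Nat.card G : ℂ) * wt p u (χ : G → ℂ) (η : H → ℂ) / (χ : G → ℂ) 1) := by
    have hχ1 := apply_one_ne_zero χ
    field_simp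
  -- the character of height zero
  have h1 := memLocalIdeal_wt_sub hM hE hind.1 hη hη0 χ₀ 1 hη
  rw [pow_one, div_self (apply_one_ne_zero η), mul_one, hd] at h1
  have h2 : MemLocalRing M ((p : ℂ) ^ blockDefect p B * rg p (η : H → ℂ) (η : H → ℂ)) := by
    rw [← hd]
    exact memLocalRing_pow_mul_rg hM hη (Core.isIrr_isCharacter η.2)
  have h3 : ¬ MemLocalIdeal M ((p : ℂ) ^ blockDefect p B * rg p (η : H → ℂ) (η : H → ℂ)) := by
    rw [← hd]
    exact not_memLocalIdeal_rg_self hM hind.1 hη hη0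
  have h4 : MemLocalRing M ((p : ℂ) ^ blockDefect p B * wt p u (χ₀ : G → ℂ) (η : H → ℂ)) := by
    rw [memLocalRing_iff_of_sub h1]
    exact memLocalRing_mul h2 (memLocalRing_dg hM hη0 χ₀)
  have h5 : ¬ MemLocalIdeal M ((p : ℂ) ^ blockDefect p B * wt p u (χ₀ : G → ℂ) (η : H → ℂ)) := by
    rw [memLocalIdeal_iff_of_sub h1]
    intro h
    rcases memLocalIdeal_or_of_mul h2 (memLocalRing_dg hM hη0 χ₀) h with h | h
    · exact h3 h
    · exact not_memLocalIdeal_dg hM hE hind hη hη0 hχ₀ hχ₀0 h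
  have hsub := memLocalIdeal_card_mul_wt_sub hM hu hH (sameBlock_of_mem hM hind.2.1 hχ hχ₀) η
  have h6 : MemLocalRing M ((Nat.card G : ℂ) * wt p u (χ₀ : G → ℂ) (η : H → ℂ) / (χ₀ : G → ℂ) 1) := by
    have h := memLocalRing_mul (memLocalRing_card_div_defect hM hχ₀ hχ₀0) h4
    convert h using 1
    field_simp
  have h7 : ¬ MemLocalIdeal M ((Nat.card G : ℂ) * wt p u (χ₀ : G → ℂ) (η : H → ℂ) / (χ₀ : G → ℂ) 1) := by
    intro h
    apply h5
    have h8 := memLocalIdeal_mul_left (memLocalRing_defect_mul_div hM hχ₀) h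
    convert h8 using 1
    field_simp
  rw [e1]
  refine ⟨memLocalRing_mul (Cfsg.Agent.H624.MajVal.unit_factor hM hχ).1 ((memLocalRing_iff_of_sub hsub).2 h6),
    fun h => ?_⟩
  rcases memLocalIdeal_or_of_mul (Cfsg.Agent.H624.MajVal.unit_factor hM hχ).1
    ((memLocalRing_iff_of_sub hsub).2 h6) h with h8 | h8
  · exact (Cfsg.Agent.H624.MajVal.unit_factor hM hχ).2 h8
  · exact h7 ((memLocalIdeal_iff_of_sub hsub).1 h8)

end unit

/-- An integer `w` such that `w / 2 ^ h` is a local unit. -/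
theorem v2_of_unit {M : Ideal AlgInt} (hM : IsPModular 2 M) {h : ℕ} {w : ℤ}
    (h1 : MemLocalRing M ((w : ℂ) / (2 : ℂ) ^ h)) (h2 : ¬ MemLocalIdeal M ((w : ℂ) / (2 : ℂ) ^ h)) : V2 h w := by
  have := isPrime_of_isPModular hM
  refine ⟨?_, fun hd => h2 ?_⟩
  · exact_mod_cast pow_dvd_of_memLocalRing (p := 2) hM h (k := w) (by exact_mod_cast h1)
  · obtain ⟨k, rfl⟩ := hd
    have e1 : (((2 : ℤ) ^ (h + 1) * k : ℤ) : ℂ) / (2 : ℂ) ^ h = ((2 * k : ℤ) : ℂ) := by
      push_cast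
      rw [pow_succ]
      field_simp
    rw [e1]
    exact (memLocalIdeal_intCast_iff (p := 2) hM _).2 (by simp)

theorem rows {G : Type*} [Group G] [Fintype G] {M : Ideal AlgInt} (hM : IsPModular 2 M) {B : Set (IrrCharacter G)}
    [Fintype B] {u : G} {H : Subgroup G} [Fintype H] {f : Set (IrrCharacter H)} {ψ : Fin 4 → IrrCharacter H}
    {ε : Fin 4 → ℤ} (L : Loc M B u H f ψ ε) :
    ∃ μ : B → Fin 4 → ℤ, (∀ (χ : B) (i : Fin 4), 8 * (ε i : ℂ) * wt 2 u ((χ : IrrCharacter G) : G → ℂ)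
        (ψ i : H → ℂ) = ((4 * μ χ i - ∑ l, μ χ l : ℤ) : ℂ)) ∧
      Rows (fun χ => μ χ 0 - μ χ 3) (fun χ => μ χ 1 - μ χ 3) (fun χ => μ χ 2 - μ χ 3)
        (fun χ : B => blockHeight 2 B ((χ : IrrCharacter G) : G → ℂ)) := by
  classical
  haveI : Fact (Nat.Prime 2) := ⟨Nat.prime_two⟩
  have := isPrime_of_isPModular hM
  have := Core.finite_irr (G := H)
  have := Fintype.ofFinite (IrrCharacter H)
  have : Fintype f := Fintype.ofFinite f
  have hε : ∀ i, (ε i : ℤ) * ε i = 1 := by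
    intro i
    rcases L.sign i with h | h <;> rw [h] <;> norm_num
  have hεc : ∀ i, (ε i : ℂ) * (ε i : ℂ) = 1 := fun i => by exact_mod_cast hε i
  have hu2 : u ^ 2 = 1 := by rw [pow_two]; exact L.inv
  have hord : orderOf u = 2 := orderOf_eq_prime hu2 L.ne
  have hu : ∃ k : ℕ, orderOf u = 2 ^ k := ⟨1, by rw [hord, pow_one]⟩
  obtain ⟨n, e, hE⟩ := exists_exp (q := 2 ^ 1) L.hH (by rw [pow_one]; exact hu2)
  -- the signs `e ξ`
  have hsg : ∀ ξ, ∃ s : ℤ, e ξ = (s : ℂ) := by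
    intro ξ
    have h1 := hE.root ξ
    rw [pow_one] at h1
    rcases mul_eq_zero.1 (show (e ξ - 1) * (e ξ + 1) = 0 by linear_combination h1) with h | h
    · exact ⟨1, by rw [sub_eq_zero.1 h]; norm_num⟩
    · exact ⟨-1, by rw [eq_neg_of_add_eq_zero_left h]; norm_num⟩
  choose s hs using hsg
  -- the coefficients
  have hspan : ∀ ξ : f, ∃ m : Fin 4 → ℤ, ∀ y : H, ¬ 2 ∣ orderOf y →
      ((ξ : IrrCharacter H) : H → ℂ) y = ∑ i, (m i : ℂ) * (ψ i : H → ℂ) y := fun ξ => L.span ξ ξ.2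
  choose m hm using hspan
  have hrg : ∀ (ξ : f) (i : Fin 4), 8 * (ε i : ℂ) * rg 2 ((ξ : IrrCharacter H) : H → ℂ) (ψ i : H → ℂ) =
      ((4 * (m ξ i * ε i) - ∑ l, m ξ l * ε l : ℤ) : ℂ) := by
    intro ξ i
    have h1 : rg 2 ((ξ : IrrCharacter H) : H → ℂ) (ψ i : H → ℂ) =
        ∑ l, (m ξ l : ℂ) * rg 2 (ψ l : H → ℂ) (ψ i : H → ℂ) := by
      rw [← rg_sum_smul_left]
      rw [rg_def, rg_def, pair_def, pair_def]
      congr 1
      refine Finset.sum_congr rfl fun y _ => ?_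
      by_cases hy : 2 ∣ orderOf y
      · rw [regPart_of_dvd hy, zero_mul, zero_mul]
      · rw [hm ξ y hy, Finset.sum_apply]
        rfl
    rw [h1, Finset.mul_sum]
    have h2 : ∀ l : Fin 4, 8 * (ε i : ℂ) * ((m ξ l : ℂ) * rg 2 (ψ l : H → ℂ) (ψ i : H → ℂ)) =
        ((m ξ l * ε i * (4 * (if l = i then 1 else 0) - ε l * ε i) : ℤ) : ℂ) := by
      intro l
      have h3 := L.gram inferInstance l i
      push_cast at h3 ⊢
      rw [← h3]
      ring
    rw [Finset.sum_congr rfl fun l _ => h2 l, ← Int.cast_sum]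
    congr 1
    have h4 : ∀ l : Fin 4, m ξ l * ε i * (4 * (if l = i then 1 else 0) - ε l * ε i) =
        (if l = i then 4 * (m ξ i * ε i) else 0) - m ξ l * ε l := by
      intro l
      split_ifs with h
      · subst h
        have := hε l
        linear_combination (-(m ξ l * ε l)) * this
      · have := hε i
        linear_combination (-(m ξ l * ε l)) * this
    rw [Finset.sum_congr rfl fun l _ => h4 l, Finset.sum_sub_distrib, Finset.sum_ite_eq' Finset.univ i]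
    simp
  let μ : B → Fin 4 → ℤ := fun χ l => ∑ ξ : f, (n χ ξ : ℤ) * s ξ * (m ξ l * ε l)
  have hw : ∀ (χ : B) (i : Fin 4), 8 * (ε i : ℂ) * wt 2 u ((χ : IrrCharacter G) : G → ℂ)
        (ψ i : H → ℂ) = ((4 * μ χ i - ∑ l, μ χ l : ℤ) : ℂ) := by
    intro χ i
    have h1 := wt_eq_sum hM hE L.ind.1 (χ : IrrCharacter G) 1 (L.mem i)
    rw [pow_one] at h1
    rw [h1, Finset.mul_sum]
    have h2 : ∀ ξ : f, 8 * (ε i : ℂ) * ((n χ ξ : ℂ) * e ξ ^ 1 * rg 2 ((ξ : IrrCharacter H) : H → ℂ) (ψ i : H → ℂ)) =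
        (((n χ ξ : ℤ) * s ξ * (4 * (m ξ i * ε i) - ∑ l, m ξ l * ε l) : ℤ) : ℂ) := by
      intro ξ
      have h3 := hrg ξ i
      rw [pow_one, hs, Int.cast_mul, ← h3]
      push_cast
      ring
    rw [Finset.sum_congr rfl fun ξ _ => h2 ξ, ← Int.cast_sum]
    congr 1
    show _ = 4 * (∑ ξ : f, (n χ ξ : ℤ) * s ξ * (m ξ i * ε i)) - ∑ l, ∑ ξ : f, (n χ ξ : ℤ) * s ξ * (m ξ l * ε l)
    rw [Finset.sum_comm, Finset.mul_sum, ← Finset.sum_sub_distrib]
    refine Finset.sum_congr rfl fun ξ _ => ?_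
    rw [← Finset.mul_sum]
    ring
  -- valuations
  have hval : ∀ (χ : B) (i : Fin 4), V2 (blockHeight 2 B ((χ : IrrCharacter G) : G → ℂ)) (4 * μ χ i - ∑ l, μ χ l) := by
    intro χ i
    have h1 := wt_unit hM hE hu L.hH L.ind (by rw [L.deff, L.defB]) χ.2 (L.mem i) (L.height _ (L.mem i))
    rw [L.defB] at h1
    push_cast at h1
    -- the sign
    have h2 : ((4 * μ χ i - ∑ l, μ χ l : ℤ) : ℂ) / (2 : ℂ) ^ blockHeight 2 B ((χ : IrrCharacter G) : G → ℂ) =
        (ε i : ℂ) * ((2 : ℂ) ^ 3 * wt 2 u ((χ : IrrCharacter G) : G → ℂ) (ψ i : H → ℂ) /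
          (2 : ℂ) ^ blockHeight 2 B ((χ : IrrCharacter G) : G → ℂ)) := by
      rw [← hw χ i]
      ring
    refine v2_of_unit hM ?_ ?_
    · rw [h2]
      exact memLocalRing_mul (memLocalRing_intCast _) h1.1
    · rw [h2]
      intro h3
      apply h1.2
      have h4 := memLocalIdeal_mul_left (memLocalRing_intCast (M := M) (ε i)) h3
      rwa [← mul_assoc, hεc, one_mul] at h4
  -- Gram
  have hgram : ∀ i l : Fin 4, ∑ χ : B, (4 * μ χ i - ∑ k, μ χ k) * (4 * μ χ l - ∑ k, μ χ k) =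
      8 * (4 * (if i = l then 1 else 0) - 1) := by
    intro i l
    have h1 := sum_wt_mul_conj_wt hM hu L.hH L.ind (L.mem i) (L.mem l)
    have h2 : ∀ χ : B, conj (wt 2 u ((χ : IrrCharacter G) : G → ℂ) (ψ l : H → ℂ)) =
        wt 2 u ((χ : IrrCharacter G) : G → ℂ) (ψ l : H → ℂ) := by
      intro χ
      have h3 : wt 2 u ((χ : IrrCharacter G) : G → ℂ) (ψ l : H → ℂ) =
          (ε l : ℂ) * ((4 * μ χ l - ∑ k, μ χ k : ℤ) : ℂ) / 8 := by
        rw [← hw χ l]
        linear_combination (-(wt 2 u ((χ : IrrCharacter G) : G → ℂ) (ψ l : H → ℂ))) * hεc l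
      rw [h3, map_div₀, map_mul, map_intCast, map_intCast]
      congr 1
      exact map_ofNat _ _
    have h4 : ((∑ χ : B, (4 * μ χ i - ∑ k, μ χ k) * (4 * μ χ l - ∑ k, μ χ k) : ℤ) : ℂ) =
        64 * (ε i : ℂ) * (ε l : ℂ) * rg 2 (ψ l : H → ℂ) (ψ i : H → ℂ) := by
      rw [← h1, Finset.mul_sum, Int.cast_sum]
      refine Finset.sum_congr rfl fun χ _ => ?_
      rw [Int.cast_mul, ← hw χ i, ← hw χ l, h2]
      ring
    have h5 := L.gram inferInstance l i
    have h6 : (64 : ℂ) * (ε i : ℂ) * (ε l : ℂ) * rg 2 (ψ l : H → ℂ) (ψ i : H → ℂ) =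
        ((8 * ε i * ε l * (4 * (if l = i then 1 else 0) - ε l * ε i) : ℤ) : ℂ) := by
      push_cast at h5 ⊢
      linear_combination (8 * (ε i : ℂ) * (ε l : ℂ)) * h5
    rw [h6] at h4
    have h7 := Int.cast_injective h4
    rw [h7]
    by_cases hil : i = l
    · subst hil
      have := hε i
      rw [if_pos rfl]
      linear_combination (32 - 8 * (ε i * ε i) - 8) * this
    · rw [if_neg hil, if_neg (Ne.symm hil)]
      have h8 := hε i
      have h9 := hε l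
      linear_combination (-8 * (ε l * ε l)) * h8 - 8 * h9
  -- the rows
  have hS : ∀ (χ : B), ∑ k, μ χ k = μ χ 0 + μ χ 1 + μ χ 2 + μ χ 3 := fun χ => Fin.sum_univ_four _
  have hrow : ∀ i l : Fin 4, i ≠ 3 → l ≠ 3 → ∑ χ : B, (μ χ i - μ χ 3) * (μ χ l - μ χ 3) = if i = l then 4 else 2 := by
    intro i l hi hl
    have h1 : ∑ χ : B, (4 * (μ χ i - μ χ 3)) * (4 * (μ χ l - μ χ 3)) =
        ∑ χ : B, (4 * μ χ i - ∑ k, μ χ k) * (4 * μ χ l - ∑ k, μ χ k) -
        ∑ χ : B, (4 * μ χ i - ∑ k, μ χ k) * (4 * μ χ 3 - ∑ k, μ χ k) -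
        ∑ χ : B, (4 * μ χ 3 - ∑ k, μ χ k) * (4 * μ χ l - ∑ k, μ χ k) +
        ∑ χ : B, (4 * μ χ 3 - ∑ k, μ χ k) * (4 * μ χ 3 - ∑ k, μ χ k) := by
      rw [← Finset.sum_sub_distrib, ← Finset.sum_sub_distrib, ← Finset.sum_add_distrib]
      exact Finset.sum_congr rfl fun χ _ => by ring
    rw [hgram, hgram, hgram, hgram, if_neg hi, if_neg (Ne.symm hl), if_pos rfl] at h1
    have h2 : ∑ χ : B, (4 * (μ χ i - μ χ 3)) * (4 * (μ χ l - μ χ 3)) =
        16 * ∑ χ : B, (μ χ i - μ χ 3) * (μ χ l - μ χ 3) := by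
      rw [Finset.mul_sum]
      exact Finset.sum_congr rfl fun χ _ => by ring
    rw [h2] at h1
    split_ifs at h1 ⊢ <;> linarith
  refine ⟨μ, hw, ?_⟩
  refine ⟨?_, ?_, ?_, ?_, ?_, ?_, fun χ => ?_, fun χ => ?_, fun χ => ?_, fun χ => ?_⟩
  · exact (hrow 0 0 (by decide) (by decide)).trans (by decide)
  · exact (hrow 1 1 (by decide) (by decide)).trans (by decide)
  · exact (hrow 2 2 (by decide) (by decide)).trans (by decide)
  · exact (hrow 0 1 (by decide) (by decide)).trans (by decide)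
  · exact (hrow 0 2 (by decide) (by decide)).trans (by decide)
  · exact (hrow 1 2 (by decide) (by decide)).trans (by decide)
  · have h1 := hval χ 3
    rw [hS χ] at h1
    have h2 : (μ χ 0 - μ χ 3 + (μ χ 1 - μ χ 3) + (μ χ 2 - μ χ 3)) =
        -(4 * μ χ 3 - (μ χ 0 + μ χ 1 + μ χ 2 + μ χ 3)) := by ring
    show V2 _ (μ χ 0 - μ χ 3 + (μ χ 1 - μ χ 3) + (μ χ 2 - μ χ 3))
    rw [h2]
    exact ⟨(dvd_neg).2 h1.1, fun h => h1.2 ((dvd_neg).1 h)⟩
  · have h1 := hval χ 0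
    rw [hS χ] at h1
    show V2 _ (4 * (μ χ 0 - μ χ 3) - (μ χ 0 - μ χ 3 + (μ χ 1 - μ χ 3) + (μ χ 2 - μ χ 3)))
    convert h1 using 1
    ring
  · have h1 := hval χ 1
    rw [hS χ] at h1
    show V2 _ (4 * (μ χ 1 - μ χ 3) - (μ χ 0 - μ χ 3 + (μ χ 1 - μ χ 3) + (μ χ 2 - μ χ 3)))
    convert h1 using 1
    ring
  · have h1 := hval χ 2
    rw [hS χ] at h1
    show V2 _ (4 * (μ χ 2 - μ χ 3) - (μ χ 0 - μ χ 3 + (μ χ 1 - μ χ 3) + (μ χ 2 - μ χ 3)))
    convert h1 using 1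
    ring

end Cfsg.Agent.H639.KKLRows
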